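import Cfsg.Agent.Lib.LK.PN

/-!
# The base case for `p = 2`, faithful action
-/

set_option autoImplicit false

namespace Cfsg.Agent.LK

open List Cfsg.Agent.Tr Subgroup

universe u v w

section

variable {G Ω M : Type*} [Group G] [MulAction G Ω] [AddCommGroup M] [DistribMulAction G M]
variable {H K Y P Q T C B S : Subgroup G} {p k : ℕ} {D : AddSubgroup M} {𝒬 : Subgroup G → Prop}

theorem le_st {l : List Ω} : P ≤ st H l ↔ P ≤ H ∧ ∀ x ∈ l, ∀ g ∈ P, g • x = x :=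
  ⟨fun h => ⟨h.trans (st_le l), fun x hx _ hg => (h hg).2 x hx⟩,
    fun h g hg => ⟨h.1 hg, fun x hx => h.2 x hx g hg⟩⟩

theorem st_subset {l l' : List Ω} (h : ∀ x ∈ l', x ∈ l) : st H l ≤ st H l' :=
  fun _ a => ⟨a.1, fun x hx => a.2 x (h x hx)⟩

theorem Up.sub (h : Up H 𝒬) {l l' : List Ω} (a : 𝒬 (st H l)) (b : ∀ x ∈ l', x ∈ l := by simp) :
    𝒬 (st H l') := h.up _ _ (st_subset b) (st_le _) a

theorem dS_triple {Sg : List Ω → Prop} (f : List Ω → M) {x y z : Ω} (h1 : Sg [x, y])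
    (h2 : Sg [y, z]) (h3 : Sg [x, z]) : dS Sg f [x, y, z] = f [x, y] + f [y, z] - f [x, z] := by
  rw [dS, cb_cons, cb_cons, cb_cons, cb_nil, ind_pos _ h1, ind_pos _ h2, ind_pos _ h3]; abel

variable (Ω) in
/-- Vanishing at length two, for functions on pairs. -/
def V2 (H : Subgroup G) (𝒬 : Subgroup G → Prop) (D : AddSubgroup M) : Prop :=
  ∀ F : Ω → Ω → M, (∀ x y, 𝒬 (st H [x, y]) → F x y ∈ D) →
    (∀ g ∈ H, ∀ x y, 𝒬 (st H [x, y]) → F (g • x) (g • y) = g • F x y) →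
    (∀ x y z, 𝒬 (st H [x, y, z]) → F x y + F y z = F x z) →
    ∃ s : Ω → M, (∀ x, 𝒬 (st H [x]) → s x ∈ D) ∧
      (∀ g ∈ H, ∀ x, 𝒬 (st H [x]) → s (g • x) = g • s x) ∧
      ∀ x y, 𝒬 (st H [x, y]) → F x y = s y - s x

theorem vl2_iff (hQ : Up H 𝒬) : VL Ω H 2 𝒬 D ↔ V2 Ω H 𝒬 D := by
  constructor
  · intro h F h1 h2 h3
    obtain ⟨s, hs, e⟩ := h (fun l => match l with | [x, y] => F x y | _ => 0)
      ⟨fun l a b => by
        obtain ⟨x, y, rfl⟩ := length_eq_two.1 a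
        refine ⟨h1 x y b, fun g hg => ?_⟩
        have := h2 g hg.1 x y b
        rw [hg.2 x (by simp), hg.2 y (by simp)] at this
        exact this.symm, fun g hg l a b => by
        obtain ⟨x, y, rfl⟩ := length_eq_two.1 a
        exact sub_eq_zero.2 (h2 g hg x y b)⟩ fun l a b => by
      obtain ⟨x, y, z, rfl⟩ := length_eq_three.1 a
      rw [dS_triple _ (hQ.sub b) (hQ.sub b) (hQ.sub b)]
      exact sub_eq_zero.2 (h3 x y z b)
    refine ⟨fun x => s [x], fun x a => (hs.mem [x] rfl a).1,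
      fun g hg x a => sub_eq_zero.1 (hs.eqv g hg [x] rfl a), fun x y a => ?_⟩
    have := e [x, y] rfl a
    rw [dS_pair _ (hQ.sub a) (hQ.sub a)] at this
    exact sub_eq_zero.1 this
  · intro h f hf hc
    obtain ⟨s, h1, h2, h3⟩ := h (fun x y => f [x, y]) (fun x y a => (hf.mem [x, y] rfl a).1)
      (fun g hg x y a => sub_eq_zero.1 (hf.eqv g hg [x, y] rfl a)) fun x y z a => by
        have := hc [x, y, z] rfl a
        rw [dS_triple _ (hQ.sub a) (hQ.sub a) (hQ.sub a)] at this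
        exact sub_eq_zero.1 this
    refine ⟨fun l => match l with | [x] => s x | _ => 0, ⟨fun l a b => ?_, fun g hg l a b => ?_⟩,
      fun l a b => ?_⟩
    · obtain ⟨x, rfl⟩ := length_eq_one_iff.1 a
      refine ⟨h1 x b, fun g hg => ?_⟩
      have := h2 g hg.1 x b
      rw [hg.2 x (by simp)] at this
      exact this.symm
    · obtain ⟨x, rfl⟩ := length_eq_one_iff.1 a
      exact sub_eq_zero.2 (h2 g hg x b)
    · obtain ⟨x, y, rfl⟩ := length_eq_two.1 a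
      rw [dS_pair _ (hQ.sub b) (hQ.sub b)]
      exact sub_eq_zero.2 (h3 x y b)

theorem smul_mk_iff {a g : G} : a • (g : G ⧸ S) = (g : G ⧸ S) ↔ a ∈ cj g S := by
  rw [mem_cj, MulAction.Quotient.smul_mk, eq_comm, QuotientGroup.eq, smul_eq_mul, mul_assoc]

theorem om_quot [Finite G] [Fact p.Prime] (hS : SylowIn p S ⊤) : Om p G (G ⧸ S) :=
  ⟨fun x => by
    obtain ⟨g, rfl⟩ := QuotientGroup.mk_surjective x
    exact (isPGroup_cj g hS.isPGroup).to_le fun a ha => smul_mk_iff.1 ha, fun P hP => by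
    obtain ⟨g, -, e⟩ := hS.exists_cj_le hP le_top
    exact ⟨(g⁻¹ : G), fun a ha => smul_mk_iff.2 (cj_le_iff_le_cj_inv.1 e ha)⟩⟩

theorem tv_conj (hi : Inv H D) {g t : G} (hg : g ∈ H) (h : Tv D t) : Tv D (g * t * g⁻¹) := by
  obtain ⟨⟨d, hd, e⟩, c, hc⟩ := h
  refine ⟨⟨g • d, hi g hg d hd, by
    rwa [← mul_smul, inv_mul_cancel_right, mul_smul, Ne, smul_left_cancel_iff]⟩, g • c,
    fun x hx => ?_⟩
  rw [mul_smul, mul_smul]
  rcases hc _ (hi _ (H.inv_mem hg) x hx) with a | a <;> simp [a]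

theorem inv_top (H : Subgroup G) : Inv H (⊤ : AddSubgroup M) := fun _ _ _ _ => trivial

theorem sameAx_conj (g : G) {t t' : G} (h : SameAx M t t') :
    SameAx M (g * t * g⁻¹) (g * t' * g⁻¹) :=
  ⟨tv_conj (inv_top ⊤) trivial h.1, tv_conj (inv_top ⊤) trivial h.2.1, by simpa using h.2.2.1,
    fun d => by simpa only [mul_smul, ← eq_inv_smul_iff] using h.2.2.2 (g⁻¹ • d)⟩

theorem t1_conj (g : G) {t : G} (h : T1 M t) : T1 M (g * t * g⁻¹) :=
  let ⟨_, a⟩ := h; ⟨_, sameAx_conj g a⟩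

theorem t0_conj (g : G) {t : G} (h : T0 M t) : T0 M (g * t * g⁻¹) :=
  ⟨tv_conj (inv_top ⊤) trivial h.1, fun a => h.2 (by simpa [mul_assoc] using t1_conj g⁻¹ a)⟩

theorem up_pair : Up (⊤ : Subgroup G) (Pair M) :=
  ⟨fun g _ _ _ ⟨_, a, _, b, c⟩ => ⟨_, conj_mem_cj.2 a, _, conj_mem_cj.2 b, sameAx_conj g c⟩,
    fun _ _ a _ ⟨t, b, t', c, d⟩ => ⟨t, a b, t', a c, d⟩⟩

theorem up_ex {R : G → Prop} (h : ∀ g ∈ H, ∀ t, R t → R (g * t * g⁻¹)) :
    Up H fun P => ∃ t ∈ P, R t :=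
  ⟨fun g hg _ _ ⟨t, a, b⟩ => ⟨_, conj_mem_cj.2 a, h g hg t b⟩, fun _ _ a _ ⟨t, b, c⟩ => ⟨t, a b, c⟩⟩

variable (M) in
/-- The subgroup generated by the transvections of `P` with a same-axis partner. -/
def L1 (P : Subgroup G) : Subgroup G := closure {t | t ∈ P ∧ T1 M t}

theorem L1_le (P : Subgroup G) : L1 M P ≤ P := (closure_le _).2 fun _ a => a.1

theorem L1_mono (h : P ≤ Q) : L1 M P ≤ L1 M Q := closure_mono fun _ a => ⟨h a.1, a.2⟩

theorem L1_le_L1 (h : L1 M P ≤ Q) : L1 M P ≤ L1 M Q :=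
  closure_mono fun _ a => ⟨h (subset_closure a), a.2⟩

theorem L1_cj (g : G) (P : Subgroup G) : L1 M (cj g P) = cj g (L1 M P) := by
  rw [L1, L1, cj_closure]
  congr 1
  ext t
  constructor
  · rintro ⟨a, b⟩
    exact ⟨g⁻¹ * t * g, ⟨mem_cj.1 a, by simpa using t1_conj g⁻¹ b⟩, by group⟩
  · rintro ⟨s, a, rfl⟩
    exact ⟨conj_mem_cj.2 a.1, t1_conj g a.2⟩

end

theorem b2 (hT : TVStmt.{u, v}) {G : Type u} {M : Type v} [Group G] [Finite G] [AddCommGroup M]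
    [Finite M] [DistribMulAction G M] (ht : Tor 2 (⊤ : AddSubgroup M))
    (hf : ∀ g : G, (∀ d : M, g • d = d) → g = 1) (hO : pCore 2 G = ⊥) {S : Subgroup G}
    (hS : SylowIn 2 S ⊤) {𝒩 : Subgroup G → Prop} (hN : Up ⊤ 𝒩)
    (hs : ∀ P : Subgroup G, IsPGroup 2 P → 𝒩 P → 𝒩 (Jn 2 (⊤ : AddSubgroup M) P)) :
    V2 (G ⧸ S) ⊤ (fun P => 𝒩 P ∨ ∃ t ∈ P, Tv (⊤ : AddSubgroup M) t) (⊤ : AddSubgroup M) := by
  obtain ⟨t0, t1, t2⟩ := hT ht hf
  obtain ⟨t2, t3⟩ := t2 hO S hS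
  have hΩ := om_quot hS
  have u1 : Up ⊤ fun P => 𝒩 P ∨ Pair M P := hN.or up_pair
  have u2 : Up ⊤ fun P => (𝒩 P ∨ Pair M P) ∨ ∃ t ∈ P, T1 M t :=
    u1.or (up_ex fun g _ _ => t1_conj g)
  have s1 : ∀ P : Subgroup G, IsPGroup 2 P → 𝒩 P ∨ Pair M P → 𝒩 (Jn 2 (⊤ : AddSubgroup M) P) ∨
      Pair M (Jn 2 (⊤ : AddSubgroup M) P) := fun P a b => b.imp (hs P a) (t0 P)
  have s2 : ∀ P T : Subgroup G, IsPGroup 2 P → (∃ t ∈ P, T1 M t) → ¬ Pair M P →
      SylowIn 2 T (normalizer (L1 M P : Set G)) → Pair M T := fun P T a ⟨t, b, c⟩ d =>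
    t1 _ T (a.to_le (L1_le P)) (le_antisymm (L1_le_L1 le_rfl) (L1_le _))
      (fun e => by
        have : t ∈ L1 M P := subset_closure ⟨b, c⟩
        rw [e, mem_bot] at this
        obtain ⟨_, ⟨⟨x, -, f⟩, -⟩, -⟩ := c
        exact f (by rw [this, one_smul]))
      fun e => d (up_pair.up _ _ (L1_le P) le_top e)
  have v2 : VL (G ⧸ S) ⊤ 2 (fun P => (𝒩 P ∨ Pair M P) ∨ ∃ t ∈ P, T1 M t) (⊤ : AddSubgroup M) := by
    refine vsplit1 u2.fam (cs_fix (inv_top ⊤)) u1 (fun _ _ => Or.inl) ?_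
      (nsat hΩ (inv_top ⊤) ht u1 fun P _ => s1 P)
    refine fl_mono hΩ le_rfl (u2.fam.diff u1) (cs_fix (inv_top ⊤)) (L1 M)
      (fun g _ P _ _ _ => L1_cj g P) (fun _ _ a _ _ _ _ => L1_mono a) fun P _ b c => ?_
    have hc : Ctx 2 (⊤ ⊓ normalizer (L1 M P : Set G)) (L1 M P) ((⊤ : AddSubgroup M) ⊓ fix M (L1 M P)) :=
      ⟨(inv_top ⊤).inf_fix _, ht.mono le_top, le_inf le_top le_normalizer, inf_le_right,
        b.to_le (L1_le P)⟩
    have hU : Up (⊤ ⊓ normalizer (L1 M P : Set G))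
        fun R => L1 M P ≤ R ∧ ((𝒩 R ∨ Pair M R) ∨ L1 M P < L1 M R) :=
      (up_le inf_le_right).and ((u1.mono le_top).or
        (up_lt_lab inf_le_right (fun g _ => L1_cj g) fun _ _ => L1_mono))
    obtain ⟨T, hT⟩ := exists_sylowIn (p := 2) (⊤ ⊓ normalizer (L1 M P : Set G))
    have c1 := c.1.resolve_left c.2
    refine ⟨_, _, _, fun R _ _ => ⟨⟨fun e => ⟨⟨?_, fun f => e.2 ⟨e.1, Or.inl f⟩⟩, ?_⟩,
      fun e => ⟨e.2 ▸ L1_le _, fun f => f.2.elim e.1.2 e.2.not_gt⟩⟩, fun e => ⟨?_, rfl⟩⟩,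
      vl_diff hΩ hc hU (fun _ _ e => e.1) (v1J hΩ hT hU (NL.Jn_le T) (fun _ =>
        ⟨NL.le_Jn (hc.le_syl hT) (nt_of_fix inf_le_right), Or.inl (Or.inr ?_)⟩)
        (NL.norm_lemma hc.inv hc.tor hT))⟩
    · obtain ⟨t, a, b⟩ := c1
      exact Or.inr ⟨t, e.1 (subset_closure ⟨a, b⟩), b⟩
    · exact ((L1_le_L1 e.1).eq_or_lt.resolve_right fun f => e.2 ⟨e.1, Or.inr f⟩).symm
    · rw [inf_assoc, inf_eq_right.2 (fix_anti e.1)]
    · exact up_pair.up _ _ (Jn_mono le_rfl le_top) le_top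
        (t0 T (s2 P T b c1 (fun e => c.2 (Or.inr e)) (by rwa [top_inf_eq] at hT)))
  have v2' := (vl2_iff u2).1 v2
  have hsub : ∀ P, (𝒩 P ∨ Pair M P) ∨ (∃ t ∈ P, T1 M t) → 𝒩 P ∨ ∃ t ∈ P, Tv (⊤ : AddSubgroup M) t := by
    rintro P ((a | ⟨t, a, _, _, b⟩) | ⟨t, a, _, b⟩)
    exacts [Or.inl a, Or.inr ⟨t, a, b.1⟩, Or.inr ⟨t, a, b.1⟩]
  have hcase : ∀ P, (𝒩 P ∨ ∃ t ∈ P, Tv (⊤ : AddSubgroup M) t) →
      ((𝒩 P ∨ Pair M P) ∨ ∃ t ∈ P, T1 M t) ∨ ∃ t ∈ P, T0 M t := by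
    rintro P (a | ⟨t, a, b⟩)
    · exact Or.inl (Or.inl (Or.inl a))
    · by_cases c : T1 M t
      exacts [Or.inl (Or.inr ⟨t, a, c⟩), Or.inr ⟨t, a, b, c⟩]
  have st1 : ∀ g : G, st ⊤ [(g : G ⧸ S)] = cj g S := fun g => by
    ext a; rw [mem_st, ← smul_mk_iff]; simp only [mem_top, List.mem_singleton, forall_eq, true_and]
  intro F _ h2 h3
  have key : ∀ F : G ⧸ S → G ⧸ S → M,
      (∀ g : G, ∀ x y, (𝒩 (st ⊤ [x, y]) ∨ ∃ t ∈ st (⊤ : Subgroup G) [x, y],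
        Tv (⊤ : AddSubgroup M) t) → F (g • x) (g • y) = g • F x y) →
      (∀ x y z, (𝒩 (st ⊤ [x, y, z]) ∨ ∃ t ∈ st (⊤ : Subgroup G) [x, y, z],
        Tv (⊤ : AddSubgroup M) t) → F x y + F y z = F x z) →
      ∃ s : G ⧸ S → M, (∀ (g : G) x, s (g • x) = g • s x) ∧
          ∀ (t : G) x y, T0 M t → t • x = x → t • y = y → F x y = s y - s x := fun F a b =>
    t2 F (fun g t x y c d e => a g x y (Or.inr ⟨t, ⟨trivial, by simp [d, e]⟩, c.1⟩))
      fun t x y z c d e f => b x y z (Or.inr ⟨t, ⟨trivial, by simp [d, e, f]⟩, c.1⟩)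
  by_cases hq : (𝒩 S ∨ Pair M S) ∨ ∃ t ∈ S, T1 M t
  · have q1 : 𝒩 S ∨ Pair M S := by
      by_contra a
      exact a (Or.inr (s2 S S hS.isPGroup (hq.resolve_left a) (fun e => a (Or.inr e))
        (hS.mono (le_normalizer_of_cj fun g hg => by rw [← L1_cj, cj_eq_of_mem hg]) le_top)))
    have q2 : ∀ x : G ⧸ S, (𝒩 (st ⊤ [x]) ∨ Pair M (st (⊤ : Subgroup G) [x])) ∨
        ∃ t ∈ st (⊤ : Subgroup G) [x], T1 M t := fun x => by
      obtain ⟨g, rfl⟩ := QuotientGroup.mk_surjective x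
      rw [st1]; exact u2.inv g trivial S le_top hq
    obtain ⟨s, -, e1, e2⟩ := v2' F (fun _ _ _ => trivial) (fun g hg x y a => h2 g hg x y (hsub _ a))
      fun x y z a => h3 x y z (hsub _ a)
    obtain ⟨s₀, f1, f2⟩ := key (fun x y => F x y - (s y - s x)) (fun g x y a => by
      rw [h2 g trivial x y a, e1 g trivial x (q2 x), e1 g trivial y (q2 y), smul_sub, smul_sub])
      fun x y z a => by rw [← h3 x y z a]; abel
    have f3 : ∀ g : G, s₀ (g : G ⧸ S) = g • s₀ ((1 : G) : G ⧸ S) := fun g => by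
      rw [← f1, MulAction.Quotient.smul_mk, smul_eq_mul, mul_one]
    have f4 := t3 (s₀ ((1 : G) : G ⧸ S)) (fun g hg => by
      rw [← f1, smul_mk_iff.2 (by rwa [cj_one])]) fun g t a b c d => by
        have e := f2 t ((1 : G) : G ⧸ S) (g : G ⧸ S) a (smul_mk_iff.2 (by rwa [cj_one]))
          (smul_mk_iff.2 c)
        rw [← e2 _ _ (Or.inl (u1.up _ _ (by
          rw [st_cons, st1, st1, cj_one]; exact le_inf (NL.Jn_le S) d) le_top
          (s1 S hS.isPGroup q1))), sub_self, f3 g] at e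
        exact (sub_eq_zero.1 e.symm)
    refine ⟨s, fun _ _ => trivial, fun g hg x _ => e1 g hg x (q2 x), fun x y a => ?_⟩
    rcases hcase _ a with b | ⟨t, b, c⟩
    · exact e2 x y b
    · have e := f2 t x y c (b.2 x (by simp)) (b.2 y (by simp))
      obtain ⟨g, rfl⟩ := QuotientGroup.mk_surjective x
      obtain ⟨h, rfl⟩ := QuotientGroup.mk_surjective y
      have := f4 (g⁻¹ * h) (g⁻¹ * t * g⁻¹⁻¹) (t0_conj _ c)
        (by rw [inv_inv]; exact mem_cj.1 (smul_mk_iff.1 (b.2 _ (by simp))))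
        (by rw [cj_mul, conj_mem_cj]; exact smul_mk_iff.1 (b.2 _ (by simp)))
      rw [mul_smul, inv_smul_eq_iff] at this
      rw [f3 g, f3 h, this, sub_self] at e
      exact sub_eq_zero.1 e
  · obtain ⟨s, f1, f2⟩ := key F (fun g => h2 g trivial) h3
    refine ⟨s, fun _ _ => trivial, fun g _ x _ => f1 g x, fun x y a => ?_⟩
    rcases hcase _ a with b | ⟨t, b, c⟩
    · obtain ⟨g, rfl⟩ := QuotientGroup.mk_surjective x
      have := u2.sub (l' := [(g : G ⧸ S)]) b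
      rw [st1, inv_iff u2.inv trivial le_top] at this
      exact absurd this hq
    · exact f2 t x y c (b.2 x (by simp)) (b.2 y (by simp))

end Cfsg.Agent.LK
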