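import Cfsg.Agent.Lib.LK.Defs
import Cfsg.Agent.Lib.Transfer.Residual

/-!
Row BEST: best offenders.
-/

set_option autoImplicit false

namespace Cfsg.Agent.LK

open Cfsg Subgroup Cfsg.Agent.Tr MulAction

universe u v

namespace Bst

variable {G : Type u} {M : Type v} [Group G] [AddCommGroup M] [DistribMulAction G M]

theorem card_sup_inf (U W : AddSubgroup M) :
    Nat.card (U ⊔ W : AddSubgroup M) * Nat.card (U ⊓ W : AddSubgroup M) =
      Nat.card U * Nat.card W := by
  have h : ∀ A B : AddSubgroup M, Nat.card (A ⊓ B : AddSubgroup M) * A.relIndex B = Nat.card B :=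
    fun A B => by
      rw [← AddSubgroup.card_mul_index (A.addSubgroupOf B), AddSubgroup.relIndex,
        ← AddSubgroup.inf_addSubgroupOf_right,
        Nat.card_congr (AddSubgroup.addSubgroupOfEquivOfLe inf_le_right).toEquiv]
  rw [← h W (U ⊔ W), inf_eq_left.2 le_sup_right, AddSubgroup.relIndex_sup_right, ← h W U,
    inf_comm W U]
  ring

/-- `m ↦ a m - m`. -/
def dl (a : G) : M →+ M := DistribSMul.toAddMonoidHom M a - AddMonoidHom.id M

theorem dl_apply (a : G) (m : M) : dl a m = a • m - m := rfl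

theorem card_dl (a : G) (D : AddSubgroup M) :
    Nat.card (D ⊓ fix M (zpowers a) : AddSubgroup M) * Nat.card (D.map (dl a)) = Nat.card D := by
  have e : fix M (zpowers a) = (dl a : M →+ M).ker := by
    ext m
    rw [AddMonoidHom.mem_ker, dl_apply, sub_eq_zero]
    exact ⟨fun h => h a (mem_zpowers a), fun h g hg =>
      (zpowers_le.2 (mem_stabilizer_iff.2 h) : zpowers a ≤ stabilizer G m) hg⟩
  rw [e, ← AddSubgroup.relIndex_ker, inf_comm,
    ← AddSubgroup.card_mul_index ((dl a : M →+ M).ker.addSubgroupOf D), AddSubgroup.relIndex,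
    ← AddSubgroup.inf_addSubgroupOf_right,
    Nat.card_congr (AddSubgroup.addSubgroupOfEquivOfLe inf_le_right).toEquiv]

theorem best_mono [Finite G] {D D₁ : AddSubgroup M} [Finite D] {B : Subgroup G} (h₁ : D₁ ≤ D)
    (h : Best D B) : Best D₁ B := fun B' hB' => by
  have : Finite (D ⊓ fix M B' : AddSubgroup M) :=
    Finite.of_injective _ (AddSubgroup.inclusion_injective inf_le_left)
  have : Finite (D ⊓ fix M B : AddSubgroup M) :=
    Finite.of_injective _ (AddSubgroup.inclusion_injective inf_le_left)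
  have e := card_sup_inf (D₁ ⊓ fix M B') (D ⊓ fix M B)
  have e₁ : D₁ ⊓ fix M B' ⊓ (D ⊓ fix M B) = D₁ ⊓ fix M B :=
    le_antisymm (inf_le_inf inf_le_left inf_le_right)
      (le_inf (inf_le_inf_left _ (fix_anti hB')) (inf_le_inf_right _ h₁))
  have l := AddSubgroup.card_le_of_le (H := D₁ ⊓ fix M B' ⊔ D ⊓ fix M B) (K := D ⊓ fix M B')
    (sup_le (inf_le_inf_right _ h₁) (inf_le_inf_left _ (fix_anti hB')))
  refine Nat.le_of_mul_le_mul_right ?_ (Nat.card_pos (α := (D ⊓ fix M B : AddSubgroup M)))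
  rw [mul_assoc, ← e, e₁, ← mul_assoc, mul_right_comm (Nat.card B)]
  exact Nat.mul_le_mul_right _ ((Nat.mul_le_mul_left _ l).trans (h B' hB'))

theorem best_tv [Finite G] {D : AddSubgroup M} [Finite D] {t : G} (h : Tv D t) :
    Best D (zpowers t) := fun B' hB' => by
  obtain rfl | hlt := hB'.eq_or_lt
  · rfl
  obtain ⟨-, c, hc⟩ := h
  have l₁ : Nat.card (D.map (dl t)) ≤ 2 := by
    refine (Set.ncard_le_ncard (t := {0, c}) ?_).trans ((Set.ncard_insert_le _ _).trans (by simp))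
    rintro _ ⟨d, hd, rfl⟩
    rcases hc d hd with e | e <;> simp [dl_apply, e]
  have l₂ : Nat.card B' * 2 ≤ Nat.card (zpowers t) := by
    obtain ⟨k, hk⟩ := card_dvd_of_le hB'
    have : Nat.card B' < Nat.card (zpowers t) := 
      not_le.1 fun h => hlt.ne (eq_of_le_of_card_ge hB' h)
    rw [hk] at this ⊢
    refine Nat.mul_le_mul_left _ ?_
    rcases k with _ | _ | k <;> simp_all
  have l₃ := AddSubgroup.card_le_of_le (H := D ⊓ fix M B') (K := D) inf_le_left
  rw [← card_dl t D] at l₃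
  calc _ ≤ Nat.card B' * (Nat.card (D ⊓ fix M (zpowers t) : AddSubgroup M) * 2) :=
        Nat.mul_le_mul_left _ (l₃.trans (Nat.mul_le_mul_left _ l₁))
    _ = _ := by ring
    _ ≤ _ := Nat.mul_le_mul_right _ l₂

variable {p : ℕ} [hp : Fact p.Prime]

theorem orbit_sum [Finite G] {N : Subgroup G} [N.Normal] (hN : N.index = p) {a : G} (ha : a ∉ N)
    {w : M} (hw : stabilizer G w ≤ N) :
    ∑ᶠ x ∈ orbit G w, x = ∑ i ∈ Finset.range p, a ^ i • ∑ᶠ x ∈ orbit N w, x := by
  have ha' : (a : G ⧸ N) ≠ 1 := fun h => ha ((QuotientGroup.eq_one_iff a).1 h)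
  have ho : orderOf (a : G ⧸ N) = p := orderOf_eq_prime (by rw [← hN]; exact pow_card_eq_one') ha'
  have e : orbit G w = ⋃ i ∈ (Finset.range p : Set ℕ), (a ^ i • ·) '' orbit N w := by
    ext x
    simp only [Set.mem_iUnion, Set.mem_image, mem_orbit_iff]
    refine ⟨?_, ?_⟩
    · rintro ⟨g, rfl⟩
      obtain ⟨i, hi⟩ := mem_powers_of_prime_card (p := p) hN ha' (g' := (g : G ⧸ N))
      refine ⟨i % p, by simpa using Nat.mod_lt _ hp.out.pos, _, ⟨⟨(a ^ (i % p))⁻¹ * g, ?_⟩, rfl⟩, ?_⟩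
      · rw [← QuotientGroup.eq, QuotientGroup.mk_pow, ← ho, pow_mod_orderOf]
        exact hi
      · simp [Subgroup.smul_def, mul_smul]
    · rintro ⟨i, -, _, ⟨h, rfl⟩, rfl⟩
      exact ⟨a ^ i * h, mul_smul _ _ _⟩
  have f : (orbit N w).Finite := Set.finite_range _
  rw [e, finsum_mem_biUnion ?_ (Finset.finite_toSet _) fun i _ => f.image _, finsum_mem_coe_finset]
  · refine Finset.sum_congr rfl fun i _ => ?_
    rw [finsum_mem_image (MulAction.injective _).injOn, smul_finsum_mem f]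
  · intro i hi j hj hij
    refine Set.disjoint_left.2 ?_
    rintro _ ⟨_, ⟨h, rfl⟩, rfl⟩ ⟨_, ⟨h', rfl⟩, e⟩
    refine hij (pow_injOn_Iio_orderOf (x := (a : G ⧸ N)) (by simpa [ho] using hi)
      (by simpa [ho] using hj) ?_)
    have : (a ^ i * h)⁻¹ * (a ^ j * h') ∈ N := hw (by
      rw [mem_stabilizer_iff, mul_smul, inv_smul_eq_iff, mul_smul, mul_smul]; exact e)
    rw [← QuotientGroup.eq] at this
    simpa using this

theorem le_of_card_lt {D U W : AddSubgroup M} [Finite D] (hT : Tor p D) (hW : W ≤ D) (h : U ≤ W)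
    (hc : Nat.card W < p * Nat.card U) : W ≤ U := by
  have : Finite W := Finite.of_injective _ (AddSubgroup.inclusion_injective hW)
  obtain ⟨k, hk⟩ := hT
  intro w hw
  have hi : U.relIndex W < p := by
    rw [← AddSubgroup.card_mul_index (U.addSubgroupOf W), mul_comm,
      Nat.card_congr (AddSubgroup.addSubgroupOfEquivOfLe h).toEquiv] at hc
    exact lt_of_mul_lt_mul_right hc (Nat.zero_le _)
  have hco : (U.relIndex W).Coprime (p ^ k) := (Nat.Coprime.symm (hp.out.coprime_iff_not_dvd.2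
    (Nat.not_dvd_of_pos_of_lt (Nat.pos_of_ne_zero AddSubgroup.index_ne_zero_of_finite) hi))).pow_right k
  have h₁ : U.relIndex W • w ∈ U := (U.addSubgroupOf W).nsmul_index_mem ⟨w, hw⟩
  obtain ⟨m, hm⟩ := exists_nsmul_eq_self_of_coprime (x := w)
    (hco.coprime_dvd_right (addOrderOf_dvd_of_nsmul_eq_zero (hk w (hW hw))))
  exact hm ▸ U.nsmul_mem h₁ m

theorem dl_dl [Finite G] {D : AddSubgroup M} [Finite D] {a : G} (ha : IsPGroup p (zpowers a))
    (hD : Inv (zpowers a) D) (hc : Nat.card (D.map (dl a)) ≤ p) {d : M} (hd : d ∈ D) :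
    a • dl a d = dl a d := by
  by_cases h₀ : dl a d = 0
  · rw [h₀, smul_zero]
  have fin : (D.map (dl a) : Set M).Finite := (Set.toFinite (D : Set M)).image _
  have sub : orbit (zpowers a) (dl a d) ⊂ D.map (dl a) := by
    refine ⟨?_, fun h => h₀ ?_⟩
    · rintro _ ⟨⟨_, i, rfl⟩, rfl⟩
      refine ⟨a ^ i • d, hD _ ⟨i, rfl⟩ d hd, ?_⟩
      show a • a ^ i • d - a ^ i • d = a ^ i • (a • d - d)
      rw [smul_sub, ← mul_smul, ← mul_smul, (Commute.self_zpow a i).eq]
    · obtain ⟨g, hg⟩ := h (zero_mem _)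
      exact (smul_eq_zero_iff_eq g).1 hg
  have : Finite (orbit (zpowers a) (dl a d)) := Set.finite_range _
  obtain ⟨k, hk⟩ := ha.card_orbit (dl a d)
  have lt : p ^ k < p := hk ▸ (Set.ncard_lt_ncard sub fin).trans_le hc
  have : k = 0 := by
    by_contra h
    exact lt.not_ge (Nat.le_self_pow h p)
  rw [this, pow_zero, Nat.card_eq_one_iff_unique] at hk
  exact congrArg Subtype.val (hk.1.elim ⟨_, mem_orbit _ ⟨a, mem_zpowers a⟩⟩ ⟨_, mem_orbit_self _⟩)

theorem best_min [Finite G] {D : AddSubgroup M} [Finite D] {A Y : Subgroup G} (hA : IsPGroup p A)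
    (hD : Inv A D) (hT : Tor p D) (hY : D ≤ fix M Y) (hB : Best D A)
    (hm : ∀ B < A, Best D B → B ≤ Y) (hn : ¬ (p = 2 ∧ ∃ t ∈ A, Tv D t)) : NT p D A := by
  intro w hw hpw hwA
  obtain ⟨N, hN, hi, hle⟩ := exists_normal_index_prime_of_isPGroup hA (H := stabilizer A w)
    fun h => hwA fun g hg => (h ▸ mem_top _ : (⟨g, hg⟩ : A) ∈ stabilizer A w)
  have hN' : N ≠ ⊤ := fun h => hp.out.one_lt.ne' (by rw [← hi, h, index_top])
  obtain ⟨a, -, ha⟩ := SetLike.exists_of_lt hN'.lt_top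
  have f : (orbit N w).Finite := Set.finite_range _
  rw [orbit_sum hi ha hle]
  set w' := ∑ᶠ x ∈ orbit N w, x with e
  have h₁ : w' ∈ D ∧ p • w' = 0 := by
    refine finsum_mem_induction (fun x => x ∈ D ∧ p • x = 0) ⟨zero_mem _, smul_zero _⟩
      (fun x y hx hy => ⟨add_mem hx.1 hy.1, by rw [smul_add, hx.2, hy.2, add_zero]⟩) ?_
    rintro _ ⟨g, rfl⟩
    exact ⟨hD _ g.1.2 w hw, (smul_comm p (g.1.1) w).trans (by rw [hpw, smul_zero])⟩
  have h₂ : w' ∈ fix M (N.map A.subtype) := by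
    rintro _ ⟨g, hg, rfl⟩
    have := finsum_mem_image (f := fun x : M => x) (s := orbit N w)
      (MulAction.injective (⟨g, hg⟩ : N)).injOn
    rw [Set.image_smul, smul_orbit, ← smul_finsum_mem f] at this
    exact this.symm
  have hc : Nat.card A = p * Nat.card (N.map A.subtype) := by
    rw [card_map_of_injective (subtype_injective A), ← hi, index_mul_card]
  have hlt : N.map A.subtype < A := (map_subtype_le N).lt_of_ne fun h => by
    rw [h] at hc
    exact hp.out.one_lt.ne' (mul_right_cancel₀ Nat.card_pos.ne' (hc.symm.trans (one_mul _).symm))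
  by_cases hNY : N.map A.subtype ≤ Y
  · have l := hB _ hlt.le
    rw [inf_eq_left.2 (hY.trans (fix_anti hNY)), hc, mul_comm p, mul_assoc, ← card_dl (a : G) D] at l
    have : Finite (D ⊓ fix M (zpowers (a : G)) : AddSubgroup M) :=
      Finite.of_injective _ (AddSubgroup.inclusion_injective inf_le_left)
    have l' := (Nat.le_of_mul_le_mul_left l Nat.card_pos).trans (Nat.mul_le_mul_left p
      (AddSubgroup.card_le_of_le (inf_le_inf_left D (fix_anti (zpowers_le.2 a.2)))))
    rw [mul_comm p] at l'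
    have l'' := Nat.le_of_mul_le_mul_left l' Nat.card_pos
    have hd := dl_dl (hA.to_le (zpowers_le.2 a.2)) (fun g hg => hD g (zpowers_le.2 a.2 hg)) l'' h₁.1
    have hp' : ∀ i : ℕ, a ^ i • w' = w' + i • dl (a : G) w' := fun i => by
      induction i with
      | zero => simp
      | succ i ih =>
        rw [pow_succ', mul_smul, ih, Subgroup.smul_def, smul_add, smul_comm, hd, succ_nsmul,
          dl_apply]
        abel
    rw [Finset.sum_congr rfl fun i _ => hp' i, Finset.sum_add_distrib, Finset.sum_const,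
      Finset.card_range, h₁.2, zero_add, ← Finset.sum_smul]
    obtain h2 | h2 := hp.out.eq_two_or_odd'
    · by_contra h₀
      have h₀' : dl (a : G) w' ≠ 0 := fun h => h₀ (by rw [h, smul_zero])
      refine hn ⟨h2, a, a.2, ⟨w', h₁.1, fun h => h₀' (sub_eq_zero.2 h)⟩, dl (a : G) w', fun d hd => ?_⟩
      have : ({0, dl (a : G) w'} : Set M) = D.map (dl a) := Set.eq_of_subset_of_ncard_le
        (Set.pair_subset (zero_mem _) ⟨w', h₁.1, rfl⟩)
        (by rw [Set.ncard_pair h₀'.symm, ← h2]; exact l'') ((Set.toFinite (D : Set M)).image _)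
      obtain h | h : dl (a : G) d ∈ ({0, dl (a : G) w'} : Set M) := this ▸ ⟨d, hd, rfl⟩
      · exact Or.inl (sub_eq_zero.1 h)
      · exact Or.inr (sub_eq_iff_eq_add'.1 h)
    · obtain ⟨k, hk⟩ := h2
      have : ∑ i ∈ Finset.range p, i = k * p := by
        have := Finset.sum_range_id_mul_two p
        rw [show p - 1 = k * 2 by omega, ← mul_assoc] at this
        rw [mul_right_cancel₀ two_ne_zero this, mul_comm]
      rw [this, mul_smul, ← map_nsmul, h₁.2, map_zero, smul_zero]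
  · have h' : ¬ Best D (N.map A.subtype) := fun h => hNY (hm _ hlt h)
    simp only [Best, not_forall, not_le] at h'
    obtain ⟨B', hB', l⟩ := h'
    have l' := l.trans_le (hB B' (hB'.trans hlt.le))
    rw [hc, mul_comm p, mul_assoc] at l'
    have h₃ := (le_of_card_lt hT inf_le_left (inf_le_inf_left D (fix_anti hlt.le))
      (lt_of_mul_lt_mul_left l' (Nat.zero_le _)) ⟨h₁.1, h₂⟩).2
    rw [Finset.sum_congr rfl fun i _ => show a ^ i • w' = w' from h₃ _ (a ^ i).2, Finset.sum_const,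
      Finset.card_range, h₁.2]

end Bst

theorem best : BestStmt.{u, v} := fun p _ D _ => by
  refine ⟨fun B Y hB hD hT hY h hn => ?_, fun B D₁ => Bst.best_mono, fun t _ _ => Bst.best_tv⟩
  obtain ⟨A, ⟨h₁, h₂, h₃⟩, hm⟩ := WellFounded.has_min wellFounded_lt
    {A | A ≤ B ∧ ¬ A ≤ Y ∧ Best D A} ⟨B, le_rfl, hn, h⟩
  refine ⟨A, h₁, h₂, h₃, or_iff_not_imp_right.2 (Bst.best_min (hB.to_le h₁)
    (fun g hg => hD g (h₁ hg)) hT hY h₃ fun B' hB' h' => ?_)⟩
  by_contra hn'
  exact hm B' ⟨hB'.le.trans h₁, hn', h'⟩ hB'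

end Cfsg.Agent.LK
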