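import Cfsg.Agent.Lib.LK.Defs

/-!
# List cochains, coefficient systems, and the long exact sequences
-/

set_option autoImplicit false

namespace Cfsg.Agent.LK

open List

section D

variable {Ω M M' : Type*} [AddCommGroup M] [AddCommGroup M']

/-- The coboundary of a function on lists. -/
def cb : (List Ω → M) → List Ω → M
  | _, [] => 0
  | f, x :: l => f l - cb (fun l' => f (x :: l')) l

theorem cb_nil (f : List Ω → M) : cb f [] = 0 := rfl

theorem cb_cons (f : List Ω → M) (x : Ω) (l : List Ω) :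
    cb f (x :: l) = f l - cb (fun l' => f (x :: l')) l := rfl

theorem cb_add (l : List Ω) : ∀ f g : List Ω → M, cb (f + g) l = cb f l + cb g l := by
  induction l with
  | nil => intro f g; simp [cb_nil]
  | cons x l ih =>
    intro f g
    have := ih (fun l' => f (x :: l')) (fun l' => g (x :: l'))
    rw [cb_cons, cb_cons, cb_cons]
    change (f l + g l) - cb ((fun l' => f (x :: l')) + fun l' => g (x :: l')) l = _
    rw [this]; abel

/-- The coboundary at `l` as an additive map. -/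
def cbHom (l : List Ω) : (List Ω → M) →+ M := AddMonoidHom.mk' (fun f => cb f l) (cb_add l)

theorem cb_sub (f g : List Ω → M) (l : List Ω) : cb (f - g) l = cb f l - cb g l :=
  (cbHom l).map_sub f g

theorem cb_mem (B : AddSubgroup M) (l : List Ω) : ∀ f : List Ω → M,
    (∀ l', l' <+ l → l'.length + 1 = l.length → f l' ∈ B) → cb f l ∈ B := by
  induction l with
  | nil => intro f _; exact B.zero_mem
  | cons x l ih =>
    intro f h
    rw [cb_cons]
    exact B.sub_mem (h l (sublist_cons_self x l) rfl)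
      (ih _ fun l' h1 h2 => h _ (h1.cons_cons x) (by simp [h2]))

theorem cb_congr {f g : List Ω → M} {l : List Ω}
    (h : ∀ l', l' <+ l → l'.length + 1 = l.length → f l' = g l') : cb f l = cb g l := by
  rw [← sub_eq_zero, ← cb_sub, ← AddSubgroup.mem_bot]
  exact cb_mem _ _ _ fun l' h1 h2 => by simp [h l' h1 h2]

theorem cb_map (φ : M →+ M') (l : List Ω) : ∀ f : List Ω → M,
    φ (cb f l) = cb (fun l => φ (f l)) l := by
  induction l with
  | nil => intro f; simp [cb_nil]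
  | cons x l ih => intro f; rw [cb_cons, cb_cons, map_sub, ih]

theorem cb_cb (l : List Ω) : ∀ f : List Ω → M, cb (cb f) l = 0 := by
  induction l with
  | nil => intro f; rfl
  | cons x l ih =>
    intro f
    rw [cb_cons]
    change cb f l - cb (f - cb fun l' => f (x :: l')) l = 0
    rw [cb_sub, ih]; simp

theorem cb_comp (σ : Ω → Ω) (l : List Ω) : ∀ f : List Ω → M,
    cb f (l.map σ) = cb (fun l => f (l.map σ)) l := by
  induction l with
  | nil => intro f; rfl
  | cons x l ih => intro f; rw [map_cons, cb_cons, cb_cons, ih]; rfl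

open Classical in
/-- Extension by zero outside `Sg`. -/
noncomputable def ind (Sg : List Ω → Prop) (f : List Ω → M) (l : List Ω) : M :=
  if Sg l then f l else 0

theorem ind_pos {Sg : List Ω → Prop} (f : List Ω → M) {l : List Ω} (h : Sg l) : ind Sg f l = f l :=
  if_pos h

theorem ind_neg {Sg : List Ω → Prop} (f : List Ω → M) {l : List Ω} (h : ¬ Sg l) : ind Sg f l = 0 :=
  if_neg h

/-- The coboundary of cochains supported on `Sg`. -/
noncomputable def dS (Sg : List Ω → Prop) (f : List Ω → M) : List Ω → M := cb (ind Sg f)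

variable {Sg Sg' : List Ω → Prop}

theorem dS_mem (B : AddSubgroup M) {f : List Ω → M} {l : List Ω}
    (h : ∀ l', l' <+ l → l'.length + 1 = l.length → Sg l' → f l' ∈ B) : dS Sg f l ∈ B :=
  cb_mem B l _ fun l' h1 h2 => by
    by_cases h3 : Sg l'
    · rw [ind_pos f h3]; exact h l' h1 h2 h3
    · rw [ind_neg f h3]; exact B.zero_mem

theorem dS_sub (f g : List Ω → M) (l : List Ω) : dS Sg (f - g) l = dS Sg f l - dS Sg g l := by
  unfold dS
  rw [← cb_sub]
  congr 1
  funext l'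
  by_cases h : Sg l' <;> simp [ind, h]

theorem dS_add (f g : List Ω → M) (l : List Ω) : dS Sg (f + g) l = dS Sg f l + dS Sg g l := by
  unfold dS
  rw [← cb_add]
  congr 1
  funext l'
  by_cases h : Sg l' <;> simp [ind, h]

theorem dS_congr (B : AddSubgroup M) {f g : List Ω → M} {l : List Ω}
    (h : ∀ l', l' <+ l → l'.length + 1 = l.length → Sg l' → f l' - g l' ∈ B) :
    dS Sg f l - dS Sg g l ∈ B := by
  rw [← dS_sub]; exact dS_mem B h

theorem dS_congr₂ (B : AddSubgroup M) {f g : List Ω → M} {l : List Ω}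
    (h : ∀ l', l' <+ l → l'.length + 1 = l.length → ind Sg f l' - ind Sg' g l' ∈ B) :
    dS Sg f l - dS Sg' g l ∈ B := by
  unfold dS
  rw [← cb_sub]; exact cb_mem B _ _ h

theorem dS_map (φ : M →+ M') (f : List Ω → M) (l : List Ω) :
    φ (dS Sg f l) = dS Sg (fun l => φ (f l)) l := by
  unfold dS
  rw [cb_map]
  congr 1
  funext l'
  by_cases h : Sg l' <;> simp [ind, h]

/-- `Sg` is convex for the sublist order. -/
def Cvx (Sg : List Ω → Prop) : Prop :=
  ∀ l'' l' l, l'' <+ l' → l' <+ l → Sg l'' → Sg l → Sg l'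

theorem dS_dS (hc : Cvx Sg) (f : List Ω → M) {l : List Ω} (h : Sg l) : dS Sg (dS Sg f) l = 0 := by
  rw [← cb_cb l (ind Sg f)]
  refine cb_congr fun l' h1 _ => ?_
  by_cases h3 : Sg l'
  · exact ind_pos _ h3
  · rw [ind_neg _ h3, eq_comm, ← AddSubgroup.mem_bot]
    exact dS_mem ⊥ fun l'' h4 _ h5 => absurd (hc _ _ _ h4 h1 h5 h) h3

/-- `U` grows along sublists inside `Sg`. -/
def Mono (Sg : List Ω → Prop) (U : List Ω → AddSubgroup M) : Prop :=
  ∀ l' l, l' <+ l → Sg l' → Sg l → U l' ≤ U l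

end D

section Act

variable {G Ω M : Type*} [Group G] [MulAction G Ω] [AddCommGroup M] [DistribMulAction G M]

/-- Translation of a list. -/
def sl (g : G) (l : List Ω) : List Ω := l.map (g • ·)

theorem sl_length (g : G) (l : List Ω) : (sl g l).length = l.length := length_map _

theorem sl_one (l : List Ω) : sl (1 : G) l = l := by simp [sl]

theorem sl_mul (g h : G) (l : List Ω) : sl (g * h) l = sl g (sl h l) := by
  simp [sl, mul_smul, Function.comp_def]

theorem sl_inv_sl (g : G) (l : List Ω) : sl g⁻¹ (sl g l) = l := by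
  rw [← sl_mul, inv_mul_cancel, sl_one]

theorem sl_sl_inv (g : G) (l : List Ω) : sl g (sl g⁻¹ l) = l := by
  rw [← sl_mul, mul_inv_cancel, sl_one]

theorem sl_sublist (g : G) {l' l : List Ω} (h : l' <+ l) : sl g l' <+ sl g l := h.map _

/-- `Sg` is invariant under `H`. -/
def InvS (H : Subgroup G) (Sg : List Ω → Prop) : Prop := ∀ g ∈ H, ∀ l, Sg l → Sg (sl g l)

variable {H : Subgroup G} {Sg Sg' : List Ω → Prop} {U X W U' W' : List Ω → AddSubgroup M} {k : ℕ}

theorem InvS.iff (h : InvS H Sg) {g : G} (hg : g ∈ H) (l : List Ω) : Sg (sl g l) ↔ Sg l :=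
  ⟨fun h1 => by simpa [sl_inv_sl] using h g⁻¹ (H.inv_mem hg) _ h1, h g hg l⟩

theorem dS_sl (hi : InvS H Sg) (B : AddSubgroup M) {g : G} (hg : g ∈ H) {f t : List Ω → M}
    {l : List Ω}
    (h : ∀ l', l' <+ l → l'.length + 1 = l.length → Sg l' → f (sl g l') - g • t l' ∈ B) :
    dS Sg f (sl g l) - g • dS Sg t l ∈ B := by
  have e1 : dS Sg f (sl g l) = dS Sg (fun l => f (sl g l)) l := by
    unfold dS sl
    rw [cb_comp]
    congr 1
    funext l'
    have := hi.iff hg l'
    unfold sl at this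
    by_cases h : Sg l' <;> simp [ind, h, this]
  have e2 := dS_map (Sg := Sg) (DistribSMul.toAddMonoidHom M g) t l
  simp only [DistribSMul.toAddMonoidHom_apply] at e2
  rw [e1, e2]
  exact dS_congr B h

/-- A coefficient system `U / W` supported on `Sg`, for the group `H`. -/
structure Sys (H : Subgroup G) (Sg : List Ω → Prop) (U W : List Ω → AddSubgroup M) : Prop where
  inv : InvS H Sg
  cvx : Cvx Sg
  le : ∀ l, Sg l → W l ≤ U l
  monoU : Mono Sg U
  monoW : Mono Sg W
  smulU : ∀ g ∈ H, ∀ l, Sg l → ∀ m ∈ U l, g • m ∈ U (sl g l)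
  smulW : ∀ g ∈ H, ∀ l, Sg l → ∀ m ∈ W l, g • m ∈ W (sl g l)
  triv : ∀ g ∈ H, ∀ l, Sg l → sl g l = l → ∀ m ∈ U l, g • m - m ∈ W l

theorem Sys.restrict (h : Sys H Sg U W) (hs : ∀ l, Sg' l → Sg l) (hi : InvS H Sg') (hc : Cvx Sg') :
    Sys H Sg' U W :=
  ⟨hi, hc, fun l a => h.le l (hs l a), fun l' l a b c => h.monoU l' l a (hs _ b) (hs _ c),
    fun l' l a b c => h.monoW l' l a (hs _ b) (hs _ c), fun g hg l a => h.smulU g hg l (hs _ a),
    fun g hg l a => h.smulW g hg l (hs _ a), fun g hg l a => h.triv g hg l (hs _ a)⟩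

/-- Cochains of length `k`. -/
structure Co (H : Subgroup G) (k : ℕ) (Sg : List Ω → Prop) (U W : List Ω → AddSubgroup M)
    (f : List Ω → M) : Prop where
  mem : ∀ l, l.length = k → Sg l → f l ∈ U l
  eqv : ∀ g ∈ H, ∀ l, l.length = k → Sg l → f (sl g l) - g • f l ∈ W (sl g l)

/-- Vanishing of cohomology at length `k`. -/
def Van (H : Subgroup G) (k : ℕ) (Sg : List Ω → Prop) (U W : List Ω → AddSubgroup M) : Prop :=
  ∀ f, Co H k Sg U W f → (∀ l, l.length = k + 1 → Sg l → dS Sg f l ∈ W l) →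
    ∃ s, Co H (k - 1) Sg U W s ∧ ∀ l, l.length = k → Sg l → f l - dS Sg s l ∈ W l

theorem Co.sub {f g : List Ω → M} (hf : Co H k Sg U W f) (hg : Co H k Sg U W g) :
    Co H k Sg U W (f - g) :=
  ⟨fun l a b => (U l).sub_mem (hf.mem l a b) (hg.mem l a b), fun x hx l a b => by
    have := (W _).sub_mem (hf.eqv x hx l a b) (hg.eqv x hx l a b)
    simp only [Pi.sub_apply, smul_sub]
    convert this using 1; abel⟩

theorem Co.add {f g : List Ω → M} (hf : Co H k Sg U W f) (hg : Co H k Sg U W g) :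
    Co H k Sg U W (f + g) :=
  ⟨fun l a b => (U l).add_mem (hf.mem l a b) (hg.mem l a b), fun x hx l a b => by
    have := (W _).add_mem (hf.eqv x hx l a b) (hg.eqv x hx l a b)
    simp only [Pi.add_apply, smul_add]
    convert this using 1; abel⟩

theorem Co.mono {f : List Ω → M} (hf : Co H k Sg U W f) (hi : InvS H Sg)
    (hU : ∀ l, Sg l → U l ≤ U' l) (hW : ∀ l, Sg l → W l ≤ W' l) : Co H k Sg U' W' f :=
  ⟨fun l a b => hU l b (hf.mem l a b), fun g hg l a b => hW _ (hi g hg l b) (hf.eqv g hg l a b)⟩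

theorem Co.dS_mem {s : List Ω → M} (hs : Co H (k - 1) Sg U W s) (hU : Mono Sg U) {l : List Ω}
    (hl : l.length = k) (h : Sg l) : dS Sg s l ∈ U l :=
  LK.dS_mem _ fun l' h1 h2 h3 => hU l' l h1 h3 h (hs.mem l' (by omega) h3)

theorem Co.d {s : List Ω → M} (hs : Co H (k - 1) Sg U W s) (h : Sys H Sg U W) :
    Co H k Sg U W (dS Sg s) :=
  ⟨fun _ a b => hs.dS_mem h.monoU a b, fun g hg l a b => dS_sl h.inv _ hg fun l' h1 h2 h3 =>
    h.monoW _ _ (sl_sublist g h1) (h.inv g hg _ h3) (h.inv g hg _ b) (hs.eqv g hg l' (by omega) h3)⟩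

/-- Orbit representatives. -/
theorem exists_reps {Λ : Type*} (H : Subgroup G) (act : G → Λ → Λ) (h1 : ∀ y, act 1 y = y)
    (hm : ∀ g h y, act (g * h) y = act g (act h y)) :
    ∃ (r : Λ → Λ) (h : Λ → G), (∀ y, h y ∈ H) ∧ (∀ y, act (h y) (r y) = y) ∧
      ∀ g ∈ H, ∀ y, r (act g y) = r y := by
  let s : Setoid Λ := ⟨fun x y => ∃ g ∈ H, act g x = y, fun x => ⟨1, H.one_mem, h1 x⟩,
    fun {x y} ⟨g, hg, e⟩ => ⟨g⁻¹, H.inv_mem hg, by rw [← e, ← hm, inv_mul_cancel, h1]⟩,
    fun {x y z} ⟨g, hg, e⟩ ⟨g', hg', e'⟩ => ⟨g' * g, H.mul_mem hg' hg, by rw [hm, e, e']⟩⟩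
  have hr : ∀ y, ∃ g ∈ H, act g (Quotient.out (Quotient.mk s y)) = y := fun y =>
    Quotient.exact (Quotient.out_eq (Quotient.mk s y))
  choose h hh e using hr
  refine ⟨_, h, hh, e, fun g hg y => ?_⟩
  have : Quotient.mk s y = Quotient.mk s (act g y) := Quotient.sound ⟨g, hg, rfl⟩
  rw [this]

theorem Co.lift {f : List Ω → M} (hf : Co H k Sg U X f) (h : Sys H Sg U W) :
    ∃ f', Co H k Sg U W f' ∧ ∀ l, l.length = k → Sg l → f l - f' l ∈ X l := by
  obtain ⟨r, a, ha, e, hr⟩ := exists_reps H (sl (G := G) (Ω := Ω)) sl_one sl_mul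
  have hl : ∀ l, (r l).length = l.length := fun l => by rw [← sl_length (a l), e]
  have hS : ∀ l, Sg l → Sg (r l) := fun l b => (h.inv.iff (ha l) _).1 (by rwa [e])
  refine ⟨fun l => a l • f (r l), ⟨fun l b c => ?_, fun g hg l b c => ?_⟩, fun l b c => ?_⟩
  · have := h.smulU _ (ha l) _ (hS l c) _ (hf.mem (r l) (by rw [hl, b]) (hS l c))
    rwa [e] at this
  · rw [hr g hg]
    have hk : (g * a l)⁻¹ * a (sl g l) ∈ H := H.mul_mem (H.inv_mem (H.mul_mem hg (ha l))) (ha _)
    have e1 : sl ((g * a l)⁻¹ * a (sl g l)) (r l) = r l := by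
      rw [sl_mul, ← hr g hg l, e, hr g hg l, mul_inv_rev, sl_mul, sl_inv_sl]
      have := congrArg (sl (a l)⁻¹) (e l)
      rw [sl_inv_sl] at this
      exact this.symm
    have := h.smulW _ (H.mul_mem hg (ha l)) _ (hS l c) _
      (h.triv _ hk _ (hS l c) e1 _ (hf.mem (r l) (by rw [hl, b]) (hS l c)))
    rwa [smul_sub, ← mul_smul, mul_inv_cancel_left, mul_smul, sl_mul, e] at this
  · have := hf.eqv _ (ha l) (r l) (by rw [hl, b]) (hS l c)
    rwa [e] at this

theorem les1 (h : Sys H Sg U W) (hWX : ∀ l, Sg l → W l ≤ X l) (hXU : ∀ l, Sg l → X l ≤ U l)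
    (hX : Mono Sg X) (h1 : Van H k Sg X W) (h2 : Van H k Sg U X) : Van H k Sg U W := by
  intro f hf hc
  obtain ⟨s₁, hs₁, e₁⟩ := h2 f (hf.mono h.inv (fun _ _ => le_rfl) hWX) fun l a b => hWX l b (hc l a b)
  obtain ⟨s, hs, e⟩ := hs₁.lift h
  have hg := hf.sub (hs.d h)
  obtain ⟨s₂, hs₂, e₂⟩ := h1 (f - dS Sg s) ⟨fun l a b => by
      have := (X l).add_mem (e₁ l a b) (dS_congr (Sg := Sg) (f := s₁) (g := s) (l := l) (X l)
        fun l' h1 h2 h3 => hX l' l h1 h3 b (e l' (by omega) h3))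
      simpa using this, hg.eqv⟩
    fun l a b => by rw [dS_sub, dS_dS h.cvx _ b, sub_zero]; exact hc l a b
  refine ⟨s + s₂, hs.add (hs₂.mono h.inv hXU fun _ _ => le_rfl), fun l a b => ?_⟩
  have := e₂ l a b
  rw [dS_add, ← sub_sub]; exact this

theorem les2 (h : Sys H Sg U W) (hWX : ∀ l, Sg l → W l ≤ X l) (hXU : ∀ l, Sg l → X l ≤ U l)
    (hX : Mono Sg X) (h1 : Van H k Sg U W) (h2 : Van H (k + 1) Sg X W) : Van H k Sg U X := by
  intro f hf hc
  obtain ⟨f', hf', e⟩ := hf.lift h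
  have hd : Co H (k + 1) Sg U W (dS Sg f') := Co.d (k := k + 1) hf' h
  obtain ⟨t, ht, e₁⟩ := h2 (dS Sg f') ⟨fun l a b => by
      have := (X l).sub_mem (hc l a b) (dS_congr (Sg := Sg) (f := f) (g := f') (l := l) (X l)
        fun l' h1 h2 h3 => hX l' l h1 h3 b (e l' (by omega) h3))
      simpa using this, hd.eqv⟩ fun l _ b => by rw [dS_dS h.cvx _ b]; exact (W l).zero_mem
  obtain ⟨s, hs, e₂⟩ := h1 (f' - t) (hf'.sub (ht.mono h.inv hXU fun _ _ => le_rfl))
    fun l a b => by rw [dS_sub]; exact e₁ l a b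
  refine ⟨s, hs.mono h.inv (fun _ _ => le_rfl) hWX, fun l a b => ?_⟩
  have := (X l).add_mem ((X l).add_mem (e l a b) (ht.mem l a b)) (hWX l b (e₂ l a b))
  convert this using 1
  simp only [Pi.sub_apply]; abel

theorem les3 (h : Sys H Sg U W) (hWX : ∀ l, Sg l → W l ≤ X l) (hXU : ∀ l, Sg l → X l ≤ U l)
    (hX : Mono Sg X) (h1 : Van H (k + 1) Sg U W) (h2 : Van H k Sg U X) : Van H (k + 1) Sg X W := by
  intro f hf hc
  obtain ⟨s, hs, e⟩ := h1 f (hf.mono h.inv hXU fun _ _ => le_rfl) hc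
  obtain ⟨t₁, ht₁, e₁⟩ := h2 s (hs.mono h.inv (fun _ _ => le_rfl) hWX) fun l a b => by
    have := (X l).sub_mem (hf.mem l a b) (hWX l b (e l a b))
    simpa using this
  obtain ⟨t, ht, e₂⟩ := ht₁.lift h
  have hg := Co.sub (k := k) hs (ht.d h)
  refine ⟨s - dS Sg t, ⟨fun l a b => ?_, hg.eqv⟩, fun l a b => ?_⟩
  · have := (X l).add_mem (e₁ l a b) (dS_congr (Sg := Sg) (f := t₁) (g := t) (l := l) (X l)
      fun l' h1 h2 h3 => hX l' l h1 h3 b (e₂ l' (by simp at a; omega) h3))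
    simpa using this
  · rw [dS_sub, dS_dS h.cvx _ b, sub_zero]; exact e l a b

end Act

end Cfsg.Agent.LK
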