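import Cfsg.Agent.Lib.Transfer.SylowIn
import Cfsg.Agent.Lib.Fit.Subnormal

/-!
# LK project (S5242): definitions and row statements

See `docs/LK_PLAN.md`.
-/

set_option autoImplicit false

namespace Cfsg.Agent.LK

open Cfsg Subgroup Cfsg.Agent.Tr

universe u v w

section Mod

variable {G : Type*} (M : Type*) [Group G] [AddCommGroup M] [DistribMulAction G M]

/-- The vectors fixed by `P`. -/
def fix (P : Subgroup G) : AddSubgroup M where
  carrier := {m | ∀ g ∈ P, g • m = m}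
  zero_mem' := fun g _ => smul_zero g
  add_mem' := fun {a b} ha hb g hg => by rw [smul_add, ha g hg, hb g hg]
  neg_mem' := fun {a} ha g hg => by rw [smul_neg, ha g hg]

variable {M}

theorem mem_fix {P : Subgroup G} {m : M} : m ∈ fix M P ↔ ∀ g ∈ P, g • m = m := Iff.rfl

theorem fix_anti {P Q : Subgroup G} (h : P ≤ Q) : fix M Q ≤ fix M P := fun _ hm g hg => hm g (h hg)

/-- `D` is invariant under `H`. -/
def Inv (H : Subgroup G) (D : AddSubgroup M) : Prop := ∀ g ∈ H, ∀ m ∈ D, g • m ∈ D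

/-- `D` has `p`-power exponent. -/
def Tor (p : ℕ) (D : AddSubgroup M) : Prop := ∃ k : ℕ, ∀ m ∈ D, p ^ k • m = 0

/-- `B` is norm-trivial on `Ω₁(D)`: the sum over every non-trivial `B`-orbit vanishes. -/
def NT (p : ℕ) (D : AddSubgroup M) (B : Subgroup G) : Prop :=
  ∀ w ∈ D, p • w = 0 → w ∉ fix M B → ∑ᶠ x ∈ MulAction.orbit B w, x = 0

/-- The join of the norm-trivial subgroups of `P`. -/
def Jn (p : ℕ) (D : AddSubgroup M) (P : Subgroup G) : Subgroup G := sSup {B | B ≤ P ∧ NT p D B}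

/-- `B` is a best offender on `D` (not necessarily abelian or faithful; `⊥` is one). -/
def Best (D : AddSubgroup M) (B : Subgroup G) : Prop :=
  ∀ B' ≤ B, Nat.card B' * Nat.card (D ⊓ fix M B' : AddSubgroup M) ≤
    Nat.card B * Nat.card (D ⊓ fix M B : AddSubgroup M)

/-- The join of the best offenders in `P`. -/
def Jb (D : AddSubgroup M) (P : Subgroup G) : Subgroup G := sSup {B | B ≤ P ∧ Best D B}

/-- `t` acts on `D` as a transvection: `[D, t]` has order two. -/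
def Tv (D : AddSubgroup M) (t : G) : Prop :=
  (∃ d ∈ D, t • d ≠ d) ∧ ∃ c, ∀ d ∈ D, t • d = d ∨ t • d = d + c

variable (M)

/-- Two different transvections of `M` with the same axis. -/
def SameAx (t t' : G) : Prop :=
  Tv (⊤ : AddSubgroup M) t ∧ Tv (⊤ : AddSubgroup M) t' ∧ t ≠ t' ∧ ∀ d : M, t • d = d ↔ t' • d = d

/-- Transvections with a same-axis partner. -/
def T1 (t : G) : Prop := ∃ t', SameAx M t t'

/-- Transvections without a same-axis partner. -/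
def T0 (t : G) : Prop := Tv (⊤ : AddSubgroup M) t ∧ ¬ T1 M t

/-- `P` contains a same-axis pair. -/
def Pair (P : Subgroup G) : Prop := ∃ t ∈ P, ∃ t' ∈ P, SameAx M t t'

end Mod

/-- Row NL: the join of norm-trivial subgroups is norm-trivial; the norm lemma. -/
def NLStmt : Prop :=
  ∀ {G : Type u} {M : Type v} [Group G] [Finite G] [AddCommGroup M] [DistribMulAction G M]
    (p : ℕ) [Fact p.Prime] (D : AddSubgroup M),
    (∀ P : Subgroup G, IsPGroup p P → Inv P D → NT p D (Jn p D P)) ∧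
    (∀ H T : Subgroup G, Inv H D → Tor p D → SylowIn p T H →
      D ⊓ fix M (H ⊓ normalizer (Jn p D T : Set G)) ≤ fix M H)

/-- Row BEST: minimal best offenders; restriction to subgroups of `D`; transvections. -/
def BestStmt : Prop :=
  ∀ {G : Type u} {M : Type v} [Group G] [Finite G] [AddCommGroup M] [DistribMulAction G M]
    (p : ℕ) [Fact p.Prime] (D : AddSubgroup M) [Finite D],
    (∀ B Y : Subgroup G, IsPGroup p B → Inv B D → Tor p D → D ≤ fix M Y → Best D B → ¬ B ≤ Y →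
      ∃ B₁ ≤ B, ¬ B₁ ≤ Y ∧ Best D B₁ ∧ (NT p D B₁ ∨ (p = 2 ∧ ∃ t ∈ B₁, Tv D t))) ∧
    (∀ (B : Subgroup G) (D₁ : AddSubgroup M), D₁ ≤ D → Best D B → Best D₁ B) ∧
    (∀ t : G, Inv (zpowers t) D → IsPGroup 2 (zpowers t) → Tv D t → Best D (zpowers t))

/-- Row TV: transvection groups on a faithful finite abelian `2`-group. -/
def TVStmt : Prop :=
  ∀ {G : Type u} {M : Type v} [Group G] [Finite G] [AddCommGroup M] [Finite M]
    [DistribMulAction G M], Tor 2 (⊤ : AddSubgroup M) → (∀ g : G, (∀ d : M, g • d = d) → g = 1) →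
    (∀ P : Subgroup G, Pair M P → Pair M (Jn 2 (⊤ : AddSubgroup M) P)) ∧
    (∀ Y T : Subgroup G, IsPGroup 2 Y → Y = closure {t | t ∈ Y ∧ T1 M t} → Y ≠ ⊥ → ¬ Pair M Y →
      SylowIn 2 T (normalizer (Y : Set G)) → Pair M T) ∧
    (pCore 2 G = ⊥ → ∀ S : Subgroup G, SylowIn 2 S ⊤ →
      (∀ f : G ⧸ S → G ⧸ S → M,
        (∀ (g t : G) x y, T0 M t → t • x = x → t • y = y → f (g • x) (g • y) = g • f x y) →
        (∀ (t : G) x y z, T0 M t → t • x = x → t • y = y → t • z = z → f x y + f y z = f x z) →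
        ∃ s : G ⧸ S → M, (∀ (g : G) x, s (g • x) = g • s x) ∧
          ∀ (t : G) x y, T0 M t → t • x = x → t • y = y → f x y = s y - s x) ∧
      (∀ v ∈ fix M S,
        (∀ g t : G, T0 M t → t ∈ S → t ∈ cj g S → Jn 2 (⊤ : AddSubgroup M) S ≤ cj g S → g • v = v) →
        ∀ g t : G, T0 M t → t ∈ S → t ∈ cj g S → g • v = v))

/-- The output of the cohomological part: `lim¹ (Hom(P/A, A) / K(P)) = 0`. -/
def KVStmt : Prop :=
  ∀ {G : Type u} [Group G] [Finite G] (p : ℕ) [Fact p.Prime] (S A : Subgroup G),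
    SylowIn p S ⊤ → A ≤ center G → A ≤ S → ∀ φ : G → G → G,
    (∀ g u, φ g u ∈ A) →
    (∀ g, ∀ u ∈ S, ∀ v ∈ S, g * u * g⁻¹ ∈ S → g * v * g⁻¹ ∈ S → φ g (u * v) = φ g u * φ g v) →
    (∀ g, ∀ a ∈ A, φ g a = 1) →
    (∀ s ∈ S, ∃ z : G, ∀ u ∈ S, φ s u = z * u * z⁻¹ * u⁻¹) →
    (∀ g h, ∃ z : G, ∀ u ∈ S, h * u * h⁻¹ ∈ S → g * (h * u * h⁻¹) * g⁻¹ ∈ S →
      φ (g * h) u = φ g (h * u * h⁻¹) * φ h u * (z * u * z⁻¹ * u⁻¹)) →
    ∃ ψ : G → G, (∀ u, ψ u ∈ A) ∧ (∀ u ∈ S, ∀ v ∈ S, ψ (u * v) = ψ u * ψ v) ∧ (∀ a ∈ A, ψ a = 1) ∧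
      ∀ g, ∃ z : G, ∀ u ∈ S, g * u * g⁻¹ ∈ S →
        ψ (g * u * g⁻¹) = φ g u * ψ u * (z * u * z⁻¹ * u⁻¹)

end Cfsg.Agent.LK
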