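import Cfsg.Agent.Lib.LK.Defs

/-!
Row FIN, step 1: the central extension built from lifts of the conjugation maps.
-/

set_option autoImplicit false

namespace Cfsg.Agent.LK.Fin

open Subgroup
open scoped IsMulCommutative

universe u v

variable {H : Type u} {G : Type v} [Group H] [Group G] (π : H →* G) (t : G ⧸ π.range → G)

/-- Elements of `G` with lifts of their wreath coordinates. -/
@[ext] structure Wr where
  g : G
  f : G ⧸ π.range → H
  h : ∀ i, π (f i) = (t (g • i))⁻¹ * g * t i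

namespace Wr

variable {π t}

instance : Mul (Wr π t) := ⟨fun x y => ⟨x.g * y.g, fun i => x.f (y.g • i) * y.f i, fun i => by
  rw [map_mul, x.h, y.h, mul_smul]; group⟩⟩

instance : One (Wr π t) := ⟨⟨1, fun _ => 1, fun i => by simp⟩⟩

instance : _root_.Inv (Wr π t) := ⟨fun x => ⟨x.g⁻¹, fun i => (x.f (x.g⁻¹ • i))⁻¹, fun i => by
  rw [map_inv, x.h, smul_inv_smul]; group⟩⟩

@[simp] theorem mul_g (x y : Wr π t) : (x * y).g = x.g * y.g := rfl
@[simp] theorem mul_f (x y : Wr π t) (i) : (x * y).f i = x.f (y.g • i) * y.f i := rfl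
@[simp] theorem one_g : (1 : Wr π t).g = 1 := rfl
@[simp] theorem one_f (i) : (1 : Wr π t).f i = 1 := rfl
@[simp] theorem inv_g (x : Wr π t) : x⁻¹.g = x.g⁻¹ := rfl
@[simp] theorem inv_f (x : Wr π t) (i) : x⁻¹.f i = (x.f (x.g⁻¹ • i))⁻¹ := rfl

instance : Group (Wr π t) := Group.ofLeftAxioms
  (fun x y z => by ext <;> simp [mul_assoc, mul_smul])
  (fun x => by ext <;> simp) (fun x => by ext <;> simp)

instance [Finite H] [Finite G] : Finite (Wr π t) :=
  Finite.of_injective (fun x : Wr π t => (x.g, x.f)) fun _ _ h =>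
    Wr.ext (congrArg Prod.fst h) (congrArg Prod.snd h)

theorem mem_ker {x : Wr π t} (h : x.g = 1) (i) : x.f i ∈ π.ker := by
  rw [MonoidHom.mem_ker, x.h, h]; simp

end Wr

open Classical in
/-- The central part of an element. -/
noncomputable def cz (u : H) : center H := if h : u ∈ center H then ⟨u, h⟩ else 1

theorem coe_cz {u : H} (h : u ∈ center H) : (cz u : H) = u := by simp [cz, h]

theorem cz_mul {u v : H} (hu : u ∈ center H) (hv : v ∈ center H) : cz (u * v) = cz u * cz v :=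
  Subtype.ext (by rw [coe_mul, coe_cz hu, coe_cz hv, coe_cz (mul_mem hu hv)])

theorem cz_one : cz (1 : H) = 1 := Subtype.ext (coe_cz (one_mem _))

variable {π t} [Finite G]

noncomputable local instance : Fintype (G ⧸ π.range) := Fintype.ofFinite _

/-- The norm. -/
noncomputable def nm (x : Wr π t) : center H :=
  ∏ i, cz (x.f i)

variable (hA : π.ker ≤ center H)
include hA

theorem nm_mul {x y : Wr π t} (hx : x.g = 1) (hy : y.g = 1) : nm (x * y) = nm x * nm y := by
  simp only [nm, Wr.mul_f, hy, one_smul, ← Finset.prod_mul_distrib]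
  exact Finset.prod_congr rfl fun i _ => cz_mul (hA (Wr.mem_ker hx i)) (hA (Wr.mem_ker hy i))

omit hA in
theorem nm_one : nm (1 : Wr π t) = 1 := by simp [nm, cz_one]

theorem nm_conj {x : Wr π t} (hx : x.g = 1) (y : Wr π t) : nm (y * x * y⁻¹) = nm x := by
  refine Fintype.prod_equiv (MulAction.toPerm y.g⁻¹) _ _ fun i => ?_
  simp only [Wr.mul_f, Wr.inv_f, Wr.inv_g, hx, one_smul, MulAction.toPerm_apply]
  rw [mem_center_iff.1 (hA (Wr.mem_ker hx _)), mul_inv_cancel_right]

theorem nm_mem {x : Wr π t} (hx : x.g = 1) : (nm x : H) ∈ π.ker :=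
  mem_subgroupOf.1 <| Subgroup.prod_mem (π.ker.subgroupOf (center H)) fun i _ => by
    rw [mem_subgroupOf, coe_cz (hA (Wr.mem_ker hx i))]
    exact Wr.mem_ker hx i

theorem nm_const {x : Wr π t} {a : H} (ha : a ∈ π.ker) (h : ∀ i, x.f i = a) :
    (nm x : H) = a ^ π.range.index := by
  simp [nm, h, coe_cz (hA ha), index, Nat.card_eq_fintype_card]

variable (t) in
/-- The elements of norm one over the identity. -/
def Bn : Subgroup (Wr π t) where
  carrier := {x | x.g = 1 ∧ nm x = 1}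
  one_mem' := ⟨rfl, nm_one⟩
  mul_mem' := fun {x y} hx hy => ⟨by simp [hx.1, hy.1], by
    rw [nm_mul hA hx.1 hy.1, hx.2, hy.2, one_mul]⟩
  inv_mem' := fun {x} hx => ⟨by simp [hx.1], by
    have := nm_mul hA (x := x⁻¹) (by simp [hx.1]) hx.1
    rw [inv_mul_cancel, nm_one, hx.2, mul_one] at this
    exact this.symm⟩

instance : (Bn t hA).Normal :=
  ⟨fun x hx y => ⟨by simp [hx.1], (nm_conj hA hx.1 y).trans hx.2⟩⟩

theorem exists_ext_of [Finite H] (hm : (Nat.card H).Coprime π.range.index)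
    (ht : ∀ i, (t i : G ⧸ π.range) = i) (μ : H → G ⧸ π.range → H)
    (h₁ : ∀ s i, π (μ s i) = (t (π s • i))⁻¹ * π s * t i)
    (h₂ : ∀ s s' i, μ (s * s') i = μ s (π s' • i) * μ s' i) (h₃ : ∀ a ∈ π.ker, ∀ i, μ a i = a) :
    ∃ (G₀ : Type (max u v)) (_ : Group G₀) (_ : Finite G₀) (ι : H →* G₀) (q : G₀ →* G),
      Function.Injective ι ∧ Function.Surjective q ∧ (∀ s, q (ι s) = π s) ∧
      q.ker = π.ker.map ι ∧ π.ker.map ι ≤ center G₀ := by
  let ι₁ : H →* Wr π t := MonoidHom.mk' (fun s => ⟨π s, μ s, h₁ s⟩) fun s s' =>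
    Wr.ext (map_mul π s s') (funext (h₂ s s'))
  let q₁ : Wr π t →* G := MonoidHom.mk' Wr.g fun _ _ => rfl
  have pw := powCoprime hm
  refine ⟨Wr π t ⧸ Bn t hA, inferInstance, inferInstance, (QuotientGroup.mk' _).comp ι₁,
    QuotientGroup.lift _ q₁ fun x hx => hx.1, (injective_iff_map_eq_one _).2 fun s hs => ?_,
    fun g => ?_, fun s => rfl, le_antisymm (fun x hx => ?_) ?_, ?_⟩
  · obtain ⟨e₁, e₂⟩ := (QuotientGroup.eq_one_iff _).1 hs
    have := nm_const hA (x := ι₁ s) e₁ (h₃ s e₁)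
    rw [e₂] at this
    exact (powCoprime hm).injective (by simpa using this.symm)
  · have : ∀ i, ∃ u, π u = (t (g • i))⁻¹ * g * t i := fun i => by
      have := QuotientGroup.eq.1 (show (t (g • i) : G ⧸ π.range) = (g * t i : G) by
        rw [ht, ← smul_eq_mul, ← MulAction.Quotient.smul_mk, ht])
      rwa [← mul_assoc] at this
    choose f hf using this
    exact ⟨QuotientGroup.mk ⟨g, f, hf⟩, rfl⟩
  · obtain ⟨x, rfl⟩ := QuotientGroup.mk_surjective x
    have hx : x.g = 1 := hx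
    obtain ⟨a, ha⟩ := (powCoprime hm).surjective (nm x)
    have ha : a ^ π.range.index = nm x := ha
    have ha' : a ∈ π.ker := by
      have h := nm_mem hA hx
      rw [← ha, MonoidHom.mem_ker, map_pow, ← orderOf_dvd_iff_pow_eq_one] at h
      exact orderOf_eq_one_iff.1 (Nat.eq_one_of_dvd_coprimes hm
        ((orderOf_map_dvd π a).trans (orderOf_dvd_natCard a)) h)
    refine ⟨a, ha', QuotientGroup.eq.2 ⟨by simp [ι₁, hx, show π a = 1 from ha'], ?_⟩⟩
    have e := nm_mul hA (x := ι₁ a) (y := (ι₁ a)⁻¹ * x) ha'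
      (by simp [ι₁, hx, show π a = 1 from ha'])
    rw [mul_inv_cancel_left, show nm (ι₁ a) = nm x from
      Subtype.ext ((nm_const hA ha' (h₃ a ha')).trans ha)] at e
    simpa using e
  · rintro _ ⟨a, ha, rfl⟩
    exact ha
  · rintro _ ⟨a, ha, rfl⟩
    refine mem_center_iff.2 fun y => ?_
    obtain ⟨y, rfl⟩ := QuotientGroup.mk_surjective y
    refine congrArg QuotientGroup.mk (Wr.ext ?_ (funext fun i => ?_) : y * ι₁ a = ι₁ a * y)
    · simp [ι₁, show π a = 1 from ha]
    · simp [ι₁, show π a = 1 from ha, h₃ a ha, mem_center_iff.1 (hA ha)]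

theorem exists_ext [Finite H] (hm : (Nat.card H).Coprime π.range.index) (α : G → H → H)
    (h₁ : ∀ g u, g * π u * g⁻¹ ∈ π.range → π (α g u) = g * π u * g⁻¹)
    (h₂ : ∀ g u v, g * π u * g⁻¹ ∈ π.range → g * π v * g⁻¹ ∈ π.range →
      α g (u * v) = α g u * α g v) (h₃ : ∀ g, ∀ a ∈ π.ker, α g a = a) :
    ∃ (G₀ : Type (max u v)) (_ : Group G₀) (_ : Finite G₀) (ι : H →* G₀) (q : G₀ →* G),
      Function.Injective ι ∧ Function.Surjective q ∧ (∀ s, q (ι s) = π s) ∧
      q.ker = π.ker.map ι ∧ π.ker.map ι ≤ center G₀ := by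
  let o : G ⧸ π.range → G ⧸ π.range := fun i =>
    (Quotient.mk (MulAction.orbitRel π.range (G ⧸ π.range)) i).out
  have ho : ∀ s i, o (π s • i) = o i := fun s i => congrArg Quotient.out
    (Quotient.sound ⟨⟨π s, s, rfl⟩, rfl⟩)
  have hr : ∀ i, ∃ r, π r • o i = i := fun i => by
    obtain ⟨⟨_, r, rfl⟩, e⟩ := (MulAction.orbitRel π.range (G ⧸ π.range)).symm
      (Quotient.exact (Quotient.out_eq (Quotient.mk (MulAction.orbitRel π.range _) i)))
    exact ⟨r, e⟩
  choose r hr using hr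
  have hP : ∀ s i, (o i).out⁻¹ * π ((r (π s • i))⁻¹ * s * r i) * (o i).out⁻¹⁻¹ ∈ π.range :=
    fun s i => by
      rw [inv_inv, mul_assoc]
      refine QuotientGroup.eq.1 ?_
      rw [← smul_eq_mul, ← MulAction.Quotient.smul_mk, QuotientGroup.out_eq', map_mul, map_mul,
        mul_smul, mul_smul, hr, map_inv, eq_inv_smul_iff, ← ho s i, hr]
  refine exists_ext_of hA (t := fun i => π (r i) * (o i).out) hm (fun i => ?_)
    (fun s i => α (o i).out⁻¹ ((r (π s • i))⁻¹ * s * r i)) (fun s i => ?_) (fun s s' i => ?_)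
    fun a ha i => ?_
  · rw [← smul_eq_mul, ← MulAction.Quotient.smul_mk, QuotientGroup.out_eq', hr]
  · rw [h₁ _ _ (hP s i), ho, map_mul, map_mul, map_inv]
    group
  · have := hP s (π s' • i)
    rw [ho] at this
    rw [ho, ← h₂ _ _ _ this (hP s' i), map_mul, mul_smul]
    congr 1
    group
  · rw [show π a = 1 from ha, one_smul, mul_assoc, ← mem_center_iff.1 (hA ha),
      inv_mul_cancel_left, h₃ _ a ha]

end Cfsg.Agent.LK.Fin
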