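import Cfsg.Agent.Lib.LK.Fin1
import Cfsg.Agent.Lib.U5.Final
import Cfsg.Agent.Lib.Fus.SimpleGrp

/-!
Row FIN, step 2: a system that agrees with `F_S(G)` modulo a central subgroup is realized by `G`.
-/

set_option autoImplicit false

namespace Cfsg.Agent.LK.Fin

open Cfsg.Agent.Fus Cfsg.Agent.Fus2 Subgroup

universe u

section Key

variable {Ω : Type*} [Group Ω] {S : Subgroup Ω} {F : FusionSystem S} {P A : Subgroup Ω}

theorem M_of_comp {f₁ f₂ κ : Ω → Ω} (h₁ : M F P f₁) (h₂ : M F P f₂) (hκ : ∀ u ∈ P, κ u ∈ P)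
    (e : ∀ u ∈ P, f₂ (κ u) = f₁ u) : M F P κ := by
  obtain ⟨g, hg, eg⟩ := h₂.inv
  exact (h₁.comp hg fun u hu => e u hu ▸ mem_img_of_mem f₂ (hκ u hu)).congr fun u hu => by
    rw [← e u hu, eg _ (hκ u hu)]

theorem K_le [Finite S] {p : ℕ} [Fact p.Prime] (hS : IsPGroup p S) (hF : F.IsSaturated p)
    {F' : FusionSystem S} (hA : ∀ P f, M F P f → ∀ a ∈ P, a ∈ A → f a = a)
    (hA' : ∀ P f, M F' P f → ∀ a ∈ P, a ∈ A → f a = a)
    (h : ∀ P f, A ≤ P → M F P f → ∃ f', M F' P f' ∧ ∀ u ∈ P, (f u)⁻¹ * f' u ∈ A) (hP : A ≤ P)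
    {κ : Ω → Ω} (hκ : M F P κ) (hk : ∀ u ∈ P, u⁻¹ * κ u ∈ A) : M F' P κ := by
  have mP : ∀ u ∈ P, κ u ∈ P := fun u hu => by simpa using mul_mem hu (hP (hk u hu))
  obtain ⟨Q, hQ, hn⟩ := exists_isConj_fullyNormalized (F := F) hκ.le
  obtain ⟨f, hf, rfl⟩ := Fus2.isConj_iff.1 hQ
  obtain ⟨g, hg, -, e₁, e₂, e₃⟩ := hf.inv' rfl
  have hAQ : A ≤ img P f := fun a ha => hA P f hf a (hP ha) ha ▸ mem_img_of_mem f (hP ha)
  have ek : ∀ u ∈ P, f (κ u) = f u * (u⁻¹ * κ u) := fun u hu => by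
    conv_lhs => rw [← mul_inv_cancel_left u (κ u), hf.map_mul hu (hP (hk u hu)),
      hA P f hf _ (hP (hk u hu)) (hk u hu)]
  obtain ⟨β, hβ, eβ⟩ := ((hg.comp hκ e₂).comp hf fun y hy => mP _ (e₂ y hy)).exists_aut'
    fun y hy => mem_img_of_mem f (mP _ (e₂ y hy))
  have hc : β ∈ autCore F p (img P f) := by
    refine mem_autCore_of_chain' hS hn.1 (fun i => if i = 0 then ⊥ else if i = 1 then A else ⊤) 2
      ?_ (by simp) rfl ?_ hβ ?_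
    · intro i hi
      interval_cases i <;> simp
    · intro γ hγ i hi x hx hxi
      interval_cases i
      · rw [show x = 1 from hxi]; exact (homOn_afn γ).map_one
      · rw [hA _ _ (M_afn hn.1 hγ) x hx hxi]; exact hxi
      · trivial
    · intro i hi x hx hxi
      interval_cases i
      · rw [hA _ _ (M_afn hn.1 hβ) x hx hxi, inv_mul_cancel]; exact one_mem _
      · rw [eβ x hx, ek _ (e₂ x hx), e₃ x hx, inv_mul_cancel_left]
        exact hk _ (e₂ x hx)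
  obtain ⟨s, hs, es⟩ := Fus2.mem_autInducedBy_iff.1 ((sat_sylow hS hF hn).map_pCore_le hc)
  obtain ⟨f', hf', e'⟩ := h P f hP hf
  have mQ : ∀ u ∈ P, f' u ∈ img P f := fun u hu => by
    simpa using mul_mem (mem_img_of_mem f hu) (hAQ (e' u hu))
  have cm : ∀ a ∈ A, ∀ x ∈ S, x * a = a * x := fun a ha x hx =>
    mul_inv_eq_iff_eq_mul.1 (hA S _ (M_conj F le_rfl hx) a (hκ.le (hP ha)) ha)
  refine M_of_comp (hf'.comp (M_conj F' hn.1 hs) mQ) hf' mP fun u hu => ?_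
  have hm := mem_img_of_mem f hu
  rw [← es _ (mQ u hu), ← mul_inv_cancel_left (f u) (f' u),
    (homOn_afn β).map_mul hm (hAQ (e' u hu)), hA _ _ (M_afn hn.1 hβ) _ (hAQ (e' u hu)) (e' u hu),
    eβ _ hm, e₁ u hu, ek u hu, mul_assoc, ← cm _ (hk u hu) _ (hκ.le (hP (e' u hu))),
    ← mul_assoc, mul_inv_cancel_left]
  conv_lhs => rw [← mul_inv_cancel_left u (κ u), hf'.map_mul hu (hP (hk u hu)),
    hA' P f' hf' _ (hP (hk u hu)) (hk u hu)]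

end Key

variable {G : Type u} [Group G] {S A : Subgroup G}

/-- The domain of conjugation by `g`. -/
def Pg (S : Subgroup G) (g : G) : Subgroup G := S ⊓ S.comap (MulAut.conj g).toMonoidHom

theorem mem_Pg {g u : G} : u ∈ Pg S g ↔ u ∈ S ∧ g * u * g⁻¹ ∈ S := Iff.rfl

theorem real_of_agree [Finite G] {p : ℕ} [Fact p.Prime] (hK : KVStmt.{u}) (hS : IsSylowIn p S ⊤)
    (hZ : A ≤ center G) {F : FusionSystem S} (hF : F.IsSaturated p) (hA : F.IsCentral A)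
    (L₁ : ∀ g, ∃ α, M F (Pg S g) α ∧ ∀ u ∈ Pg S g, (g * u * g⁻¹)⁻¹ * α u ∈ A)
    (L₂ : ∀ P f, M F P f → ∃ g, ∀ u ∈ P, (g * u * g⁻¹)⁻¹ * f u ∈ A) : F.IsRealizable p := by
  classical
  choose α hα eα using L₁
  have hAS : A ≤ S := hA.1
  have cm : ∀ a ∈ A, ∀ x, x * a = a * x := fun a ha => mem_center_iff.1 (hZ ha)
  have cj : ∀ a ∈ A, ∀ x, x * a * x⁻¹ = a := fun a ha x => by
    rw [cm a ha, mul_inv_cancel_right]
  have c₂ : ∀ a ∈ A, ∀ g x, g * (x * a) * g⁻¹ = g * x * g⁻¹ * a := fun a ha g x => by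
    rw [mul_assoc (g * x), cm a ha g⁻¹]; group
  have hAP : ∀ g, A ≤ Pg S g := fun g a ha => ⟨hAS ha, by
    show g * a * g⁻¹ ∈ S; rw [cj a ha]; exact hAS ha⟩
  have fF : ∀ P f, M F P f → ∀ a ∈ P, a ∈ A → f a = a := fun P f hf a => isCentral_fix hA hf
  have fG : ∀ P f, M (groupFusionSystem S) P f → ∀ a ∈ P, a ∈ A → f a = a :=
    fun P f hf a ha haA => by
      obtain ⟨-, -, g, e⟩ := M_group_iff.1 hf
      rw [e a ha, cj a haA]
  have KFG : ∀ {P κ}, A ≤ P → M F P κ → (∀ u ∈ P, u⁻¹ * κ u ∈ A) →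
      ∃ z, ∀ u ∈ P, κ u = z * u * z⁻¹ := fun hP hκ hk =>
    (M_group_iff.1 (K_le hS.isPGroup hF fF fG (fun P f _ hf => by
      obtain ⟨g, hg⟩ := L₂ P f hf
      refine ⟨fun u => g * u * g⁻¹, M_group_iff.2 ⟨hf.le, fun u hu => ?_, g, fun _ _ => rfl⟩,
        fun u hu => by simpa using inv_mem (hg u hu)⟩
      simpa using mul_mem (hf.mem hu) (inv_mem (hAS (hg u hu)))) hP hκ hk)).2.2
  have KGF : ∀ {P} z, A ≤ P → P ≤ S → (∀ u ∈ P, u⁻¹ * (z * u * z⁻¹) ∈ A) →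
      M F P fun u => z * u * z⁻¹ := fun z hP hPS hk =>
    K_le hS.isPGroup (group_isSaturated' hS) fG fF (fun P f _ hf => by
      obtain ⟨h₁, h₂, g, e⟩ := M_group_iff.1 hf
      have : P ≤ Pg S g := fun u hu => ⟨h₁ hu, by
        show g * u * g⁻¹ ∈ S; rw [← e u hu]; exact h₂ u hu⟩
      exact ⟨α g, (hα g).mono this, fun u hu => by rw [e u hu]; exact eα g u (this hu)⟩) hP
      (M_group_iff.2 ⟨hPS, fun u hu => by simpa using mul_mem (hPS hu) (hAS (hk u hu)), z,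
        fun _ _ => rfl⟩) hk
  obtain ⟨φ, hφ₁, hφ₂⟩ : ∃ φ : G → G → G, (∀ g u, φ g u ∈ A) ∧
      ∀ g, ∀ u ∈ Pg S g, α g u = g * u * g⁻¹ * φ g u :=
    ⟨fun g u => if u ∈ Pg S g then (g * u * g⁻¹)⁻¹ * α g u else 1, fun g u => by
      dsimp only
      split_ifs with h
      exacts [eα g u h, one_mem _], fun g u hu => by simp [hu, mul_assoc]⟩
  have fin : ∀ {u a z : G}, a ∈ A → u * a = z * u * z⁻¹ → a = z * u * z⁻¹ * u⁻¹ :=
    fun ha e => by rw [← e, cj _ ha]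
  obtain ⟨ψ, ψ₁, ψ₂, ψ₃, ψ₄⟩ := hK p S A ⟨le_top, hS.isPGroup, hS.not_dvd_relIndex⟩ hZ hAS φ hφ₁
    (fun g u hu v hv hu' hv' => by
      have m : u * v ∈ Pg S g := mul_mem ⟨hu, hu'⟩ ⟨hv, hv'⟩
      have := (hα g).map_mul (x := u) (y := v) ⟨hu, hu'⟩ ⟨hv, hv'⟩
      rw [hφ₂ g _ m, hφ₂ g u ⟨hu, hu'⟩, hφ₂ g v ⟨hv, hv'⟩, mul_assoc _ (φ g u),
        ← mul_assoc (φ g u), ← cm _ (hφ₁ g u)] at this
      refine mul_left_cancel (a := g * (u * v) * g⁻¹) (this.trans ?_)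
      group)
    (fun g a ha => by
      have := hφ₂ g a (hAP g ha)
      rw [fF _ _ (hα g) a (hAP g ha) ha, cj a ha] at this
      simpa using this)
    (fun s hs => by
      have hm : ∀ u ∈ S, u ∈ Pg S s := fun u hu => ⟨hu, mul_mem (mul_mem hs hu) (inv_mem hs)⟩
      obtain ⟨z, hz⟩ := KFG (κ := fun u => u * φ s u) hAS (M_of_comp ((hα s).mono hm)
        (M_conj F le_rfl hs) (fun u hu => mul_mem hu (hAS (hφ₁ s u))) fun u hu => by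
          rw [hφ₂ s u (hm u hu), mul_assoc _ s⁻¹, cm _ (hφ₁ s u) s⁻¹]; group)
        fun u _ => by simpa using hφ₁ s u
      exact ⟨z, fun u hu => fin (hφ₁ s u) (hz u hu)⟩)
    (fun g h => by
      have hχ : ∀ u, (φ g (h * u * h⁻¹) * φ h u)⁻¹ * φ (g * h) u ∈ A := fun u =>
        mul_mem (inv_mem (mul_mem (hφ₁ _ _) (hφ₁ _ _))) (hφ₁ _ _)
      have hP : A ≤ Pg S h ⊓ Pg S (g * h) := le_inf (hAP _) (hAP _)
      have m₁ : ∀ u ∈ Pg S h ⊓ Pg S (g * h), h * u * h⁻¹ ∈ Pg S g := fun u hu =>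
        ⟨hu.1.2, by simpa [mul_assoc] using hu.2.2⟩
      have m₂ : ∀ u ∈ Pg S h ⊓ Pg S (g * h), α h u ∈ Pg S g := fun u hu => by
        rw [hφ₂ h u hu.1]; exact mul_mem (m₁ u hu) (hAP g (hφ₁ _ _))
      have c := ((hα h).mono inf_le_left).comp (hα g) m₂
      obtain ⟨z, hz⟩ := KFG (κ := fun u => u * ((φ g (h * u * h⁻¹) * φ h u)⁻¹ * φ (g * h) u)) hP
        (M_of_comp ((hα (g * h)).mono inf_le_right) c (fun u hu => mul_mem hu (hP (hχ u)))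
          fun u hu => by
            have := c.map_mul hu (hP (hχ u))
            beta_reduce at this
            rw [this, show α g (α h _) = _ from fF _ _ c _ (hP (hχ u)) (hχ u), hφ₂ h u hu.1,
              (hα g).map_mul (m₁ u hu) (hAP g (hφ₁ _ _)),
              fF _ _ (hα g) _ (hAP g (hφ₁ _ _)) (hφ₁ _ _), hφ₂ g _ (m₁ u hu), hφ₂ _ u hu.2]
            group)
        fun u _ => by simpa using hχ u
      refine ⟨z, fun u hu h₁ h₂ => ?_⟩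
      rw [← fin (hχ u) (hz u ⟨⟨hu, h₁⟩, hu, by simpa [mul_assoc] using h₂⟩), mul_inv_cancel_left])
  have hτ : HomOn S fun u => u * ψ u := fun u hu v hv => by
    beta_reduce
    rw [ψ₂ u hu v hv, mul_assoc u (ψ u), ← mul_assoc (ψ u), ← cm _ (ψ₁ u) v]
    group
  have mτ : ∀ u ∈ S, u * ψ u ∈ S := fun u hu => mul_mem hu (hAS (ψ₁ u))
  have iτ : ∀ u ∈ S, ∀ v ∈ S, u * ψ u = v * ψ v → u = v := fun u hu v hv e => by
    have h₁ := hτ _ (inv_mem hu) v hv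
    beta_reduce at h₁
    rw [hτ.map_inv hu, e, inv_mul_cancel] at h₁
    have h₂ : u⁻¹ * v ∈ A := by rw [eq_inv_of_mul_eq_one_left h₁]; exact inv_mem (ψ₁ _)
    rw [ψ₃ _ h₂, mul_one] at h₁
    exact inv_mul_eq_one.1 h₁
  obtain ⟨σ, hσ⟩ := exists_gIso hτ iτ (S' := S)
    (eq_of_le_of_card_le (img_le_iff.2 mτ) (hτ.card_img iτ).ge)
  have σ₁ : ∀ u ∈ S, σ (u * ψ u) = u := hσ.left
  have σ₂ : ∀ x ∈ S, σ x * ψ (σ x) = x := hσ.right
  have σ₃ : ∀ x ∈ S, σ x = x * (ψ (σ x))⁻¹ := fun x hx => eq_mul_inv_of_mul_eq (σ₂ x hx)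
  have σ₄ : ∀ g, ∀ x ∈ Pg S g, σ x ∈ Pg S g := fun g x hx => by
    rw [σ₃ x hx.1]; exact mul_mem hx (hAP g (inv_mem (ψ₁ _)))
  have T : ∀ g, M F (Pg S g) fun x => g * σ x * g⁻¹ * ψ (g * σ x * g⁻¹) := fun g => by
    obtain ⟨z, hz⟩ := ψ₄ g
    have h₁ : ∀ x ∈ Pg S g, z * σ x * z⁻¹ * (σ x)⁻¹ ∈ A := fun x hx => by
      have := mul_mem (inv_mem (mul_mem (hφ₁ g (σ x)) (ψ₁ (σ x)))) (ψ₁ (g * σ x * g⁻¹))
      rwa [hz _ (σ₄ g x hx).1 (σ₄ g x hx).2, inv_mul_cancel_left] at this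
    have h₂ : ∀ x ∈ Pg S g, z * x * z⁻¹ = σ x * (ψ (σ x) * (z * σ x * z⁻¹ * (σ x)⁻¹)) :=
      fun x hx => by
        conv_lhs => rw [← σ₂ x hx.1, ← mul_assoc, mul_assoc _ (ψ _), ← cm _ (ψ₁ _), ← mul_assoc]
        rw [← cm _ (ψ₁ (σ x)), ← mul_assoc, cm _ (h₁ x hx)]
        group
    have h₃ : ∀ x ∈ Pg S g, x⁻¹ * (z * x * z⁻¹) ∈ A := fun x hx => by
      rw [h₂ x hx, ← mul_assoc (σ x), σ₂ x hx.1, inv_mul_cancel_left]
      exact h₁ x hx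
    refine ((KGF z (hAP g) inf_le_left h₃).comp (hα g) fun x hx => by
      simpa using mul_mem hx (hAP g (h₃ x hx))).congr fun x hx => ?_
    have hm := mul_mem (ψ₁ (σ x)) (h₁ x hx)
    rw [h₂ x hx, (hα g).map_mul (σ₄ g x hx) (hAP g hm), fF _ _ (hα g) _ (hAP g hm) hm,
      hφ₂ g _ (σ₄ g x hx), hz _ (σ₄ g x hx).1 (σ₄ g x hx).2]
    group
  have hι := hσ.symm.hom
  obtain ⟨T₀, hT₀⟩ := isSylowIn_top_iff.1 hS
  refine ⟨G, inferInstance, inferInstance, hι.toHom, isRealizedBy_iff.2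
    ⟨fun x y e => Subtype.ext (hσ.symm.inj _ x.2 _ y.2 e), fun P f hP hf => ⟨fun h => ?_, ?_⟩⟩,
    T₀, by rw [hT₀, ← hι.img_eq_range, hσ.symm.img_top]⟩
  · obtain ⟨f₀, hf₀, e₀, -⟩ := isCentral_ext hA h
    obtain ⟨g, hg⟩ := L₂ _ f₀ hf₀
    have hle : P ⊔ A ≤ Pg S g := fun u hu => ⟨hf₀.le hu, by
      simpa using mul_mem (hf₀.mem hu) (inv_mem (hAS (hg u hu)))⟩
    have h₁ := (T g).mono hle
    have hχ : ∀ x ∈ P ⊔ A, (g * σ x * g⁻¹ * ψ (g * σ x * g⁻¹))⁻¹ * f₀ x ∈ A := fun x hx => by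
      have := mul_mem (inv_mem (mul_mem (inv_mem (ψ₁ (σ x))) (ψ₁ (g * σ x * g⁻¹)))) (hg x hx)
      have e := c₂ _ (inv_mem (ψ₁ (σ x))) g x
      rw [← σ₃ x (hle hx).1] at e
      generalize ψ (g * σ x * g⁻¹) = b at this ⊢
      rw [e]
      convert this using 1
      group
    have hAle : A ≤ P ⊔ A := le_sup_right
    have key : ∀ x ∈ P ⊔ A, ∀ a ∈ A, g * σ (x * a) * g⁻¹ * ψ (g * σ (x * a) * g⁻¹) =
        g * σ x * g⁻¹ * ψ (g * σ x * g⁻¹) * a := fun x hx a ha => by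
      have := h₁.map_mul hx (hAle ha)
      beta_reduce at this
      rw [this, show g * σ a * g⁻¹ * ψ (g * σ a * g⁻¹) = a from fF _ _ h₁ a (hAle ha) ha]
    obtain ⟨z, hz⟩ := KFG (κ := fun x => x * ((g * σ x * g⁻¹ * ψ (g * σ x * g⁻¹))⁻¹ * f₀ x)) hAle
      (M_of_comp hf₀ h₁ (fun x hx => mul_mem hx (hAle (hχ x hx))) fun x hx => by
        rw [key x hx _ (hχ x hx), mul_inv_cancel_left]) fun x hx => by simpa using hχ x hx
    refine ⟨g * z, fun x hx => ?_⟩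
    have hx' : x ∈ P ⊔ A := le_sup_left (α := Subgroup G) hx
    have h₂ := hz x hx'
    obtain ⟨a, ha, ea⟩ : ∃ a ∈ A, a = (g * σ x * g⁻¹ * ψ (g * σ x * g⁻¹))⁻¹ * f₀ x :=
      ⟨_, hχ x hx', rfl⟩
    rw [← ea] at h₂
    have h₃ : σ a = a := by simpa [ψ₃ a ha] using σ₁ a (hAS ha)
    have h₄ : z * σ x * z⁻¹ = σ x * a := by
      rw [σ₃ x (hP hx), c₂ _ (inv_mem (ψ₁ _)), ← h₂, mul_assoc, mul_assoc, cm _ ha]
    rw [hι.fn_toHom (hf x hx), hι.fn_toHom (hP hx), ← e₀ x hx,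
      ← mul_inv_cancel_left (g * σ x * g⁻¹ * ψ (g * σ x * g⁻¹)) (f₀ x), ← ea, ← key x hx' a ha,
      σ₁ _ (mem_Pg.1 (σ₄ g _ (hle (mul_mem hx' (hAle ha))))).2, hι _ (hP hx) _ (hAS ha), h₃, ← h₄]
    group
  · rintro ⟨g, hg⟩
    have hg : ∀ x ∈ P, σ (f x) = g * σ x * g⁻¹ := fun x hx => by
      rw [← hι.fn_toHom (hf x hx), ← hι.fn_toHom (hP hx), hg x hx]
    refine ((T g).mono fun x hx => ?_).congr fun x hx => by rw [← hg x hx, σ₂ _ (hf x hx)]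
    rw [← σ₂ x (hP hx)]
    exact mul_mem ⟨hσ.mem' x (hP hx), by
      show g * σ x * g⁻¹ ∈ S; rw [← hg x hx]; exact hσ.mem' _ (hf x hx)⟩ (hAP g (ψ₁ _))

end Cfsg.Agent.LK.Fin
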