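import Cfsg.Agent.Lib.LK.Fin2
import Cfsg.Agent.Lib.ZJ.Inner

/-!
Row FIN: `F` is realizable if and only if `F / A` is, for `A` central.
-/

set_option autoImplicit false

namespace Cfsg.Agent.LK.Fin

open Cfsg.Agent.Fus Cfsg.Agent.Fus2 Subgroup
open Cfsg.FusionSystem (preimageAlong)

universe u v w

variable {Ω : Type u} [Group Ω] {S A : Subgroup Ω} {F : FusionSystem S} {p : ℕ}
  [hp : Fact p.Prime]

theorem real_of_realized {G : Type w} [Group G] [Finite G] {ι : S →* G} (h : F.IsRealizedBy ι)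
    (hT : IsSylowIn p ι.range ⊤) : F.IsRealizable p := by
  obtain ⟨b, hb⟩ := Asch.realized_isoM h
  obtain ⟨T, e⟩ := isSylowIn_top_iff.1 hT
  refine U5.real_of_isoM hb ⟨G, inferInstance, inferInstance, ι.range.subtype,
    isRealizedBy_iff.2 ⟨subtype_injective _, fun P f hP hf => ?_⟩, T, by rw [e, range_subtype]⟩
  rw [M_group_iff, and_iff_right hP, and_iff_right hf]
  refine exists_congr fun g => forall₂_congr fun x hx => ?_
  rw [fn_apply _ (hf x hx), fn_apply _ (hP hx)]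
  rfl

theorem real_of_pi [Finite S] (hS : IsPGroup p S) (hF : F.IsSaturated p) (hA : F.IsCentral A)
    {G : Type w} [Group G] [Finite G] (hK : KVStmt.{max u w}) (π : S →* G)
    (hk : preimageAlong π ⊥ = A) (hs : ¬ p ∣ π.range.index)
    (L₁ : ∀ g, ∃ α, M F (preimageAlong π (Pg π.range g)) α ∧
      ∀ u ∈ preimageAlong π (Pg π.range g), fn π (α u) = g * fn π u * g⁻¹)
    (L₂ : ∀ P f, M F P f → ∃ g, ∀ u ∈ P, fn π (f u) = g * fn π u * g⁻¹) : F.IsRealizable p := by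
  classical
  choose α hα eα using L₁
  have mk : ∀ {s : S}, s ∈ π.ker → (s : Ω) ∈ A := fun {s} hs =>
    hk ▸ mem_pre_bot.2 ⟨s.2, by rw [fn_apply _ s.2]; exact hs⟩
  have mP : ∀ g (u : S), g * π u * g⁻¹ ∈ π.range → (u : Ω) ∈ preimageAlong π (Pg π.range g) :=
    fun g u h => mem_pre.2 ⟨u.2, by rw [fn_apply _ u.2]; exact ⟨⟨u, rfl⟩, h⟩⟩
  obtain ⟨G₀, _, _, ι, q, hι, hq, e, k₁, k₂⟩ := exists_ext (π := π)
    (fun s hs => mem_center_iff.2 fun x => Subtype.ext (isCentral_comm hA (mk hs) x.2)) (by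
      obtain ⟨k, hk⟩ := hS.exists_card_eq
      rw [hk]
      exact (hp.out.coprime_iff_not_dvd.2 hs).pow_left k)
    (fun g u => if h : g * π u * g⁻¹ ∈ π.range then ⟨α g u, (hα g).mem (mP g u h)⟩ else 1)
    (fun g u h => by
      rw [dif_pos h, ← fn_apply π ((hα g).mem (mP g u h)), eα g _ (mP g u h), fn_apply _ u.2])
    (fun g u v hu hv => by
      have : g * π (u * v) * g⁻¹ ∈ π.range := by
        simpa [mul_assoc] using mul_mem hu hv
      rw [dif_pos hu, dif_pos hv, dif_pos this]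
      exact Subtype.ext ((hα g).map_mul (mP g u hu) (mP g v hv)))
    (fun g a ha => by
      have : g * π a * g⁻¹ ∈ π.range := by simp [show π a = 1 from ha]
      rw [dif_pos this]
      exact Subtype.ext (isCentral_fix hA (hα g) (mP g a this) (mk ha)))
  obtain ⟨b, hb⟩ := exists_gIso (homOn_fn ι) (Asch.fn_inj hι) (img_fn ι)
  obtain ⟨F', hF'⟩ := hb.exists_isoM F
  have eq : ∀ x ∈ S, q (fn ι x) = fn π x := fun x hx => by
    rw [fn_apply _ hx, fn_apply _ hx, e]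
  have eA : img A (fn ι) = q.ker := by
    rw [k₁, ← map_subgroupOf_eq_img ι hA.1, ← hk, pre_bot_eq_ker, subgroupOf,
      comap_map_eq_self_of_injective (subtype_injective S)]
  have er : ι.range = π.range.comap q := by
    refine le_antisymm (by rintro _ ⟨s, rfl⟩; exact ⟨s, (e s).symm⟩) fun x ⟨s, hs⟩ => ?_
    have : (ι s)⁻¹ * x ∈ q.ker := by simp [e, hs]
    rw [k₁] at this
    simpa using mul_mem (⟨s, rfl⟩ : ι s ∈ ι.range) (map_le_range _ _ this)
  refine U5.real_of_isoM hF' (real_of_agree hK (isSylowIn_of_not_dvd le_top (hb.isPGroup hS) (by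
    rwa [relIndex_top_right, er, index_comap_of_surjective _ hq])) (A := q.ker) (k₁ ▸ k₂)
    (hF'.saturated hS hF) (eA ▸ hF'.isCentral hA) (fun g => ?_) fun P f hf => ?_)
  · have hm : ∀ y ∈ Pg ι.range g, b y ∈ preimageAlong π (Pg π.range (q g)) := fun y hy => by
      refine mem_pre.2 ⟨hb.mem' y hy.1, fn_mem_range _ (hb.mem' y hy.1), ?_⟩
      have := (mem_Pg.1 hy).2
      rw [er, mem_comap, map_mul, map_mul, map_inv, ← hb.right y hy.1, eq _ (hb.mem' y hy.1)] at this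
      exact this
    refine ⟨_, (hF'.push _ _ (hα (q g))).mono fun y hy => ?_, fun y hy => ?_⟩
    · rw [← hb.right y hy.1]
      exact mem_img_of_mem _ (hm y hy)
    · rw [MonoidHom.mem_ker, map_mul, eq _ ((hα _).mem (hm y hy)), eα _ _ (hm y hy),
        ← eq _ (hb.mem' y hy.1), hb.right y hy.1]
      simp only [map_mul, map_inv, inv_mul_cancel]
  · obtain ⟨g, hg⟩ := L₂ _ _ (hF'.pull _ _ hf)
    obtain ⟨g, rfl⟩ := hq g
    refine ⟨g, fun y hy => ?_⟩
    have := hg _ (mem_img_of_mem b hy)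
    rw [hb.right y (hf.le hy), ← eq _ (hb.mem' _ (hf.mem hy)), ← eq _ (hb.mem' _ (hf.le hy)),
      hb.right _ (hf.mem hy), hb.right _ (hf.le hy)] at this
    rw [MonoidHom.mem_ker, map_mul, this]
    simp only [map_mul, map_inv, inv_mul_cancel]

variable {Ω' : Type v} [Group Ω'] {S' : Subgroup Ω'} {θ : S →* Ω'} {E : FusionSystem S'}

theorem up [Finite S] (hS : IsPGroup p S) (hF : F.IsSaturated p) (hA : F.IsCentral A)
    (hK : KVStmt.{max u v}) (hE : F.IsFactorSystem A θ E) (h : E.IsRealizable p) :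
    F.IsRealizable p := by
  obtain ⟨G, _, _, ι, hι, T, hT⟩ := h
  have hs := surjM_of_factor_of_normal hE (isNormal_of_isCentral hA)
  have hm : ∀ x ∈ S, fn θ x ∈ S' := fun x hx => hs.range ▸ fn_mem_range θ hx
  obtain ⟨π, hπ⟩ : ∃ π : S →* G, ∀ x ∈ S, fn π x = fn ι (fn θ x) :=
    ⟨((homOn_fn θ).comp (homOn_fn ι) hm).toHom, fun x hx => HomOn.fn_toHom _ hx⟩
  have hr : π.range = ι.range := by
    refine le_antisymm ?_ ?_
    · rintro _ ⟨s, rfl⟩
      rw [← fn_apply π s.2, hπ _ s.2]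
      exact fn_mem_range ι (hm _ s.2)
    · rintro _ ⟨y, rfl⟩
      obtain ⟨s, e⟩ : (y : Ω') ∈ θ.range := hs.range ▸ y.2
      exact ⟨s, by rw [← fn_apply π s.2, hπ _ s.2, fn_apply θ s.2, ← fn_apply ι y.2]; exact congrArg _ e⟩
  refine real_of_pi hS hF hA hK π ?_ (by rw [hr, ← hT]; exact T.not_dvd_index) (fun g => ?_)
    fun P f hf => ?_
  · rw [← factor_ker hE]
    ext x
    rw [mem_pre_bot, mem_pre_bot]
    refine and_congr_right fun hx => ?_
    rw [hπ x hx]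
    exact ⟨fun e => Asch.fn_inj hι.1 _ (hm x hx) _ (one_mem _)
      (e.trans (homOn_fn ι).map_one.symm), fun e => by rw [e, (homOn_fn ι).map_one]⟩
  · obtain ⟨f', hf', e'⟩ := (ZJF.emb_of_realized hι).ind (preimageAlong ι (Pg ι.range g)) g
      (pre_le _ _) fun x hx => (mem_pre.1 hx).2.2
    obtain ⟨f, hf, e⟩ := hs.lift _ _ hf'
    have hle : preimageAlong π (Pg π.range g) ≤
        preimageAlong θ (preimageAlong ι (Pg ι.range g)) := fun x hx => by
      obtain ⟨h₁, h₂⟩ := mem_pre.1 hx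
      rw [hπ x h₁, hr] at h₂
      exact mem_pre.2 ⟨h₁, mem_pre.2 ⟨hm x h₁, h₂⟩⟩
    refine ⟨f, hf.mono hle, fun x hx => ?_⟩
    rw [hπ _ (hf.mem (hle hx)), ← e x (hle hx), e' _ (mem_pre.1 (hle hx)).2, hπ x (pre_le _ _ hx)]
  · obtain ⟨f', hf', e'⟩ := hs.push P f hf
    obtain ⟨g, hg⟩ := ((isRealizedBy_iff.1 hι).2 _ f' hf'.le fun _ => hf'.mem).1 hf'
    exact ⟨g, fun x hx => by
      rw [hπ _ (hf.mem hx), ← e' x hx, hg _ (mem_img_of_mem _ hx), hπ _ (hf.le hx)]⟩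

theorem down [Finite S] (hA : F.IsCentral A) (hE : F.IsFactorSystem A θ E)
    (h : F.IsRealizable p) : E.IsRealizable p := by
  obtain ⟨G, _, _, ι, hι, T, hT⟩ := h
  have hs := surjM_of_factor_of_normal hE (isNormal_of_isCentral hA)
  have hf := homOn_fn ι
  have hC : ι.range ≤ centralizer (img A (fn ι) : Set G) := by
    rintro _ ⟨s, rfl⟩ y hy
    obtain ⟨a, ha, rfl⟩ := (mem_img_fn hA.1).1 hy
    rw [← fn_apply ι s.2, ← hf _ (hA.1 ha) _ s.2, ← hf _ s.2 _ (hA.1 ha), isCentral_comm hA ha s.2]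
  set C := centralizer (img A (fn ι) : Set G)
  have : ((img A (fn ι)).subgroupOf C).Normal := ⟨fun x hx g => by
    have e : (x : G) * g = g * x := mem_centralizer_iff.1 g.2 _ (mem_subgroupOf.1 hx)
    rw [mem_subgroupOf, coe_mul, coe_mul, ← e, coe_inv, mul_inv_cancel_right]
    exact hx⟩
  let π : S →* C ⧸ (img A (fn ι)).subgroupOf C :=
    (QuotientGroup.mk' _).comp (ι.codRestrict C fun s => hC ⟨s, rfl⟩)
  have hπ : ∀ s : S, π s = 1 ↔ θ s = 1 := fun s => by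
    rw [hE.2.1]
    refine (QuotientGroup.eq_one_iff _).trans ⟨fun h => ?_, fun h => ?_⟩
    · obtain ⟨a, ha, e⟩ := (mem_img_fn hA.1).1 h
      rw [fn_apply _ (hA.1 ha)] at e
      rwa [← show _ = s from hι.1 e]
    · have := mem_img_of_mem (fn ι) h
      rwa [fn_apply _ s.2] at this
  let θ' : S →* S' := θ.codRestrict S' fun s => hs.range ▸ ⟨s, rfl⟩
  have hθ : Function.Surjective θ' := fun ⟨y, hy⟩ => by
    obtain ⟨s, rfl⟩ : y ∈ θ.range := hs.range ▸ hy
    exact ⟨s, rfl⟩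
  obtain ⟨κ, hκ⟩ : ∃ κ : S' →* C ⧸ (img A (fn ι)).subgroupOf C, ∀ s, κ (θ' s) = π s :=
    ⟨θ'.liftOfSurjective hθ ⟨π, fun s h => (hπ s).2 (congrArg Subtype.val h)⟩, fun s =>
      θ'.liftOfRightInverse_comp_apply _ _ _ s⟩
  have hi : Function.Injective κ := (injective_iff_map_eq_one κ).2 fun y hy => by
    obtain ⟨s, rfl⟩ := hθ y
    exact Subtype.ext ((hπ s).1 ((hκ s).symm.trans hy))
  have e₁ : ∀ x, ∀ hx : x ∈ S,
      fn κ (fn θ x) = QuotientGroup.mk ⟨fn ι x, hC (fn_mem_range ι hx)⟩ := fun x hx => by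
    rw [fn_apply θ hx]
    exact (fn_apply κ (θ' ⟨x, hx⟩).2).trans
      ((hκ ⟨x, hx⟩).trans (congrArg QuotientGroup.mk (Subtype.ext (fn_apply ι hx).symm)))
  refine real_of_realized (ι := κ) (isRealizedBy_iff.2 ⟨hi, fun P f' hP hm => ⟨fun h => ?_, ?_⟩⟩) ?_
  · obtain ⟨f, h₁, e⟩ := hs.lift _ _ h
    obtain ⟨g, hg⟩ := ((isRealizedBy_iff.1 hι).2 _ f h₁.le fun _ => h₁.mem).1 h₁
    have hAP : A ≤ preimageAlong θ P := factor_ker hE ▸ pre_bot_le θ P
    refine ⟨QuotientGroup.mk ⟨g, fun y hy => ?_⟩, fun y hy => ?_⟩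
    · obtain ⟨a, ha, rfl⟩ := (mem_img_fn hA.1).1 hy
      have := hg a (hAP ha)
      rw [isCentral_fix hA h₁ (hAP ha) ha] at this
      exact eq_mul_inv_iff_mul_eq.1 this
    · obtain ⟨x, hx, rfl⟩ := exists_pre_of_le_range (hs.range ▸ hP) y hy
      rw [e x hx, e₁ _ (h₁.mem hx), e₁ _ (h₁.le hx)]
      exact congrArg QuotientGroup.mk (Subtype.ext (hg x hx))
  · rintro ⟨g, hg⟩
    obtain ⟨g, rfl⟩ := QuotientGroup.mk_surjective g
    obtain ⟨f, h₁, e⟩ := (ZJF.emb_of_realized hι).ind (preimageAlong θ P) g (pre_le _ _) fun x hx => by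
      obtain ⟨hx, hx'⟩ := mem_pre.1 hx
      obtain ⟨s, hs', e⟩ := exists_pre_of_le_range (θ := θ) hs.range.ge _ (hm _ hx')
      have := hg _ hx'
      rw [← e, e₁ _ (pre_le _ _ hs'), e₁ _ hx, ← QuotientGroup.mk_inv, ← QuotientGroup.mk_mul,
        ← QuotientGroup.mk_mul] at this
      have := mul_mem (fn_mem_range ι (pre_le _ _ hs'))
        (img_le_range ι hA.1 (mem_subgroupOf.1 (QuotientGroup.eq.1 this)))
      simpa using this
    refine (M_factor_iff hE).2 ⟨hs.range ▸ hP, f, h₁, fun x hx => ?_⟩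
    refine Asch.fn_inj hi _ (hm _ (mem_pre.1 hx).2) _ (hs.range ▸ fn_mem_range θ (h₁.mem hx)) ?_
    rw [hg _ (mem_pre.1 hx).2, e₁ _ (h₁.mem hx), e₁ _ (h₁.le hx)]
    exact congrArg QuotientGroup.mk (Subtype.ext (e x hx).symm)
  · have h₁ : IsSylowIn p (ι.range.subgroupOf C) ⊤ := by
      have := (isSylowIn_top T).of_le (hT ▸ hC) le_top
      rw [hT] at this
      exact isSylowIn_top_iff.2 this.2
    have h₂ := h₁.map (QuotientGroup.mk' ((img A (fn ι)).subgroupOf C))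
    rw [map_top_of_surjective _ (QuotientGroup.mk'_surjective _)] at h₂
    convert h₂ using 1
    refine le_antisymm ?_ ?_
    · rintro _ ⟨y, rfl⟩
      obtain ⟨s, rfl⟩ := hθ y
      exact ⟨_, ⟨s, rfl⟩, (hκ s).symm⟩
    · rintro _ ⟨x, ⟨s, e⟩, rfl⟩
      exact ⟨θ' s, (hκ s).trans (congrArg QuotientGroup.mk (Subtype.ext e))⟩

theorem s5242_of [Finite S] (hK : KVStmt.{max u v}) (hS : IsPGroup p S) (hF : F.IsSaturated p)
    (hA : F.IsCentral A) (hE : F.IsFactorSystem A θ E) : F.IsExotic p ↔ E.IsExotic p :=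
  ⟨fun h => ⟨saturated_of_factor hS hF hE (sc_of_isNormal (isNormal_of_isCentral hA)),
    fun h' => h.2 (up hS hF hA hK hE h')⟩, fun h => ⟨hF, fun h' => h.2 (down hA hE h')⟩⟩

end Cfsg.Agent.LK.Fin
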