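import Cfsg.Agent.Lib.LK.MT

/-!
# Vanishing of `lim² K`
-/

set_option autoImplicit false

namespace Cfsg.Agent.LK

open List Cfsg.Agent.Tr Subgroup

universe u w

variable {G G' : Type u} [Group G] [Group G'] {π : G →* G'} {p : ℕ} {P Q K : Subgroup G}

variable (π) in
/-- The centralizer of `P` modulo the kernel of `π`. -/
def ca (P : Subgroup G) : Subgroup G := (centralizer (P.map π : Set G')).comap π

variable (π p) in
/-- The `p`-part of `ca π P`. -/
def ct (P : Subgroup G) : Subgroup G := (cp p (P.map π)).comap π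

theorem mem_ca {x : G} : x ∈ ca π P ↔ ∀ u ∈ P, x * u * x⁻¹ * u⁻¹ ∈ π.ker := by
  simp only [ca, mem_comap, mem_centralizer_iff, coe_map, Set.forall_mem_image, SetLike.mem_coe,
    MonoidHom.mem_ker, map_mul, map_inv, mul_inv_eq_iff_eq_mul, one_mul]
  exact forall₂_congr fun _ _ => eq_comm

theorem ct_le : ct π p P ≤ ca π P := comap_mono pe_le

theorem ker_le_ct : π.ker ≤ ct π p P := ker_le_comap _ _

theorem map_cj (g : G) (P : Subgroup G) : (cj g P).map π = cj (π g) (P.map π) := by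
  rw [Subgroup.map_map, cj, Subgroup.map_map]; congr 1; ext; simp

theorem comap_cj (g : G) (X : Subgroup G') : (cj (π g) X).comap π = cj g (X.comap π) := by
  ext x; simp only [mem_comap, mem_cj, map_mul, map_inv]

theorem ca_cj (g : G) (P : Subgroup G) : ca π (cj g P) = cj g (ca π P) := by
  rw [ca, map_cj, centralizer_cj, comap_cj, ca]

theorem ct_cj (g : G) (P : Subgroup G) : ct π p (cj g P) = cj g (ct π p P) := by
  rw [ct, map_cj, cp_cj, comap_cj, ct]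

theorem ct_anti (h : P ≤ Q) : ct π p Q ≤ ct π p P := comap_mono (cp_anti (map_mono h))

theorem cent_le_ca : centralizer (P : Set G) ≤ ca π P := fun x hx => mem_ca.2 fun u hu => by
  rw [← hx u hu]; simp

theorem cp_le_ct : cp p P ≤ ct π p P := (closure_le _).2 fun x ⟨a, n, b⟩ =>
  subset_closure ⟨cent_le_ca a, n, by rw [← map_pow, b, map_one]⟩

theorem ca_le_normalizer (h : π.ker ≤ P) : ca π P ≤ normalizer (P : Set G) := by
  have : ∀ x ∈ ca π P, cj x P ≤ P := fun x hx => cj_le_iff.2 fun u hu => by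
    simpa using P.mul_mem (h (mem_ca.1 hx u hu)) hu
  exact fun x hx => cj_eq_iff.1 (le_antisymm (this x hx)
    (le_cj_iff_cj_inv_le.2 (this _ (inv_mem hx))))

theorem comm_pow (hA : π.ker ≤ center G) {z u : G} (hz : z ∈ ca π P) (hu : u ∈ P) (j : ℕ) :
    z ^ j * u * (z ^ j)⁻¹ * u⁻¹ = (z * u * z⁻¹ * u⁻¹) ^ j := by
  induction j with
  | zero => simp
  | succ j ih =>
    have := mem_center_iff.1 (pow_mem (hA (mem_ca.1 hz u hu)) j) z
    rw [pow_succ (z * u * z⁻¹ * u⁻¹), ← mul_assoc, ← mul_assoc, ← mul_assoc, ← this, ← ih, pow_succ']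
    group

theorem comm_mem_cent (hA : π.ker ≤ center G) {a b : G} (ha : a ∈ ca π P) (hb : b ∈ ca π P) :
    a * b * a⁻¹ * b⁻¹ ∈ centralizer (P : Set G) := fun u hu => by
  obtain ⟨α, h1, e1⟩ : ∃ α ∈ center G, a⁻¹ * u * a = α * u :=
    ⟨_, hA (mem_ca.1 (inv_mem ha) u hu), by group⟩
  obtain ⟨β, h2, e2⟩ : ∃ β ∈ center G, b⁻¹ * u * b = β * u :=
    ⟨_, hA (mem_ca.1 (inv_mem hb) u hu), by group⟩
  have e3 : b⁻¹ * (a⁻¹ * u * a) * b = a⁻¹ * (b⁻¹ * u * b) * a := by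
    rw [e1, e2, ← mul_assoc, ← mul_assoc, mem_center_iff.1 h1 b⁻¹, mem_center_iff.1 h2 a⁻¹,
      mul_assoc α, mul_assoc α, mul_assoc β, mul_assoc β, e1, e2, ← mul_assoc, ← mul_assoc,
      mem_center_iff.1 h1 β]
  calc u * (a * b * a⁻¹ * b⁻¹) = a * b * (b⁻¹ * (a⁻¹ * u * a) * b) * a⁻¹ * b⁻¹ := by group
    _ = a * b * (a⁻¹ * (b⁻¹ * u * b) * a) * a⁻¹ * b⁻¹ := by rw [e3]
    _ = _ := by group

variable [Finite G] [Fact p.Prime]

theorem exists_exp (hp : IsPGroup p P) : ∃ e, ∀ a ∈ P, a ^ p ^ e = 1 := by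
  obtain ⟨e, he⟩ := IsPGroup.iff_card.1 hp
  exact ⟨e, fun a ha => congrArg Subtype.val (he ▸ pow_card_eq_one' (x := (⟨a, ha⟩ : P)))⟩

theorem exists_pow_cent (hA : π.ker ≤ center G) (hp : IsPGroup p π.ker) {z : G}
    (hz : z ∈ ca π P) : ∃ e, z ^ p ^ e ∈ centralizer (P : Set G) := by
  obtain ⟨e, he⟩ := exists_exp hp
  refine ⟨e, fun u hu => ?_⟩
  have := comm_pow hA hz hu (p ^ e)
  rwa [he _ (mem_ca.1 hz u hu), mul_inv_eq_one, mul_inv_eq_iff_eq_mul, eq_comm] at this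

omit [Finite G] in
theorem not_sylow (hπ : Function.Surjective π) (hp : IsPGroup p π.ker) (h : π.ker ≤ P)
    (hc : ¬ ct π p P ≤ P) (hK : ca π P ≤ K) : ¬ SylowIn p P K := fun hs => by
  obtain ⟨y, a, b, c⟩ := exists_of_not_pe_le (p := p) (K := centralizer (P.map π : Set G'))
    (P := P.map π) fun e => hc ((comap_mono e).trans (comap_map_eq_self h).le)
  obtain ⟨x, rfl⟩ := hπ y
  obtain ⟨n, e⟩ := isPGroup_iff_forall_mem.1 c _ (mem_zpowers _)
  obtain ⟨m, f⟩ := isPGroup_iff_forall_mem.1 hp (x ^ p ^ n) (by rw [MonoidHom.mem_ker, map_pow, e])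
  rw [← pow_mul, ← pow_add] at f
  exact b (mem_map_of_mem π (hs.le_of_le_normalizer' (isPGroup_zpowers f) (zpowers_le.2 (hK a))
    (zpowers_le.2 (ca_le_normalizer h a)) (mem_zpowers x)))

variable {Ω : Type w} [MulAction G Ω] [MulAction G' Ω]

theorem van_ct [Finite G'] (hπ : Function.Surjective π) (hs : ∀ (g : G) (x : Ω), π g • x = g • x)
    (hΩ' : Om p G' Ω) {k : ℕ} (hk : 3 ≤ k) (s1 : SecS ⊤ (ct π p) fun _ => π.ker) :
    VS Ω (⊤ : Subgroup G) k (fun P => ct π p P ≤ P) (fun P => UB (ct π p P))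
      fun P => WB (ct π p P) π.ker := by
  have e1 : ∀ l : List Ω, st (⊤ : Subgroup G) l = (st ⊤ l).comap π := fun l => by
    ext g; simp [mem_st, hs]
  have e2 : ∀ l : List Ω, (st (⊤ : Subgroup G) l).map π = st ⊤ l := fun l => by
    rw [e1, map_comap_eq_self_of_surjective hπ]
  have e : (fun l : List Ω => cp p (st (⊤ : Subgroup G') l) ≤ st ⊤ l) =
      fun l => ct π p (st ⊤ l) ≤ st ⊤ l := funext fun l => by
    rw [ct, e2, e1, comap_le_comap_of_surjective hπ]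
  have h1 := mt hΩ' hk
  have h2 := sys_of (Ω := Ω) (up_cp (p := p) (H := (⊤ : Subgroup G'))).fam (secS_cp (p := p)).cs
  unfold VS at h1
  rw [e] at h1 h2
  have h3 : ∀ l : List Ω, ct π p (st ⊤ l) ≤ st ⊤ l → _ := fun l a =>
    iso_fl₀ (B := ct π p (st ⊤ l)) (C := π.ker) (V := UB (cp p (st ⊤ l)))
      (Z := WB (cp p (st ⊤ l)) ⊥) (ψ := fun g => fo (π g)) ker_le_ct
      (fun b hb => fo_mem (e2 l ▸ hb))
      (fun a ha b hb => by rw [map_mul]; exact rel_mem (e2 l ▸ ha) (e2 l ▸ hb))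
      (fun b hb => ⟨fun f => (as_bot (pe_le.trans (centralizer_le
        ((congrFun e l).mpr a)))).mem_of_fo (e2 l ▸ hb) f, fun f => UB_le_WB (fo_mem f)⟩)
      fun v hv => by
        obtain ⟨b, hb, f⟩ := exists_fo (C := ⊥) hv
        obtain ⟨b, rfl⟩ := hπ b
        exact ⟨b, by rw [ct, e2]; exact hb, by simpa using neg_mem f⟩
  have h4 : ∀ g : G, ∀ m, fl₀ (fun g => fo (π g)) (g • m) = π g • fl₀ (fun g => fo (π g)) m :=
    fun g => fl₀_smul fun x => by rw [smul_fo, map_mul, map_mul, map_inv]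
  exact (Iso.van_iff (φ := fl₀ fun g => fo (π g)) (H' := (⊤ : Subgroup G'))
    ⟨fun g _ => ⟨π g, trivial, fun x => (hs g x).symm, h4 g⟩, fun g' _ => by
      obtain ⟨g, rfl⟩ := hπ g'
      exact ⟨g, trivial, fun x => (hs g x).symm, h4 g⟩, fun l _ a => (h3 l a).1,
      fun l _ a => (h3 l a).2.1, fun l _ a => (h3 l a).2.2⟩
    (sys_of (up_of_anti (fun _ _ => ct_anti) ct_cj).fam s1.cs) h2).2 h1

omit [Finite G] [Fact p.Prime] in
theorem secS_ct (hA : π.ker ≤ center G) :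
    SecS ⊤ (ct π p) fun P => ct π p P ⊓ centralizer (P : Set G) :=
  ⟨fun _ _ => inf_le_left, fun _ _ => ct_anti,
    fun _ _ a => inf_le_inf (ct_anti a) (centralizer_le a), fun g _ => ct_cj g,
    fun g _ P => by rw [cj_inf, ct_cj, centralizer_cj], fun P _ g hg b hb => by
      have := mem_ca.1 (inv_mem (ct_le hb)) g hg
      rw [inv_inv, mul_assoc, mul_assoc, ← mul_assoc g] at this
      exact ⟨ker_le_ct this, center_le_centralizer _ (hA this)⟩⟩

theorem van_K [Finite G'] (hπ : Function.Surjective π) (hA : π.ker ≤ center G)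
    (hp : IsPGroup p π.ker) (hs : ∀ (g : G) (x : Ω), π g • x = g • x) (hΩ : Om p G Ω)
    (hΩ' : Om p G' Ω) : VS Ω (⊤ : Subgroup G) 3 (π.ker ≤ ·) (fun P => UB (ct π p P))
      fun P => WB (ct π p P) (ct π p P ⊓ centralizer (P : Set G)) := by
  have hn : ⊤ ≤ normalizer (π.ker : Set G) := le_normalizer_of_cj fun g _ => cj_normal g _
  have hU : Up ⊤ fun P => ct π p P ≤ P := up_of_anti (fun _ _ => ct_anti) ct_cj
  have hZ : ∀ P : Subgroup G, π.ker ≤ ct π p P ⊓ centralizer (P : Set G) := fun P =>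
    le_inf ker_le_ct (hA.trans (center_le_centralizer _))
  have s2 := secS_ct (p := p) hA
  have s1 : SecS ⊤ (ct π p) fun _ => π.ker :=
    ⟨fun _ _ => ker_le_ct, s2.antiB, fun _ _ _ => le_rfl, s2.cjB,
      fun g _ _ => (cj_normal g _).symm, fun P _ g hg b hb => by
        simpa [mul_assoc] using mem_ca.1 (inv_mem (ct_le hb)) g hg⟩
  have s3 : SecS ⊤ (fun P => ct π p P ⊓ centralizer (P : Set G)) fun _ => π.ker :=
    ⟨fun P _ => hZ P, s2.antiC, s1.antiC, s2.cjC, s1.cjC, fun P _ g hg b hb => by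
      rw [conj_eq_of_cent hg hb.2]; exact one_mem _⟩
  have s4 : SecS ⊤ (fun P => ct π p P ⊓ centralizer (P : Set G)) fun _ => ⊥ :=
    ⟨fun _ _ => bot_le, s2.antiC, fun _ _ _ => le_rfl, s2.cjC, fun g _ _ => (cj_bot g).symm,
      fun P _ g hg b hb => conj_eq_of_cent hg hb.2⟩
  have s5 : SecS ⊤ (fun _ => π.ker) fun _ => ⊥ :=
    ⟨fun _ _ => bot_le, s1.antiC, s4.antiC, s1.cjC, s4.cjC,
      fun P _ g hg b hb => conj_eq_of_cent hg (hZ P hb).2⟩
  have hK : ∀ P : Subgroup G, IsPGroup p P → π.ker ≤ P → ¬ ct π p P ≤ P →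
      ca π P ⊔ P ≤ ⊤ ⊓ normalizer (P : Set G) ∧
      ⊤ ⊓ normalizer (P : Set G) ≤ normalizer ((ca π P ⊔ P : Subgroup G) : Set G) ∧ P ≤ ca π P ⊔ P ∧
      ¬ SylowIn p P (ca π P ⊔ P) ∧ ∀ c ∈ ca π P ⊔ P, ∃ n, c ^ p ^ n ∈ ca π P := fun P a b c =>
    ⟨le_inf le_top (sup_le (ca_le_normalizer b) le_normalizer),
      le_normalizer_of_cj fun g hg => by rw [cj_sup, ← ca_cj, cj_eq_iff.2 hg.2], le_sup_right,
      not_sylow hπ hp b c le_sup_left, fun _ => exists_pow_mem_of_sup a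
        (le_normalizer_of_cj fun g hg => by rw [← ca_cj, cj_eq_of_mem hg])⟩
  refine vsplit1 (up_le hn).fam s2.cs hU (fun _ _ a => ker_le_ct.trans a)
    (sec_singles hΩ (by omega) ((up_le hn).fam.diff hU) s2 fun P _ b c => ?_)
    (sec_les hΩ (by omega) hU.fam s1 s2 s3 (fun P _ _ c => ⟨ker_le_ct, fun x hx y hy =>
      mem_ca.1 (ct_le hx) y (c hy)⟩) (van_ct hπ hs hΩ' le_rfl s1)
      (sec_les hΩ (by omega) hU.fam s4 s3 s5 (fun P _ _ c => as_bot
        (inf_le_right.trans (centralizer_le (inf_le_left.trans c)))) ?_ ?_))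
  · obtain ⟨h1, h2, h3, h4, h5⟩ := hK P b c.1 c.2
    refine ⟨⟨inf_le_left, fun x hx y hy => ⟨Subgroup.mul_mem _ (Subgroup.mul_mem _
      (Subgroup.mul_mem _ hx hy) (Subgroup.inv_mem _ hx)) (Subgroup.inv_mem _ hy), comm_mem_cent hA (ct_le hx) (ct_le hy)⟩⟩, fun x hx => ?_, _, h1, h2, h3, h4,
      fun x hx => ?_⟩
    · obtain ⟨e, he⟩ := exists_pow_cent hA hp (ct_le hx)
      exact ⟨e, pow_mem hx _, he⟩
    · obtain ⟨n, e⟩ := h5 x hx
      refine ⟨n, fun y hy => ⟨Subgroup.mul_mem _ (Subgroup.inv_mem _ hy) ?_, by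
        simpa [mul_assoc] using comm_mem_cent hA (inv_mem (ct_le hy)) e⟩⟩
      rw [← cj_eq_iff.2 (ca_le_normalizer c.1 e), ct_cj]
      exact conj_mem_cj.2 hy
  · refine (vs_iff hΩ (by omega) hU.fam (secS_cp (p := p)).cs (fun g hg P a _ => hU.inv g hg P a)
      (fun P _ b c => ?_) fun _ _ _ a b => absurd a b).1
      (vsplit2 up_cp.fam secS_cp.cs hU (fun _ _ a => cp_le_ct.trans a) (mt hΩ (by omega))
        (sec_singles hΩ (by omega) (up_cp.fam.diff hU) secS_cp fun P _ b c => ?_))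
    · have : ct π p P ⊓ centralizer (P : Set G) = cp p P :=
        le_antisymm (fun x hx => mem_pe hx.2 b (c hx.1)) (le_inf cp_le_ct pe_le)
      exact ⟨c, by rw [this], by rw [this]⟩
    · obtain ⟨h1, h2, h3, h4, h5⟩ := hK P b
        (fun x hx => c.1 (mem_pe (hZ P hx).2 hp hx)) c.2
      refine ⟨as_bot (pe_le.trans (centralizer_le c.1)),
        fun x hx => isPGroup_iff_forall_mem.1 b x (c.1 hx), _, h1, h2, h3, h4, fun x hx => ?_⟩
      obtain ⟨n, e⟩ := h5 x hx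
      obtain ⟨m, e⟩ := exists_pow_cent hA hp e
      refine ⟨n + m, fun y hy => ?_⟩
      rw [pow_add, pow_mul, ← e y (c.1 hy)]; simp
  · obtain ⟨M, _, _, ι, D, hE⟩ := (as_bot (hZ π.ker |>.trans inf_le_right)).emb (H := ⊤) hn
      (le_normalizer_of_cj fun g _ => cj_bot g)
    have ctx : Ctx p ⊤ π.ker D :=
      ⟨hE.inv, hE.tor fun x hx => isPGroup_iff_forall_mem.1 hp x hx, le_top, hn, hp⟩
    refine hE.vs hΩ (by omega) hU.fam s5
      (fun _ _ _ _ => ⟨le_rfl, fun _ _ => Iff.rfl, fun _ a _ => a⟩)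
      (vl_up hΩ ctx hU (fun _ _ a => ker_le_ct.trans a) (by omega)
        (lam_singles hΩ (by omega) ctx.inv ctx.tor ((up_le hn).fam.diff hU) le_rfl
          (le_normalizer_of_cj fun g _ => cj_top g) (fun c _ => ⟨0, fun m hm => ?_⟩)
          fun Q _ a => by rw [inf_top_eq]; exact not_sylow hπ hp a.1 a.2 le_top))
    obtain ⟨b, hb, rfl⟩ := (hE.mem m).1 hm
    exact (hE.smul_eq_iff trivial hb).2 (conj_eq_of_cent (P := ⊤) trivial (hZ ⊤ hb).2)

end Cfsg.Agent.LK
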