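import Cfsg.Agent.Lib.LK.KV1

/-!
# `lim¹ (Hom / K) = 0`
-/

set_option autoImplicit false

namespace Cfsg.Agent.LK

open List Cfsg.Agent.Tr Subgroup

universe u w

/-- Functions on `G`, with the conjugation action on the argument. -/
def Fn (G M : Type*) := G → M

instance (G M : Type*) [AddCommGroup M] : AddCommGroup (Fn G M) :=
  inferInstanceAs (AddCommGroup (G → M))

instance (G M : Type*) [Group G] [AddCommGroup M] : DistribMulAction G (Fn G M) where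
  smul g f := fun u => f (g⁻¹ * u * g)
  one_smul f := funext fun u => show f (1⁻¹ * u * 1) = f u by simp
  mul_smul a b f := funext fun u =>
    show f ((a * b)⁻¹ * u * (a * b)) = f (b⁻¹ * (a⁻¹ * u * a) * b) by simp [mul_assoc]
  smul_zero _ := rfl
  smul_add _ _ _ := rfl

section Cocycle

variable {G Ω M : Type*} [Group G] [MulAction G Ω] [AddCommGroup M] {P : Subgroup G}

theorem sum_cocycle [Fintype Ω] {c : G → Ω → M}
    (h1 : ∀ u ∈ P, ∀ v ∈ P, ∀ y, c (u * v) y = c u (v • y) + c v y)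
    (h2 : ∀ u ∈ P, ∀ y, u • y = y → c u y = 0) {u : G} (hu : u ∈ P) : ∑ y, c u y = 0 := by
  obtain ⟨r, h, hh, e, hr⟩ := exists_reps P (fun (g : G) (y : Ω) => g • y) (one_smul G) mul_smul
  have : ∀ y, c u y = c (h (u • y)) (r (u • y)) - c (h y) (r y) := fun y => by
    have k : (h (u • y))⁻¹ * (u * h y) ∈ P := P.mul_mem (P.inv_mem (hh _)) (P.mul_mem hu (hh y))
    have k1 : ((h (u • y))⁻¹ * (u * h y)) • r y = r y := by
      rw [mul_smul, mul_smul, e, inv_smul_eq_iff, ← hr u hu y, e]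
    have e1 := h1 _ (hh (u • y)) _ k (r y)
    rw [mul_inv_cancel_left, h1 u hu _ (hh y), e, k1, h2 _ k _ k1, add_zero] at e1
    rw [hr u hu y, ← e1, add_sub_cancel_right]
  rw [Finset.sum_congr rfl fun y _ => this y, Finset.sum_sub_distrib, sub_eq_zero]
  exact Fintype.sum_equiv (MulAction.toPerm u) _ _ fun _ => rfl

theorem exists_cocycle {D : AddSubgroup M} {E : Ω → G → M}
    (h1 : ∀ y, ∀ u ∈ P, ∀ v ∈ P, u • y = y → v • y = y → E y (u * v) = E y u + E y v)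
    (h2 : ∀ y, ∀ u ∈ P, u • y = y → E y u ∈ D)
    (h3 : ∀ h ∈ P, ∀ y, ∀ u ∈ P, u • h • y = h • y → E (h • y) u = E y (h⁻¹ * u * h)) :
    ∃ c : G → Ω → M, (∀ u ∈ P, ∀ v ∈ P, ∀ y, c (u * v) y = c u (v • y) + c v y) ∧
      (∀ u ∈ P, ∀ y, u • y = y → c u y = E y u) ∧ ∀ u ∈ P, ∀ y, c u y ∈ D := by
  obtain ⟨r, h, hh, e, hr⟩ := exists_reps P (fun (g : G) (y : Ω) => g • y) (one_smul G) mul_smul
  have k : ∀ u ∈ P, ∀ y, (h (u • y))⁻¹ * u * h y ∈ P := fun u hu y =>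
    P.mul_mem (P.mul_mem (P.inv_mem (hh _)) hu) (hh y)
  have k1 : ∀ u ∈ P, ∀ y, ((h (u • y))⁻¹ * u * h y) • r y = r y := fun u hu y => by
    rw [mul_smul, mul_smul, e, inv_smul_eq_iff, ← hr u hu y, e]
  refine ⟨fun u y => E (r y) ((h (u • y))⁻¹ * u * h y), fun u hu v hv y => ?_, fun u hu y a => ?_,
    fun u hu y => h2 _ _ (k u hu y) (k1 u hu y)⟩
  · have := k1 u hu (v • y)
    dsimp only
    rw [hr v hv] at this ⊢
    rw [← h1 _ _ (k u hu _) _ (k v hv y) this (k1 v hv y), mul_smul]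
    congr 1; group
  · dsimp only
    rw [a, ← h3 _ (hh y) _ u hu (by rw [e, a]), e]

end Cocycle

variable {G G' : Type u} [Group G] [Group G'] {π : G →* G'} {p : ℕ} {P A : Subgroup G}
  {M : Type*} [AddCommGroup M] {ι : G → M} {D : AddSubgroup M}

variable (A D) in
/-- Functions that are homomorphisms `P / A → D` on `P`. -/
def UH (P : Subgroup G) : AddSubgroup (Fn G M) where
  carrier := {f | (∀ u ∈ P, ∀ v ∈ P, f (u * v) = f u + f v) ∧ (∀ u ∈ P, f u ∈ D) ∧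
    ∀ u ∈ P, u ∈ A → f u = 0}
  zero_mem' := ⟨fun _ _ _ _ => (add_zero _).symm, fun _ _ => D.zero_mem, fun _ _ _ => rfl⟩
  add_mem' := fun {a b} ha hb => ⟨fun u hu v hv => by
      change a (u * v) + b (u * v) = a u + b u + (a v + b v)
      rw [ha.1 u hu v hv, hb.1 u hu v hv]; abel,
    fun u hu => D.add_mem (ha.2.1 u hu) (hb.2.1 u hu), fun u hu h => by
      change a u + b u = 0
      rw [ha.2.2 u hu h, hb.2.2 u hu h, add_zero]⟩
  neg_mem' := fun {a} ha => ⟨fun u hu v hv => by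
      change -a (u * v) = -a u + -a v
      rw [ha.1 u hu v hv, neg_add], fun u hu => D.neg_mem (ha.2.1 u hu), fun u hu h => by
      change -a u = 0
      rw [ha.2.2 u hu h, neg_zero]⟩

variable (M) in
/-- Functions vanishing on `P`. -/
def WH (P : Subgroup G) : AddSubgroup (Fn G M) where
  carrier := {f | ∀ u ∈ P, f u = 0}
  zero_mem' := fun _ _ => rfl
  add_mem' := fun {a b} ha hb u hu => show a u + b u = 0 by rw [ha u hu, hb u hu, add_zero]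
  neg_mem' := fun {a} ha u hu => show -a u = 0 by rw [ha u hu, neg_zero]

theorem sub_mem_WH {f g : Fn G M} : f - g ∈ WH M P ↔ ∀ u ∈ P, f u = g u :=
  forall₂_congr fun _ _ => sub_eq_zero

theorem cs_UH [hA : A.Normal] : Cs ⊤ (UH A D) (WH M) :=
  ⟨fun P _ f hf => ⟨fun u hu v hv => by rw [hf u hu, hf v hv, hf _ (P.mul_mem hu hv), add_zero],
      fun u hu => hf u hu ▸ D.zero_mem, fun u hu _ => hf u hu⟩,
    fun _ _ a _ _ hf => ⟨fun u hu v hv => hf.1 u (a hu) v (a hv), fun u hu => hf.2.1 u (a hu),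
      fun u hu => hf.2.2 u (a hu)⟩, fun _ _ a _ _ hf u hu => hf u (a hu),
    fun g _ P _ f hf => ⟨fun u hu v hv => by
        change f (g⁻¹ * (u * v) * g) = f (g⁻¹ * u * g) + f (g⁻¹ * v * g)
        rw [← hf.1 _ (mem_cj.1 hu) _ (mem_cj.1 hv)]; congr 1; group,
      fun u hu => hf.2.1 _ (mem_cj.1 hu), fun u hu h => hf.2.2 _ (mem_cj.1 hu) (hA.conj_mem' u h g)⟩,
    fun _ _ _ _ _ hf _ hu => hf _ (mem_cj.1 hu), fun P _ g hg f hf => sub_mem_WH.2 fun u hu => by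
      change f (g⁻¹ * u * g) = f u
      have e := hf.1 _ (P.inv_mem hg) g hg
      rw [inv_mul_cancel, hf.2.2 1 P.one_mem A.one_mem] at e
      rw [hf.1 _ (P.mul_mem (P.inv_mem hg) hu) g hg, hf.1 _ (P.inv_mem hg) u hu, add_right_comm,
        ← e, zero_add]⟩

/-- `ι` embeds the central subgroup `π.ker` onto `D`. -/
structure Io (π : G →* G') (ι : G → M) (D : AddSubgroup M) : Prop where
  cen : π.ker ≤ center G
  add : ∀ a ∈ π.ker, ∀ b ∈ π.ker, ι (a * b) = ι a + ι b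
  ker : ∀ a ∈ π.ker, ι a = 0 ↔ a = 1
  cnj : ∀ g y, ι (g * y * g⁻¹) = ι y
  mem : ∀ m, m ∈ D ↔ ∃ a ∈ π.ker, ι a = m

theorem Io.one (h : Io π ι D) : ι 1 = 0 := (h.ker 1 (one_mem _)).2 rfl

theorem Io.pow (h : Io π ι D) {b : G} (hb : b ∈ π.ker) (n : ℕ) : ι (b ^ n) = n • ι b := by
  induction n with
  | zero => simpa using h.one
  | succ n ih => rw [pow_succ, h.add _ (pow_mem hb n) _ hb, ih, succ_nsmul]

theorem Io.inj (h : Io π ι D) {a b : G} (ha : a ∈ π.ker) (hb : b ∈ π.ker) (e : ι a = ι b) :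
    a = b := by
  have := h.add _ hb _ (mul_mem (inv_mem hb) ha)
  rw [mul_inv_cancel_left, e, left_eq_add, h.ker _ (mul_mem (inv_mem hb) ha)] at this
  exact (inv_mul_eq_one.1 this).symm

theorem Io.comm_mul (h : Io π ι D) {a b u : G} (ha : a ∈ ca π P) (hb : b ∈ ca π P) (hu : u ∈ P) :
    ι (a * b * u * (a * b)⁻¹ * u⁻¹) = ι (a * u * a⁻¹ * u⁻¹) + ι (b * u * b⁻¹ * u⁻¹) := by
  rw [add_comm, ← h.cnj a (b * u * b⁻¹ * u⁻¹), ← h.add _ ((MonoidHom.normal_ker π).conj_mem _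
    (mem_ca.1 hb u hu) a) _ (mem_ca.1 ha u hu)]
  congr 1; group

/-- The functions `[z, -]` on `P`. -/
def KH (h : Io π ι D) (P : Subgroup G) : AddSubgroup (Fn G M) where
  carrier := {f | ∃ z ∈ ca π P, ∀ u ∈ P, f u = ι (z * u * z⁻¹ * u⁻¹)}
  zero_mem' := ⟨1, one_mem _, fun u _ => by change (0 : M) = _; simpa using h.one.symm⟩
  add_mem' := fun {a b} ⟨y, hy, e⟩ ⟨z, hz, f⟩ => ⟨y * z, mul_mem hy hz, fun u hu => by
    rw [h.comm_mul hy hz hu, ← e u hu, ← f u hu]; rfl⟩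
  neg_mem' := fun {a} ⟨y, hy, e⟩ => ⟨y⁻¹, inv_mem hy, fun u hu => by
    have := h.comm_mul hy (inv_mem hy) hu
    rw [mul_inv_cancel, one_mul, inv_one, mul_one, mul_inv_cancel, h.one, ← e u hu] at this
    exact neg_eq_of_add_eq_zero_right this.symm⟩

theorem WH_le_KH (h : Io π ι D) : WH M P ≤ KH h P :=
  fun f hf => ⟨1, one_mem _, fun u hu => by simpa [hf u hu] using h.one.symm⟩

theorem KH_le_UH (h : Io π ι D) : KH h P ≤ UH π.ker D P := fun f ⟨z, hz, e⟩ =>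
  ⟨fun u hu v hv => by
    rw [e u hu, e v hv, e _ (P.mul_mem hu hv), ← h.cnj u (z * v * z⁻¹ * v⁻¹), ← h.add _
      (mem_ca.1 hz u hu) _ ((MonoidHom.normal_ker π).conj_mem _ (mem_ca.1 hz v hv) u)]
    congr 1; group, fun u hu => (h.mem _).2 ⟨_, mem_ca.1 hz u hu, (e u hu).symm⟩,
    fun u hu a => by rw [e u hu, mem_center_iff.1 (h.cen a) z]; simpa using h.one⟩

theorem cs_KH (h : Io π ι D) : Cs ⊤ (KH h) (WH M) :=
  have c := cs_UH (A := π.ker) (D := D)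
  ⟨fun _ _ => WH_le_KH h, fun _ _ a _ _ ⟨z, hz, e⟩ =>
      ⟨z, mem_ca.2 fun u hu => mem_ca.1 hz u (a hu), fun u hu => e u (a hu)⟩, c.antiW,
    fun g _ P _ f ⟨z, hz, e⟩ => ⟨_, by rw [ca_cj]; exact conj_mem_cj.2 hz, fun u hu => by
      change f (g⁻¹ * u * g) = _
      rw [e _ (mem_cj.1 hu), ← h.cnj g]; congr 1; group⟩, c.smulW,
    fun P a g hg f hf => c.triv P a g hg f (KH_le_UH h hf)⟩

variable [Finite G] [Fact p.Prime] {Ω : Type w} [MulAction G Ω]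

theorem Io.tor (h : Io π ι D) (hp : IsPGroup p π.ker) : Tor p D := by
  obtain ⟨e, he⟩ := exists_exp hp
  refine ⟨e, fun m hm => ?_⟩
  obtain ⟨a, ha, rfl⟩ := (h.mem m).1 hm
  rw [← h.pow ha, he a ha, h.one]

omit [Finite G] in
theorem van_hom [Fintype Ω] [A.Normal] (ht : Tor p D) (hm : ¬ p ∣ Fintype.card Ω)
    (hA : ∀ l : List Ω, A ≤ st ⊤ l) : VS Ω (⊤ : Subgroup G) 2 (A ≤ ·) (UH A D) (WH M) := by
  intro f hf hc
  obtain ⟨m', hm'⟩ := ht.exists_inv hm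
  have s1 : ∀ {u : G} {x : Ω}, u ∈ st (⊤ : Subgroup G) [x] ↔ u • x = x := by simp [mem_st]
  have s2 : ∀ {u : G} {x y : Ω}, u • x = x → u • y = y → u ∈ st (⊤ : Subgroup G) [x, y] :=
    fun a b => by simp [mem_st, a, b]
  have f1 : ∀ x y, f [x, y] ∈ UH A D (st ⊤ [x, y]) := fun x y => hf.mem [x, y] rfl (hA _)
  have f2 : ∀ (g u : G) (x y : Ω), u • g • x = g • x → u • g • y = g • y →
      f [g • x, g • y] u = f [x, y] (g⁻¹ * u * g) := fun g u x y a b =>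
    sub_mem_WH.1 (hf.eqv g trivial [x, y] rfl (hA _)) u (s2 a b)
  have f3 : ∀ (u : G) (x y z : Ω), u • x = x → u • y = y → u • z = z →
      f [x, y] u + f [y, z] u = f [x, z] u := fun u x y z a b c => by
    have := hc [x, y, z] rfl (hA _)
    rw [dS_triple _ (hA _) (hA _) (hA _)] at this
    exact sub_mem_WH.1 this u (by simp [mem_st, a, b, c])
  choose c c1 c2 c3 using fun x => exists_cocycle (P := st (⊤ : Subgroup G) [x]) (D := D)
    (E := fun y => f [y, x])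
    (fun y u hu v hv a b => (f1 y x).1 u (s2 a (s1.1 hu)) v (s2 b (s1.1 hv)))
    (fun y u hu a => (f1 y x).2.1 u (s2 a (s1.1 hu))) fun h hh y u hu a => by
      rw [← f2 h u y x a (by rw [s1.1 hh, s1.1 hu]), s1.1 hh]
  refine ⟨fun l => match l with | [x] => fun u => m' • ∑ y, c x u y | _ => 0,
    ⟨fun l a _ => ?_, fun g _ l a _ => ?_⟩, fun l a _ => ?_⟩
  · obtain ⟨x, rfl⟩ := length_eq_one_iff.1 a
    refine ⟨fun u hu v hv => ?_, fun u hu => D.nsmul_mem (sum_mem fun y _ => c3 x u hu y) _,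
      fun u hu a => ?_⟩
    · simp only [c1 x u hu v hv, Finset.sum_add_distrib, nsmul_add]
      congr 2
      exact Fintype.sum_equiv (MulAction.toPerm v) _ _ fun _ => rfl
    · have : ∀ y, c x u y = 0 := fun y => by
        rw [c2 x u hu y (s1.1 (hA _ a)), (f1 y x).2.2 u (hA _ a) a]
      simp [this]
  · obtain ⟨x, rfl⟩ := length_eq_one_iff.1 a
    refine sub_mem_WH.2 fun u hu => ?_
    have e : ∀ u ∈ st (⊤ : Subgroup G) [g • x], g⁻¹ * u * g ∈ st (⊤ : Subgroup G) [x] :=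
      fun u hu => s1.2 (by rw [mul_smul, mul_smul, s1.1 hu, inv_smul_smul])
    have := sum_cocycle (P := st (⊤ : Subgroup G) [g • x])
      (c := fun u y => c (g • x) u y - c x (g⁻¹ * u * g) (g⁻¹ • y)) (fun u hu v hv y => by
        have := c1 x _ (e u hu) _ (e v hv) (g⁻¹ • y)
        rw [show g⁻¹ * u * g * (g⁻¹ * v * g) = g⁻¹ * (u * v) * g by group, mul_smul, smul_inv_smul,
          mul_smul] at this
        rw [this, c1 _ u hu v hv]; abel) (fun u hu y a => by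
        rw [c2 _ u hu y a, c2 _ _ (e u hu) _ (by rw [mul_smul, smul_inv_smul, mul_smul, a]),
          ← f2 g u _ x (by rw [smul_inv_smul, a]) (s1.1 hu), smul_inv_smul, sub_self]) hu
    rw [Finset.sum_sub_distrib, sub_eq_zero] at this
    change m' • ∑ y, c (g • x) u y = m' • ∑ y, c x (g⁻¹ * u * g) y
    rw [this]
    exact congrArg _ (Fintype.sum_equiv (MulAction.toPerm g⁻¹) _ _ fun _ => rfl)
  · obtain ⟨x, z, rfl⟩ := length_eq_two.1 a
    rw [dS_pair _ (hA _) (hA _)]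
    refine sub_mem_WH.2 fun u hu => ?_
    have e1 : ∀ u ∈ st (⊤ : Subgroup G) [x, z], u ∈ st (⊤ : Subgroup G) [x] :=
      st_subset (by simp)
    have e2 : ∀ u ∈ st (⊤ : Subgroup G) [x, z], u ∈ st (⊤ : Subgroup G) [z] :=
      st_subset (by simp)
    have := sum_cocycle (P := st (⊤ : Subgroup G) [x, z])
      (c := fun u y => c z u y - c x u y - f [x, z] u) (fun u hu v hv y => by
        rw [c1 _ u (e1 u hu) v (e1 v hv), c1 _ u (e2 u hu) v (e2 v hv), (f1 x z).1 u hu v hv]; abel)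
      (fun u hu y a => by
        rw [c2 _ u (e1 u hu) y a, c2 _ u (e2 u hu) y a,
          ← f3 u y x z a (s1.1 (e1 u hu)) (s1.1 (e2 u hu))]; abel) hu
    rw [Finset.sum_sub_distrib, Finset.sum_sub_distrib, sub_eq_zero, Finset.sum_const,
      Finset.card_univ] at this
    change f [x, z] u = m' • ∑ y, c z u y - m' • ∑ y, c x u y
    rw [← smul_sub, this, hm' _ ((f1 x z).2.1 u hu)]

theorem van_UK [Finite G'] [Fintype Ω] [MulAction G' Ω] (h : Io π ι D)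
    (hπ : Function.Surjective π) (hp : IsPGroup p π.ker) (hs : ∀ (g : G) (x : Ω), π g • x = g • x)
    (hΩ : Om p G Ω) (hΩ' : Om p G' Ω) (hm : ¬ p ∣ Fintype.card Ω) :
    VS Ω (⊤ : Subgroup G) 2 (π.ker ≤ ·) (UH π.ker D) (KH h) := by
  have hF : Fam ⊤ (π.ker ≤ ·) := (up_le (le_normalizer_of_cj fun g _ => cj_normal g _)).fam
  refine les2 (sys_of hF cs_UH) (fun _ _ => WH_le_KH h) (fun _ _ => KH_le_UH h)
    (fun _ _ a _ _ => (cs_KH h).antiU _ _ (st_anti a) le_top)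
    (van_hom (h.tor hp) hm fun l a ha => ⟨trivial, fun x _ => by
      rw [← hs, MonoidHom.mem_ker.1 ha, one_smul]⟩)
    ((vs_iso hΩ (by omega) hF (secS_ct h.cen).cs (cs_KH h)
      (fl₀ fun z => (fun u => ι (z * u * z⁻¹ * u⁻¹) : Fn G M))
      (fun g _ => fl₀_smul fun x => funext fun u => ?_) fun P _ _ _ => iso_fl₀ inf_le_left
        (fun b hb => ⟨b, ct_le hb, fun _ _ => rfl⟩) (fun a ha b hb u hu => ?_)
        (fun b hb => ⟨fun e => ⟨hb, fun u hu => ?_⟩, fun e u hu => ?_⟩)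
        fun v ⟨z, hz, e⟩ => ?_).1 (van_K hπ h.cen hp hs hΩ hΩ'))
  · change _ = ι (x * (g⁻¹ * u * g) * x⁻¹ * (g⁻¹ * u * g)⁻¹)
    rw [← h.cnj g (x * _ * _ * _)]; congr 1; group
  · change ι (a * b * u * (a * b)⁻¹ * u⁻¹) - ι (a * u * a⁻¹ * u⁻¹) - ι (b * u * b⁻¹ * u⁻¹) = 0
    rw [h.comm_mul (ct_le ha) (ct_le hb) hu]; abel
  · have := (h.ker _ (mem_ca.1 (ct_le hb) u hu)).1 (e u hu)
    rwa [mul_inv_eq_one, mul_inv_eq_iff_eq_mul, eq_comm] at this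
  · change ι _ = 0
    rw [← e.2 u hu]; simpa using h.one
  · obtain ⟨a, m, hm, ho⟩ := Nat.exists_eq_pow_mul_and_not_dvd (orderOf_pos z).ne' p
      (Fact.out : p.Prime).ne_one
    obtain ⟨m', hm'⟩ := (h.tor hp).exists_inv hm
    refine ⟨z ^ (m' * m), subset_closure ⟨pow_mem hz _, a, ?_⟩, sub_mem_WH.2 fun u hu => ?_⟩
    · rw [← map_pow, ← pow_mul, mul_assoc, mul_comm m, ← ho, mul_comm, pow_mul, pow_orderOf_eq_one,
        one_pow, map_one]
    · rw [e u hu, comm_pow h.cen hz hu, h.pow (mem_ca.1 hz u hu), mul_smul,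
        hm' _ ((h.mem _).2 ⟨_, mem_ca.1 hz u hu, rfl⟩)]

theorem kv_of [Finite G'] [Fintype Ω] [MulAction G' Ω] (h : Io π ι D)
    (hπ : Function.Surjective π) (hp : IsPGroup p π.ker) (hs : ∀ (g : G) (x : Ω), π g • x = g • x)
    (hΩ : Om p G Ω) (hΩ' : Om p G' Ω) (hm : ¬ p ∣ Fintype.card Ω) {S : Subgroup G} {x₀ : Ω}
    (h₀ : ∀ g : G, g • x₀ = x₀ ↔ g ∈ S) (htr : ∀ x, ∃ g : G, g • x₀ = x) {φ : G → G → G}
    (h1 : ∀ g u, φ g u ∈ π.ker)
    (h2 : ∀ g, ∀ u ∈ S, ∀ v ∈ S, g * u * g⁻¹ ∈ S → g * v * g⁻¹ ∈ S → φ g (u * v) = φ g u * φ g v)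
    (h3 : ∀ g, ∀ a ∈ π.ker, φ g a = 1)
    (h4 : ∀ s ∈ S, ∃ z : G, ∀ u ∈ S, φ s u = z * u * z⁻¹ * u⁻¹)
    (h5 : ∀ g h, ∃ z : G, ∀ u ∈ S, h * u * h⁻¹ ∈ S → g * (h * u * h⁻¹) * g⁻¹ ∈ S →
      φ (g * h) u = φ g (h * u * h⁻¹) * φ h u * (z * u * z⁻¹ * u⁻¹)) :
    ∃ ψ : G → G, (∀ u, ψ u ∈ π.ker) ∧ (∀ u ∈ S, ∀ v ∈ S, ψ (u * v) = ψ u * ψ v) ∧
      (∀ a ∈ π.ker, ψ a = 1) ∧ ∀ g, ∃ z : G, ∀ u ∈ S, g * u * g⁻¹ ∈ S →
        ψ (g * u * g⁻¹) = φ g u * ψ u * (z * u * z⁻¹ * u⁻¹) := by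
  classical
  have hA : ∀ l : List Ω, π.ker ≤ st ⊤ l := fun l a ha => ⟨trivial, fun x _ => by
    rw [← hs, MonoidHom.mem_ker.1 ha, one_smul]⟩
  have fx : ∀ {g u : G}, u • g • x₀ = g • x₀ ↔ g⁻¹ * u * g ∈ S := by
    intro g u; rw [← h₀, mul_smul, mul_smul, inv_smul_eq_iff]
  let Φ : G → G → Fn G M := fun g k u => ι (φ (k⁻¹ * g) (g⁻¹ * u * g))
  have mk : ∀ (P : Subgroup G) (f : Fn G M) (g z : G), (∀ u ∈ P,
      z * (g⁻¹ * u * g) * z⁻¹ * (g⁻¹ * u * g)⁻¹ ∈ π.ker ∧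
      f u = ι (z * (g⁻¹ * u * g) * z⁻¹ * (g⁻¹ * u * g)⁻¹)) → f ∈ KH h P := fun P f g z e =>
    ⟨g * z * g⁻¹, mem_ca.2 fun u hu => by
      convert (MonoidHom.normal_ker π).conj_mem _ (e u hu).1 g using 1; group, fun u hu => by
      rw [(e u hu).2, ← h.cnj g]; congr 1; group⟩
  have c1 : ∀ (P : Subgroup G) (a b c : G), (∀ u ∈ P, a⁻¹ * u * a ∈ S) → (∀ u ∈ P, b⁻¹ * u * b ∈ S) →
      (∀ u ∈ P, c⁻¹ * u * c ∈ S) → Φ a c - Φ a b - Φ b c ∈ KH h P := fun P a b c ha hb hc => by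
    obtain ⟨z, e⟩ := h5 (c⁻¹ * b) (b⁻¹ * a)
    refine mk P _ a z fun u hu => ?_
    have e1 : b⁻¹ * a * (a⁻¹ * u * a) * (b⁻¹ * a)⁻¹ = b⁻¹ * u * b := by group
    have e2 := e _ (ha u hu) (e1 ▸ hb u hu) (by rw [e1]; convert hc u hu using 1; group)
    rw [e1, show c⁻¹ * b * (b⁻¹ * a) = c⁻¹ * a by group] at e2
    have e3 := (π.ker.mul_mem_cancel_left (mul_mem (h1 _ _) (h1 _ _))).1 (e2 ▸ h1 _ _)
    refine ⟨e3, ?_⟩
    change ι _ - ι _ - ι _ = _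
    rw [e2, h.add _ (mul_mem (h1 _ _) (h1 _ _)) _ e3, h.add _ (h1 _ _) _ (h1 _ _)]; abel
  have c2 : ∀ (P : Subgroup G) (a b : G), a • x₀ = b • x₀ → (∀ u ∈ P, a⁻¹ * u * a ∈ S) →
      Φ a b ∈ KH h P := fun P a b e ha => by
    obtain ⟨z, f⟩ := h4 (b⁻¹ * a) ((h₀ _).1 (by rw [mul_smul, e, inv_smul_smul]))
    exact mk P _ a z fun u hu => ⟨f _ (ha u hu) ▸ h1 _ _, congrArg ι (f _ (ha u hu))⟩
  have c3 : ∀ (P : Subgroup G) (a a' b b' : G), a • x₀ = a' • x₀ → b • x₀ = b' • x₀ →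
      (∀ u ∈ P, a⁻¹ * u * a ∈ S) → (∀ u ∈ P, b⁻¹ * u * b ∈ S) → Φ a b - Φ a' b' ∈ KH h P :=
    fun P a a' b b' e f ha hb => by
      have ha' : ∀ u ∈ P, a'⁻¹ * u * a' ∈ S := fun u hu => fx.1 (e ▸ fx.2 (ha u hu))
      have hb' : ∀ u ∈ P, b'⁻¹ * u * b' ∈ S := fun u hu => fx.1 (f ▸ fx.2 (hb u hu))
      have := add_mem (add_mem (add_mem (c1 P a a' b ha ha' hb) (c2 P a a' e ha))
        (c1 P a' b' b ha' hb' hb)) (c2 P b' b f.symm hb')
      convert this using 1; abel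
  choose γ hγ using htr
  have hS : ∀ {l : List Ω} {x : Ω}, x ∈ l → ∀ u ∈ st (⊤ : Subgroup G) l, (γ x)⁻¹ * u * γ x ∈ S :=
    fun {l x} a u hu => fx.1 (by rw [hγ]; exact hu.2 x a)
  obtain ⟨s, hs', es⟩ := van_UK h hπ hp hs hΩ hΩ' hm
    (fun l => match l with | [x, y] => Φ (γ x) (γ y) | _ => 0) ⟨fun l a _ => by
      obtain ⟨x, y, rfl⟩ := length_eq_two.1 a
      refine ⟨fun u hu v hv => ?_, fun u _ => (h.mem _).2 ⟨_, h1 _ _, rfl⟩, fun u _ b => ?_⟩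
      · change ι _ = ι _ + ι _
        rw [← h.add _ (h1 _ _) _ (h1 _ _), ← h2 _ _ (hS (by simp) u hu) _ (hS (by simp) v hv)
          (by convert hS (x := y) (by simp) u hu using 1; group)
          (by convert hS (x := y) (by simp) v hv using 1; group)]
        congr 2; group
      · change ι _ = 0
        rw [h3 _ _ ((MonoidHom.normal_ker π).conj_mem' u b _), h.one], fun g _ l a _ => by
      obtain ⟨x, y, rfl⟩ := length_eq_two.1 a
      have : g • Φ (γ x) (γ y) = Φ (g * γ x) (g * γ y) := funext fun u => by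
        change ι _ = ι _
        congr 2 <;> group
      change Φ (γ (g • x)) (γ (g • y)) - g • Φ (γ x) (γ y) ∈ KH h (st ⊤ [g • x, g • y])
      rw [this]
      exact c3 _ _ _ _ _ (by rw [mul_smul, hγ, hγ]) (by rw [mul_smul, hγ, hγ]) (hS (by simp))
        (hS (by simp))⟩ fun l a _ => by
    obtain ⟨x, y, z, rfl⟩ := length_eq_three.1 a
    rw [dS_triple _ (hA _) (hA _) (hA _)]
    have := neg_mem (c1 (st ⊤ [x, y, z]) (γ x) (γ y) (γ z) (hS (by simp)) (hS (by simp))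
      (hS (by simp)))
    convert this using 1; abel
  have st0 : ∀ u, u ∈ st (⊤ : Subgroup G) [x₀] ↔ u ∈ S := fun u => by simp [mem_st, h₀]
  have s1 := hs'.mem [x₀] rfl (hA _)
  have : ∀ u, ∃ a ∈ π.ker, (u ∈ S → ι a = s [x₀] u) ∧ (u ∉ S → a = 1) := fun u => by
    by_cases hu : u ∈ S
    · obtain ⟨a, ha, e⟩ := (h.mem _).1 (s1.2.1 u ((st0 u).2 hu))
      exact ⟨a, ha, fun _ => e, fun b => absurd hu b⟩
    · exact ⟨1, one_mem _, fun b => absurd b hu, fun _ => rfl⟩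
  choose ψ p1 p2 p3 using this
  refine ⟨ψ, p1, fun u hu v hv => h.inj (p1 _) (mul_mem (p1 _) (p1 _)) ?_, fun a ha => ?_,
    fun g => ?_⟩
  · rw [h.add _ (p1 _) _ (p1 _), p2 u hu, p2 v hv, p2 _ (mul_mem hu hv),
      s1.1 u ((st0 u).2 hu) v ((st0 v).2 hv)]
  · rw [← h.ker _ (p1 a), p2 a ((st0 a).1 (hA _ ha)), s1.2.2 a (hA _ ha) ha]
  · have e1 := es [x₀, g⁻¹ • x₀] rfl (hA _)
    rw [dS_pair _ (hA _) (hA _)] at e1
    have e2 := (cs_KH h).antiU (st ⊤ [x₀, g⁻¹ • x₀]) (st ⊤ [g⁻¹ • x₀]) (st_subset (by simp)) le_top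
      (hs'.eqv g⁻¹ trivial [x₀] rfl (hA _))
    have e3 := c3 (st ⊤ [x₀, g⁻¹ • x₀]) (γ x₀) 1 (γ (g⁻¹ • x₀)) g⁻¹ (by rw [hγ, one_smul]) (hγ _)
      (hS (by simp)) (hS (by simp))
    obtain ⟨z, hz, e⟩ := sub_mem (sub_mem e3 e1) e2
    refine ⟨z, fun u hu hu' => ?_⟩
    have b : u ∈ st (⊤ : Subgroup G) [x₀, g⁻¹ • x₀] := ⟨trivial, by
      simpa [(h₀ u).2 hu] using fx.2 (by rwa [inv_inv])⟩
    have c := mem_ca.1 hz u b
    refine h.inj (p1 _) (mul_mem (mul_mem (h1 _ _) (p1 _)) c) ?_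
    rw [h.add _ (mul_mem (h1 _ _) (p1 _)) _ c, h.add _ (h1 _ _) _ (p1 _), ← e u b, p2 u hu,
      p2 _ hu']
    change _ = _ + _ + (Φ (γ x₀) (γ (g⁻¹ • x₀)) u - ι (φ (g⁻¹⁻¹ * 1) (1⁻¹ * u * 1)) -
      (Φ (γ x₀) (γ (g⁻¹ • x₀)) u - (s [g⁻¹ • x₀] u - s [x₀] u)) -
      (s [g⁻¹ • x₀] u - s [x₀] (g⁻¹⁻¹ * u * g⁻¹)))
    simp only [inv_inv, mul_one, inv_one, one_mul]
    abel

theorem kv : KVStmt.{u} := by
  classical
  intro G _ _ p _ S A hS hA hAS φ h1 h2 h3 h4 h5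
  have : A.Normal := ⟨fun a ha g => by rw [mem_center_iff.1 (hA ha) g]; simpa using ha⟩
  obtain ⟨G', _, _, π, hπ, rfl⟩ : ∃ (G' : Type u) (_ : Group G') (_ : Finite G') (π : G →* G'),
      Function.Surjective π ∧ π.ker = A := ⟨G ⧸ A, inferInstance, inferInstance,
    QuotientGroup.mk' A, QuotientGroup.mk'_surjective A, QuotientGroup.ker_mk' A⟩
  have hp : IsPGroup p π.ker := hS.isPGroup.to_le hAS
  have hS' : SylowIn p (S.map π) ⊤ := by
    have := hS.map π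
    rwa [Subgroup.map_top_of_surjective _ hπ] at this
  have hΩ' := om_quot hS'
  letI := MulAction.compHom (G' ⧸ S.map π) π
  have := Fintype.ofFinite (G' ⧸ S.map π)
  obtain ⟨M, _, χ, c1, c2⟩ := (as_bot (hA.trans (center_le_centralizer _))).exists_hom
  have c3 : ∀ a ∈ π.ker, ∀ b ∈ π.ker, (if a * b ∈ π.ker then χ (a * b) else 0) =
      (if a ∈ π.ker then χ a else 0) + if b ∈ π.ker then χ b else 0 := fun a ha b hb => by
    rw [if_pos ha, if_pos hb, if_pos (mul_mem ha hb), c1 a ha b hb]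
  refine kv_of (ι := fun y => if y ∈ π.ker then χ y else 0) (D := imD π.ker _ c3)
    ⟨hA, c3, fun a ha => by rw [if_pos ha, c2 a ha, mem_bot], fun g y => ?_, fun _ => Iff.rfl⟩
    hπ hp (fun _ _ => rfl) ⟨fun x => ((hΩ'.pg x).comap_of_ker_isPGroup π hp).to_le fun g hg => hg,
      fun P hP => ?_⟩ hΩ' ?_ (x₀ := ((1 : G') : G' ⧸ S.map π)) (fun g => ?_) (fun x => ?_)
    h1 h2 h3 h4 h5
  · by_cases hy : y ∈ π.ker
    · rw [mem_center_iff.1 (hA hy) g, mul_inv_cancel_right]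
    · rw [if_neg hy, if_neg fun e => hy (by simpa [mul_assoc] using (MonoidHom.normal_ker π).conj_mem' _ e g)]
  · obtain ⟨x, hx⟩ := hΩ'.fx _ (hP.map π)
    exact ⟨x, fun g hg => hx _ (mem_map_of_mem π hg)⟩
  · rw [← Nat.card_eq_fintype_card, ← index_eq_card, ← relIndex_top_right]; exact hS'.not_dvd
  · refine smul_mk_iff.trans ?_
    rw [cj_one, ← mem_comap, comap_map_eq_self hAS]
  · obtain ⟨y, rfl⟩ := QuotientGroup.mk_surjective x
    obtain ⟨g, rfl⟩ := hπ y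
    exact ⟨g, congrArg QuotientGroup.mk (mul_one (π g))⟩

end Cfsg.Agent.LK
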