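import Cfsg.Agent.Lib.LK.Loc

/-!
# Fixed-point systems: acyclicity, length one, Oliver's `Λ`-vanishing
-/

set_option autoImplicit false

namespace Cfsg.Agent.LK

open List Cfsg.Agent.Tr Subgroup

variable {G Ω M : Type*} [Group G] [MulAction G Ω] [AddCommGroup M] [DistribMulAction G M]
variable {H K Y P Q T C : Subgroup G} {p k : ℕ} {D : AddSubgroup M} {𝒬 : Subgroup G → Prop}

theorem smul_mem_fix {g : G} {m : M} (h : m ∈ fix M P) : g • m ∈ fix M (cj g P) := fun a ha => by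
  obtain ⟨b, hb, rfl⟩ := mem_cj'.1 ha
  rw [← mul_smul, inv_mul_cancel_right, mul_smul, h b hb]

theorem Inv.mono (h : Inv H D) (hK : K ≤ H) : Inv K D := fun g hg => h g (hK hg)

theorem Inv.inf_fix (h : Inv H D) (Y : Subgroup G) :
    Inv (H ⊓ normalizer (Y : Set G)) (D ⊓ fix M Y) := fun g hg m hm =>
  ⟨h g hg.1 m hm.1, by rw [← cj_eq_iff.2 hg.2]; exact smul_mem_fix hm.2⟩

theorem Tor.mono {D' : AddSubgroup M} (h : Tor p D) (h' : D' ≤ D) : Tor p D' :=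
  h.imp fun _ a m hm => a m (h' hm)

theorem cs_fix (h : Inv H D) : Cs H (fun P => D ⊓ fix M P) fun _ => ⊥ :=
  ⟨fun _ _ => bot_le, fun _ _ a _ => inf_le_inf_left _ (fix_anti a), fun _ _ _ _ => le_rfl,
    fun g hg _ _ m hm => ⟨h g hg m hm.1, smul_mem_fix hm.2⟩,
    fun g _ _ _ m hm => by rw [AddSubgroup.mem_bot.1 hm, smul_zero]; exact zero_mem _,
    fun P _ g hg m hm => by rw [hm.2 g hg, sub_self]; exact zero_mem _⟩

variable (Ω) in
/-- Vanishing for the fixed-point system of `D` on the family `𝒬`. -/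
abbrev VL (H : Subgroup G) (k : ℕ) (𝒬 : Subgroup G → Prop) (D : AddSubgroup M) : Prop :=
  VS Ω H k 𝒬 (fun P => D ⊓ fix M P) fun _ => ⊥

theorem Tor.exists_inv [hp : Fact p.Prime] (h : Tor p D) {m : ℕ} (hm : ¬ p ∣ m) :
    ∃ m' : ℕ, ∀ d ∈ D, m' • m • d = d := by
  obtain ⟨n, hn⟩ := h
  have hc : Nat.Coprime m (p ^ (n + 1)) :=
    Nat.Coprime.pow_right _ ((Nat.Prime.coprime_iff_not_dvd hp.out).2 hm).symm
  obtain ⟨m', -, e⟩ := Nat.exists_mul_mod_eq_one_of_coprime hc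
    (Nat.one_lt_pow (by omega) hp.out.one_lt)
  refine ⟨m', fun d hd => ?_⟩
  rw [← mul_smul, mul_comm, ← Nat.div_add_mod (m * m') (p ^ (n + 1)), e, add_smul, one_smul,
    mul_comm, pow_succ', ← mul_assoc, mul_smul, hn d hd, smul_zero, zero_add]

theorem Om.exists_orbit [Finite G] [Fact p.Prime] (hΩ : Om p G Ω) (hT : SylowIn p T H) :
    ∃ O : Finset Ω, ¬ p ∣ O.card ∧ (∀ g ∈ H, ∀ y, g • y ∈ O ↔ y ∈ O) ∧
      ∀ y ∈ O, ∃ g ∈ H, LK.st H [y] = cj g T := by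
  obtain ⟨x, hx⟩ := hΩ.exists_st hT
  have hf : (MulAction.orbit H x).Finite := Set.finite_range _
  refine ⟨hf.toFinset, ?_, fun g hg y => ?_, fun y hy => ?_⟩
  · rw [← Set.ncard_eq_toFinset_card _ hf, ← MulAction.index_stabilizer]
    have : MulAction.stabilizer H x = T.subgroupOf H := by
      ext g; rw [← hx, mem_subgroupOf, mem_st]; simp [Subgroup.smul_def]
    rw [this]; exact hT.not_dvd
  · simp only [Set.Finite.mem_toFinset]
    refine ⟨fun a => ?_, fun a => MulAction.mem_orbit_of_mem_orbit (⟨g, hg⟩ : H) a⟩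
    simpa [Subgroup.smul_def] using MulAction.mem_orbit_of_mem_orbit (⟨g, hg⟩⁻¹ : H) a
  · obtain ⟨g, rfl⟩ := hf.mem_toFinset.1 hy
    exact ⟨g, g.2, by rw [← hx, ← st_sl g.2]; rfl⟩

/-- A local context: `Y` is a normal `p`-subgroup of `H`, and `D` an `H`-invariant `p`-group. -/
structure Ctx (p : ℕ) (H Y : Subgroup G) (D : AddSubgroup M) : Prop where
  inv : Inv H D
  tor : Tor p D
  le : Y ≤ H
  nrm : H ≤ normalizer (Y : Set G)
  pg : IsPGroup p Y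

theorem Ctx.sub (h : Ctx p H Y D) (hP : P ≤ H) (hp : IsPGroup p P) :
    Ctx p (H ⊓ normalizer (P : Set G)) P D :=
  ⟨h.inv.mono inf_le_left, h.tor, le_inf hP le_normalizer, inf_le_right, hp⟩

theorem Ctx.sub' (h : Ctx p H Y D) (hP : P ≤ H) (hp : IsPGroup p P) :
    Ctx p (H ⊓ normalizer (P : Set G)) P (D ⊓ fix M P) :=
  ⟨h.inv.inf_fix P, h.tor.mono inf_le_left, le_inf hP le_normalizer, inf_le_right, hp⟩

variable [Finite G] [Fact p.Prime]

theorem Ctx.le_syl (h : Ctx p H Y D) (hT : SylowIn p T H) : Y ≤ T :=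
  hT.le_of_le_normalizer h.pg h.le (hT.le.trans h.nrm)

theorem ac (hΩ : Om p G Ω) (h : Ctx p H Y D) (hk : 1 ≤ k) : VL Ω H k (Y ≤ ·) D := by
  obtain ⟨T, hT⟩ := exists_sylowIn (p := p) H
  obtain ⟨O, hO, hi, hy⟩ := hΩ.exists_orbit hT
  obtain ⟨m', hm⟩ := h.tor.exists_inv hO
  have hY : ∀ y ∈ O, ∀ l : List Ω, Y ≤ st H l → Y ≤ st H (y :: l) := fun y a l b => by
    obtain ⟨g, hg, e⟩ := hy y a
    rw [st_cons, e]
    exact le_inf (h.le_syl (hT.cj_of_mem hg)) b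
  intro f hf hc
  have he : ∀ g ∈ H, ∀ l : List Ω, l.length = k - 1 → Y ≤ st H l →
      ∑ y ∈ O, f (y :: sl g l) = g • ∑ y ∈ O, f (y :: l) := fun g hg l a b => by
    rw [Finset.smul_sum]
    symm
    refine Finset.sum_bijective (g • ·) (MulAction.bijective g) (fun y => (hi g hg y).symm)
      fun y c => ?_
    exact (sub_eq_zero.1 (hf.eqv g hg (y :: l) (by simp; omega) (hY y c l b))).symm
  refine ⟨fun l => m' • ∑ y ∈ O, f (y :: l), ⟨fun l a b =>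
    (D ⊓ fix M (st H l)).nsmul_mem ⟨?_, fun g hg => ?_⟩ _, fun g hg l a b => ?_⟩, fun l a b => ?_⟩
  · exact sum_mem fun y c => (hf.mem _ (by simp; omega) (hY y c l b)).1
  · rw [← he g hg.1 l a b, sl_of_mem_st hg]
  · rw [he g hg l a b, smul_comm, sub_self]; exact zero_mem _
  · have e1 : dS (fun l : List Ω => Y ≤ st H l) (fun l => m' • ∑ y ∈ O, f (y :: l)) l =
        cbHom l (m' • ∑ y ∈ O, fun l' => ind (fun l : List Ω => Y ≤ st H l) f (y :: l')) := by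
      refine cb_congr fun l' c _ => ?_
      have d : Y ≤ st H l' := b.trans (st_anti c)
      rw [ind_pos _ d, Pi.smul_apply, Finset.sum_apply]
      exact congrArg _ (Finset.sum_congr rfl fun y e => (ind_pos _ (hY y e l' d)).symm)
    have e2 : ∀ y ∈ O, cbHom l (fun l' => ind (fun l : List Ω => Y ≤ st H l) f (y :: l')) = f l :=
      fun y c => by
        have := AddSubgroup.mem_bot.1 (hc (y :: l) (by simp [a]) (hY y c l b))
        rw [dS, cb_cons, ind_pos _ b, sub_eq_zero] at this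
        exact this.symm
    rw [e1, map_nsmul, map_sum, Finset.sum_congr rfl e2, Finset.sum_const, hm _ (hf.mem l a b).1,
      sub_self]
    exact zero_mem _

omit [Finite G] [Fact p.Prime] in
theorem dS_pair {Sg : List Ω → Prop} (f : List Ω → M) {x y : Ω} (hx : Sg [x]) (hy : Sg [y]) :
    dS Sg f [x, y] = f [y] - f [x] := by
  rw [dS, cb_cons, cb_cons, cb_nil, ind_pos _ hx, ind_pos _ hy, sub_zero]

theorem v1 (hΩ : Om p G Ω) (hT : SylowIn p T H) (hQ : Up H 𝒬)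
    (hV : 𝒬 T → ∀ v ∈ D ⊓ fix M T, (∀ g ∈ H, 𝒬 (T ⊓ cj g T) → g • v = v) → v ∈ fix M H) :
    VL Ω H 1 𝒬 D := by
  obtain ⟨x₀, h₀⟩ := hΩ.exists_st hT
  have hx : ∀ x : Ω, ∃ g ∈ H, st H [x] ≤ cj g T := fun x => by
    obtain ⟨g, hg, e⟩ := hT.exists_cj_le (hΩ.st (H := H) (l := [x]) le_rfl) (st_le _)
    exact ⟨g⁻¹, H.inv_mem hg, cj_le_iff_le_cj_inv.1 e⟩
  by_cases hq : 𝒬 T
  swap
  · refine van_of_empty fun l a b => hq ?_
    obtain ⟨x, rfl⟩ := length_eq_one_iff.1 a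
    obtain ⟨g, hg, e⟩ := hx x
    exact (inv_iff hQ.inv hg hT.le).1 (hQ.up _ _ e (cj_le_of_mem hT.le hg) b)
  intro f hf hc
  have q0 : 𝒬 (st H [x₀]) := h₀ ▸ hq
  have e1 : ∀ g ∈ H, f [g • x₀] = g • f [x₀] := fun g hg => sub_eq_zero.1 (hf.eqv g hg [x₀] rfl q0)
  have e2 : ∀ g ∈ H, st H [g • x₀] = cj g T := fun g hg => h₀ ▸ st_sl hg [x₀]
  have e3 : ∀ x y : Ω, 𝒬 (st H [x] ⊓ st H [y]) → f [y] = f [x] := fun x y a => by
    have := hc [x, y] rfl (by dsimp only; rwa [st_cons])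
    rwa [dS_pair f (hQ.up _ _ inf_le_left (st_le _) a) (hQ.up _ _ inf_le_right (st_le _) a),
      AddSubgroup.mem_bot, sub_eq_zero] at this
  have hv := hf.mem [x₀] rfl q0
  rw [h₀] at hv
  have hv' := hV hq _ hv fun g hg a => by rw [← e1 g hg, e3 x₀ _ (by rwa [h₀, e2 g hg])]
  refine ⟨fun _ => f [x₀], ⟨fun l a _ => ⟨hv.1, fix_anti (st_le l) hv'⟩, fun g hg l _ _ => by
    rw [hv' g hg, sub_self]; exact zero_mem _⟩, fun l a b => ?_⟩
  obtain ⟨x, rfl⟩ := length_eq_one_iff.1 a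
  obtain ⟨g, hg, e⟩ := hx x
  rw [dS, cb_cons, cb_nil, sub_zero, ind_pos _ (hQ.up _ _ (st_anti (nil_sublist _)) (st_le _) b),
    ← e3 x (g • x₀) (by rwa [e2 g hg, inf_eq_left.2 e]), e1 g hg, hv' g hg, sub_self]
  exact zero_mem _

theorem v1J (hΩ : Om p G Ω) (hT : SylowIn p T H) (hQ : Up H 𝒬) {J : Subgroup G} (hJ : J ≤ T)
    (hq : 𝒬 T → 𝒬 J) (hN : D ⊓ fix M (H ⊓ normalizer (J : Set G)) ≤ fix M H) : VL Ω H 1 𝒬 D :=
  v1 hΩ hT hQ fun a _ hv b => hN ⟨hv.1, fun g hg => b g hg.1 (hQ.up _ _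
    (le_inf hJ (by rw [← cj_eq_iff.2 hg.2]; exact cj_mono g hJ)) (inf_le_left.trans hT.le) (hq a))⟩

theorem vl_diff (hΩ : Om p G Ω) (h : Ctx p H Y D) (hQ : Up H 𝒬) (hY : ∀ P ≤ H, 𝒬 P → Y ≤ P)
    (hv : VL Ω H k 𝒬 D) : VL Ω H (k + 1) (fun P => Y ≤ P ∧ ¬ 𝒬 P) D :=
  vsplit3 (up_le h.nrm).fam (cs_fix h.inv) hQ hY (ac hΩ h (by omega)) hv

theorem vl_up (hΩ : Om p G Ω) (h : Ctx p H Y D) (hQ : Up H 𝒬) (hY : ∀ P ≤ H, 𝒬 P → Y ≤ P)
    (hk : 1 ≤ k) (hv : VL Ω H (k + 1) (fun P => Y ≤ P ∧ ¬ 𝒬 P) D) : VL Ω H k 𝒬 D :=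
  vsplit2 (up_le h.nrm).fam (cs_fix h.inv) hQ hY (ac hΩ h hk) hv

/-- The pointwise stabilizer of `D`. -/
def cen (G : Type*) [Group G] [DistribMulAction G M] (D : AddSubgroup M) : Subgroup G where
  carrier := {g | ∀ d ∈ D, g • d = d}
  one_mem' := fun d _ => one_smul G d
  mul_mem' := fun {a b} ha hb d hd => by rw [mul_smul, hb d hd, ha d hd]
  inv_mem' := fun {a} ha d hd => by rw [inv_smul_eq_iff, ha d hd]

/-- `C` acts on `D` as a `p`-group. -/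
def PA (p : ℕ) (C : Subgroup G) (D : AddSubgroup M) : Prop := ∀ c ∈ C, ∃ n, c ^ p ^ n ∈ cen G D

omit [Finite G] [Fact p.Prime] in
theorem Inv.conj_mem_cen (h : Inv H D) {g c : G} (hg : g ∈ H) (hc : c ∈ cen G D) :
    g * c * g⁻¹ ∈ cen G D := fun d hd => by
  rw [mul_smul, mul_smul, hc _ (h _ (H.inv_mem hg) d hd), smul_inv_smul]

theorem PA.exists_mul (h : PA p C D) (hi : Inv C D) (hT : SylowIn p T C) {c : G} (hc : c ∈ C) :
    ∃ a ∈ cen G D, ∃ b ∈ T, c = a * b := by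
  have hn : ((cen G D ⊓ C).subgroupOf C).Normal := ⟨fun a ha g => by
    rw [mem_subgroupOf] at ha ⊢
    exact ⟨hi.conj_mem_cen g.2 ha.1, (g * a * g⁻¹).2⟩⟩
  have hp : IsPGroup p (C ⧸ (cen G D ⊓ C).subgroupOf C) := fun x => by
    obtain ⟨c, rfl⟩ := QuotientGroup.mk_surjective x
    obtain ⟨n, e⟩ := h c c.2
    exact ⟨n, by
      rw [← QuotientGroup.mk_pow, QuotientGroup.eq_one_iff, mem_subgroupOf]
      exact ⟨e, (c ^ p ^ n).2⟩⟩
  obtain ⟨n, e⟩ := IsPGroup.iff_card.1 hp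
  obtain ⟨a, ha, b, hb, e⟩ := hT.exists_mul_of_relIndex_pow (H := cen G D ⊓ C) inf_le_right e hc
  exact ⟨a, ha.1, b, hb, e⟩

omit [Finite G] [Fact p.Prime] in
theorem exists_pow_mem_of_sup (hQ : IsPGroup p Q) (hn : Q ≤ normalizer (C : Set G)) {x : G}
    (hx : x ∈ C ⊔ Q) : ∃ n, x ^ p ^ n ∈ C := by
  obtain ⟨c, hc, q, hq, rfl⟩ := (mem_sup_of_le_normalizer' hn).1 hx
  obtain ⟨n, e⟩ := isPGroup_iff_forall_mem.1 hQ q hq
  have : ∀ N : ℕ, (c * q) ^ N * (q ^ N)⁻¹ ∈ C := fun N => by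
    induction N with
    | zero => simp
    | succ N ih =>
      have := C.mul_mem hc (conj_mem_of_mem_normalizer (hn hq) ih)
      convert this using 1
      rw [pow_succ', pow_succ']; group
  exact ⟨n, by simpa [e] using this (p ^ n)⟩

omit [Finite G] [Fact p.Prime] in
theorem PA.sup (h : PA p C D) (hQ : IsPGroup p Q) (hn : Q ≤ normalizer (C : Set G)) :
    PA p (C ⊔ Q) D := fun x hx => by
  obtain ⟨n, e⟩ := exists_pow_mem_of_sup hQ hn hx
  obtain ⟨m, e⟩ := h _ e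
  exact ⟨n + m, by rwa [pow_add, pow_mul]⟩

theorem sylowIn_of_normalizer (hQ : Q ≤ K) (h : SylowIn p Q (K ⊓ normalizer (Q : Set G))) :
    SylowIn p Q K := by
  obtain ⟨R, hR, e⟩ := exists_sylowIn_ge h.isPGroup hQ
  rcases e.eq_or_lt with rfl | e
  · exact hR
  · have := lt_normalizer_inf hR.isPGroup e
    exact absurd (h.eq_of_le (hR.isPGroup.to_le inf_le_right) this.le
      (le_inf (inf_le_right.trans hR.le) inf_le_left)) this.ne'

omit [Finite G] [Fact p.Prime] in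
theorem le_normalizer_of_cj (h : ∀ g ∈ H, cj g K = K) : H ≤ normalizer (K : Set G) :=
  fun g hg => cj_eq_iff.1 (h g hg)

theorem lam_single (hΩ : Om p G Ω) (hk : 1 ≤ k) (h : Ctx p H P D) (hv : VL Ω H k (P < ·) D) :
    VL Ω H (k + 1) (· = P) D :=
  (vs_congr hΩ (by omega) (fam_eq h.nrm) (cs_fix h.inv) fun R _ _ =>
    ⟨fun a => (a.1.eq_or_lt.resolve_right a.2).symm, fun a => ⟨a.ge, a.not_gt⟩⟩).2
    (vl_diff hΩ h (up_lt h.nrm) (fun _ _ a => a.le) hv)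

theorem lam (hΩ : Om p G Ω) (hk : 1 ≤ k) : ∀ {H P C : Subgroup G}, Ctx p H P D → C ≤ H →
    H ≤ normalizer (C : Set G) → P ≤ C → ¬ SylowIn p P C → PA p C D → VL Ω H k (P < ·) D := by
  induction k, hk using Nat.le_induction with
  | base =>
    intro H P C h hC hn hP hs hA
    obtain ⟨T, hT⟩ := exists_sylowIn (p := p) H
    have hR := hT.inf_of_le_normalizer hC (hT.le.trans hn)
    refine v1J hΩ hT (up_lt h.nrm) (J := T ⊓ C) inf_le_left
      (fun _ => lt_of_le_of_ne (le_inf (h.le_syl hT) hP) fun e => hs (e ▸ hR)) fun v hv g hg => ?_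
    obtain ⟨c, hc, y, hy, rfl⟩ := hR.frattini (hn hg)
    obtain ⟨a, ha, b, hb, rfl⟩ := hA.exists_mul (h.inv.mono hC) hR hc
    rw [mul_smul, mul_smul, hv.2 y ⟨(H.mul_mem_cancel_left (hC hc)).1 hg, hy⟩,
      hv.2 b ⟨hC hb.2, le_normalizer hb⟩, ha v hv.1]
  | succ k hk ih =>
    intro H P C h hC hn hP hs hA
    have hU : Up H fun Q => ∃ R ≤ Q, SylowIn p R C :=
      ⟨fun g hg Q _ ⟨R, a, b⟩ => ⟨_, cj_mono g a, b.cj_of_mem_normalizer (hn hg)⟩,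
        fun _ _ a _ ⟨R, b, c⟩ => ⟨R, b.trans a, c⟩⟩
    refine vsplit1 (up_lt h.nrm).fam (cs_fix h.inv) hU (fun Q _ ⟨R, a, b⟩ => lt_of_lt_of_le
      (lt_of_le_of_ne (b.le_of_le_normalizer h.pg hP (b.le.trans (hC.trans h.nrm)))
        fun e => hs (e ▸ b)) a) ?_ ?_
    · refine fl_mono hΩ (by omega) ((up_lt h.nrm).fam.diff hU) (cs_fix h.inv) (fun Q => Q)
        (fun _ _ _ _ _ _ => rfl) (fun _ _ a _ _ _ _ => a) fun Q a b c => ⟨(· = Q), _, _,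
          fun R _ _ => ⟨⟨fun e => ⟨e ▸ c, e⟩, fun e => e.2⟩, fun _ => ⟨rfl, rfl⟩⟩, ?_⟩
      have hQ : Q ≤ normalizer (C : Set G) := a.trans hn
      refine lam_single hΩ hk (h.sub a b) (ih (C := (C ⊔ Q) ⊓ normalizer (Q : Set G)) (h.sub a b)
        (inf_le_inf_right _ (sup_le hC a)) (le_normalizer_of_cj fun g hg => ?_)
        (le_inf le_sup_right le_normalizer) (fun e => c.2 ⟨Q ⊓ C, inf_le_left, ?_⟩)
        fun x hx => hA.sup b hQ x hx.1)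
      · rw [cj_inf, cj_sup, ← normalizer_cj, cj_eq_iff.2 hg.2, cj_eq_iff.2 (hn hg.1)]
      · exact (sylowIn_of_normalizer le_sup_right e).inf_of_le_normalizer le_sup_left hQ
    · refine fl_mono hΩ (by omega) hU.fam (cs_fix h.inv) (· ⊓ C)
        (fun g hg Q _ _ _ => by rw [cj_inf, cj_eq_iff.2 (hn hg)])
        (fun _ _ a _ _ _ _ => inf_le_inf_right _ a) fun Q a b ⟨R, c, d⟩ => ?_
      have e : Q ⊓ C = R := d.eq_of_le (b.to_le inf_le_left) (le_inf c d.le) inf_le_right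
      simp only [e]
      exact ⟨(R ≤ ·), _, _, fun R' _ f => ⟨⟨fun g => ⟨⟨R, g, d⟩,
        d.eq_of_le (f.to_le inf_le_left) (le_inf g d.le) inf_le_right⟩,
        fun g => g.2 ▸ inf_le_left⟩, fun _ => ⟨rfl, rfl⟩⟩,
        ac hΩ (h.sub (c.trans a) d.isPGroup) (by omega)⟩

theorem lam' (hΩ : Om p G Ω) (hk : 2 ≤ k) (h : Ctx p H P D) (hC : C ≤ H)
    (hn : H ≤ normalizer (C : Set G)) (hP : P ≤ C) (hs : ¬ SylowIn p P C) (hA : PA p C D) :
    VL Ω H k (· = P) D := by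
  obtain ⟨k, rfl⟩ : ∃ j, k = j + 1 := ⟨k - 1, by omega⟩
  exact lam_single hΩ (by omega) h (lam hΩ (by omega) h hC hn hP hs hA)

end Cfsg.Agent.LK
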