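import Cfsg.Agent.Lib.LK.Split

/-!
# Systems indexed by subgroups; the filtration lemma; fixed-point systems
-/

set_option autoImplicit false

namespace Cfsg.Agent.LK

open List Cfsg.Agent.Tr Subgroup

variable {G Ω M : Type*} [Group G] [MulAction G Ω] [AddCommGroup M] [DistribMulAction G M]

/-- The pointwise stabilizer of a list in `H`. -/
def st (H : Subgroup G) (l : List Ω) : Subgroup G where
  carrier := {g | g ∈ H ∧ ∀ x ∈ l, g • x = x}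
  one_mem' := ⟨H.one_mem, fun x _ => one_smul G x⟩
  mul_mem' := fun {a b} ha hb => ⟨H.mul_mem ha.1 hb.1, fun x hx => by
    rw [mul_smul, hb.2 x hx, ha.2 x hx]⟩
  inv_mem' := fun {a} ha => ⟨H.inv_mem ha.1, fun x hx => by rw [inv_smul_eq_iff, ha.2 x hx]⟩

variable {H K Y P Q T : Subgroup G} {p k : ℕ}

theorem mem_st {l : List Ω} {g : G} : g ∈ st H l ↔ g ∈ H ∧ ∀ x ∈ l, g • x = x := Iff.rfl

theorem st_le (l : List Ω) : st H l ≤ H := fun _ h => h.1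

theorem st_anti {l' l : List Ω} (h : l' <+ l) : st H l ≤ st H l' :=
  fun _ a => ⟨a.1, fun x hx => a.2 x (h.subset hx)⟩

theorem st_nil : st H ([] : List Ω) = H := by ext g; simp [mem_st]

theorem st_inf (l : List Ω) : st (H ⊓ K) l = st H l ⊓ K := by
  ext g; simp only [mem_st, mem_inf]; tauto

theorem st_cons (x : Ω) (l : List Ω) : st H (x :: l) = st H [x] ⊓ st H l := by
  ext g; simp only [mem_st, mem_inf, forall_mem_cons, not_mem_nil]; tauto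

theorem st_sl {g : G} (hg : g ∈ H) (l : List Ω) : st H (sl g l) = cj g (st H l) := by
  ext a
  simp only [mem_cj, mem_st, sl, List.mem_map, forall_exists_index, and_imp,
    forall_apply_eq_imp_iff₂, mul_smul, inv_smul_eq_iff]
  rw [H.mul_mem_cancel_right hg, H.mul_mem_cancel_left (H.inv_mem hg)]

theorem mem_st_of_sl {g : G} (hg : g ∈ H) {l : List Ω} (h : sl g l = l) : g ∈ st H l := by
  refine ⟨hg, ?_⟩
  induction l with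
  | nil => simp
  | cons x l ih =>
    simp only [sl, map_cons, cons.injEq] at h
    simpa [h.1] using ih h.2

theorem sl_of_mem_st {g : G} {l : List Ω} (h : g ∈ st H l) : sl g l = l := by
  conv_rhs => rw [← List.map_id l]
  exact List.map_congr_left h.2

/-- The point stabilizers are `p`-groups and every `p`-subgroup fixes a point. -/
structure Om (p : ℕ) (G Ω : Type*) [Group G] [MulAction G Ω] : Prop where
  pg : ∀ x : Ω, IsPGroup p (MulAction.stabilizer G x)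
  fx : ∀ P : Subgroup G, IsPGroup p P → ∃ x : Ω, ∀ g ∈ P, g • x = x

theorem Om.st (h : Om p G Ω) {l : List Ω} (hl : 1 ≤ l.length) : IsPGroup p (st H l) := by
  obtain ⟨x, l, rfl⟩ := exists_cons_of_length_pos hl
  exact (h.pg x).to_le fun g hg => hg.2 x mem_cons_self

theorem Om.exists_st [Fact p.Prime] (h : Om p G Ω) (hT : SylowIn p T H) :
    ∃ x : Ω, LK.st H [x] = T := by
  obtain ⟨x, hx⟩ := h.fx T hT.isPGroup
  exact ⟨x, hT.eq_of_le (h.st le_rfl) (fun g hg => ⟨hT.le hg, by simpa using hx g hg⟩) (st_le _)⟩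

/-- Invariant convex families of subgroups of `H`. -/
structure Fam (H : Subgroup G) (𝒜 : Subgroup G → Prop) : Prop where
  inv : ∀ g ∈ H, ∀ P ≤ H, 𝒜 P → 𝒜 (cj g P)
  cvx : ∀ P Q R, P ≤ Q → Q ≤ R → R ≤ H → 𝒜 P → 𝒜 R → 𝒜 Q

/-- Invariant upward closed families of subgroups of `H`. -/
structure Up (H : Subgroup G) (𝒜 : Subgroup G → Prop) : Prop where
  inv : ∀ g ∈ H, ∀ P ≤ H, 𝒜 P → 𝒜 (cj g P)
  up : ∀ P Q, P ≤ Q → Q ≤ H → 𝒜 P → 𝒜 Q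

variable {𝒜 𝒜' 𝒜₁ 𝒜₂ 𝒬 : Subgroup G → Prop} {U W U' W' : Subgroup G → AddSubgroup M}

theorem Up.fam (h : Up H 𝒜) : Fam H 𝒜 :=
  ⟨h.inv, fun P Q _ a b c d _ => h.up P Q a (b.trans c) d⟩

theorem Up.mono (h : Up H 𝒜) (hK : K ≤ H) : Up K 𝒜 :=
  ⟨fun g hg P a => h.inv g (hK hg) P (a.trans hK), fun P Q a b => h.up P Q a (b.trans hK)⟩

theorem Up.and (h : Up H 𝒜) (h' : Up H 𝒬) : Up H fun P => 𝒜 P ∧ 𝒬 P :=
  ⟨fun g hg P a b => ⟨h.inv g hg P a b.1, h'.inv g hg P a b.2⟩,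
    fun P Q a b c => ⟨h.up P Q a b c.1, h'.up P Q a b c.2⟩⟩

theorem Up.or (h : Up H 𝒜) (h' : Up H 𝒬) : Up H fun P => 𝒜 P ∨ 𝒬 P :=
  ⟨fun g hg P a b => b.imp (h.inv g hg P a) (h'.inv g hg P a),
    fun P Q a b c => c.imp (h.up P Q a b) (h'.up P Q a b)⟩

theorem inv_iff (h : ∀ g ∈ H, ∀ P ≤ H, 𝒜 P → 𝒜 (cj g P)) {g : G} (hg : g ∈ H) (hP : P ≤ H) :
    𝒜 (cj g P) ↔ 𝒜 P :=
  ⟨fun a => by simpa [cj_inv_cj] using h g⁻¹ (H.inv_mem hg) _ (cj_le_of_mem hP hg) a, h g hg P hP⟩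

theorem Fam.diff (h : Fam H 𝒜) (h' : Up H 𝒬) : Fam H fun P => 𝒜 P ∧ ¬ 𝒬 P :=
  ⟨fun g hg P a b => ⟨h.inv g hg P a b.1, by rw [inv_iff h'.inv hg a]; exact b.2⟩,
    fun P Q R a b c d e => ⟨h.cvx P Q R a b c d.1 e.1, fun f => e.2 (h'.up Q R b c f)⟩⟩

theorem up_le (hH : H ≤ normalizer (Y : Set G)) : Up H (Y ≤ ·) :=
  ⟨fun g hg P _ a => by rw [← cj_eq_iff.2 (hH hg)]; exact cj_mono g a, fun _ _ a _ b => b.trans a⟩

theorem up_lt (hH : H ≤ normalizer (Y : Set G)) : Up H (Y < ·) :=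
  ⟨fun g hg P _ a => by rw [← cj_eq_iff.2 (hH hg)]; exact cj_lt_cj.2 a,
    fun _ _ a _ b => b.trans_le a⟩

theorem fam_eq (hH : H ≤ normalizer (Y : Set G)) : Fam H (· = Y) :=
  ⟨fun g hg P _ a => by rw [a, cj_eq_iff.2 (hH hg)],
    fun _ _ _ a b _ c d => le_antisymm (d ▸ b) (c ▸ a)⟩

/-- Coefficient systems on the subgroups of `H`. -/
structure Cs (H : Subgroup G) (U W : Subgroup G → AddSubgroup M) : Prop where
  le : ∀ P ≤ H, W P ≤ U P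
  antiU : ∀ P Q, P ≤ Q → Q ≤ H → U Q ≤ U P
  antiW : ∀ P Q, P ≤ Q → Q ≤ H → W Q ≤ W P
  smulU : ∀ g ∈ H, ∀ P ≤ H, ∀ m ∈ U P, g • m ∈ U (cj g P)
  smulW : ∀ g ∈ H, ∀ P ≤ H, ∀ m ∈ W P, g • m ∈ W (cj g P)
  triv : ∀ P ≤ H, ∀ g ∈ P, ∀ m ∈ U P, g • m - m ∈ W P

theorem Cs.mono (h : Cs H U W) (hK : K ≤ H) : Cs K U W :=
  ⟨fun P a => h.le P (a.trans hK), fun P Q a b => h.antiU P Q a (b.trans hK),
    fun P Q a b => h.antiW P Q a (b.trans hK), fun g hg P a => h.smulU g (hK hg) P (a.trans hK),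
    fun g hg P a => h.smulW g (hK hg) P (a.trans hK), fun P a => h.triv P (a.trans hK)⟩

theorem invS_of (h : ∀ g ∈ H, ∀ P ≤ H, 𝒜 P → 𝒜 (cj g P)) :
    InvS H fun l : List Ω => 𝒜 (st H l) :=
  fun g hg l a => by dsimp only; rw [st_sl hg]; exact h g hg _ (st_le l) a

theorem sys_of (hF : Fam H 𝒜) (hC : Cs H U W) :
    Sys H (fun l : List Ω => 𝒜 (st H l)) (fun l => U (st H l)) fun l => W (st H l) :=
  ⟨invS_of hF.inv, fun _ _ _ a b c d => hF.cvx _ _ _ (st_anti b) (st_anti a) (st_le _) d c,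
    fun l _ => hC.le _ (st_le l), fun _ _ a _ _ => hC.antiU _ _ (st_anti a) (st_le _),
    fun _ _ a _ _ => hC.antiW _ _ (st_anti a) (st_le _),
    fun g hg l _ m hm => by rw [st_sl hg]; exact hC.smulU g hg _ (st_le l) m hm,
    fun g hg l _ m hm => by rw [st_sl hg]; exact hC.smulW g hg _ (st_le l) m hm,
    fun g hg l _ e => hC.triv _ (st_le l) g (mem_st_of_sl hg e)⟩

variable (Ω) in
/-- Vanishing at length `k` for the system `U / W` on the family `𝒜`. -/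
def VS (H : Subgroup G) (k : ℕ) (𝒜 : Subgroup G → Prop) (U W : Subgroup G → AddSubgroup M) : Prop :=
  Van H k (fun l : List Ω => 𝒜 (st H l)) (fun l => U (st H l)) fun l => W (st H l)

theorem spl_of (h₂ : Up H 𝒜₂) (hs : ∀ P ≤ H, 𝒜₂ P → 𝒜 P) (h₁ : ∀ P ≤ H, 𝒜₁ P ↔ 𝒜 P ∧ ¬ 𝒜₂ P) :
    Spl H (fun l : List Ω => 𝒜 (st H l)) (fun l => 𝒜₁ (st H l)) fun l => 𝒜₂ (st H l) :=
  ⟨fun l => by have := hs _ (st_le (H := H) l); rw [h₁ _ (st_le l)]; tauto,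
    fun l a => ((h₁ _ (st_le l)).1 a).2,
    fun _ _ a _ b => h₂.up _ _ (st_anti a) (st_le _) b, invS_of h₂.inv⟩

theorem vsplit1 (hF : Fam H 𝒜) (hC : Cs H U W) (h₂ : Up H 𝒜₂) (hs : ∀ P ≤ H, 𝒜₂ P → 𝒜 P)
    (h1 : VS Ω H k (fun P => 𝒜 P ∧ ¬ 𝒜₂ P) U W) (h2 : VS Ω H k 𝒜₂ U W) : VS Ω H k 𝒜 U W :=
  split1 (sys_of hF hC) (spl_of h₂ hs fun _ _ => Iff.rfl) h1 h2

theorem vsplit2 (hF : Fam H 𝒜) (hC : Cs H U W) (h₂ : Up H 𝒜₂) (hs : ∀ P ≤ H, 𝒜₂ P → 𝒜 P)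
    (h1 : VS Ω H k 𝒜 U W) (h2 : VS Ω H (k + 1) (fun P => 𝒜 P ∧ ¬ 𝒜₂ P) U W) : VS Ω H k 𝒜₂ U W :=
  split2 (sys_of hF hC) (spl_of h₂ hs fun _ _ => Iff.rfl) h1 h2

theorem vsplit3 (hF : Fam H 𝒜) (hC : Cs H U W) (h₂ : Up H 𝒜₂) (hs : ∀ P ≤ H, 𝒜₂ P → 𝒜 P)
    (h1 : VS Ω H (k + 1) 𝒜 U W) (h2 : VS Ω H k 𝒜₂ U W) :
    VS Ω H (k + 1) (fun P => 𝒜 P ∧ ¬ 𝒜₂ P) U W :=
  split3 (sys_of hF hC) (spl_of h₂ hs fun _ _ => Iff.rfl) h1 h2

theorem invS_of_p (hΩ : Om p G Ω)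
    (h : ∀ g ∈ H, ∀ P ≤ H, IsPGroup p P → 𝒜 P → 𝒜 (cj g P)) :
    InvS H fun l : List Ω => 𝒜 (st H l) := fun g hg l a => by
  rcases l with _ | ⟨x, l⟩
  · exact a
  · rw [st_sl hg]; exact h g hg _ (st_le _) (hΩ.st (by simp)) a

theorem vs_iff (hΩ : Om p G Ω) (hk : 2 ≤ k) (hF : Fam H 𝒜) (hC : Cs H U W)
    (hi : ∀ g ∈ H, ∀ P ≤ H, IsPGroup p P → 𝒜' P → 𝒜' (cj g P))
    (hs : ∀ P ≤ H, IsPGroup p P → 𝒜' P → 𝒜 P ∧ U' P = U P ∧ W' P = W P)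
    (ht : ∀ P ≤ H, IsPGroup p P → 𝒜 P → ¬ 𝒜' P → U P ≤ W P) :
    VS Ω H k 𝒜 U W ↔ VS Ω H k 𝒜' U' W' :=
  have h := sys_of (Ω := Ω) hF hC
  van_iff h.monoU h.monoW h.inv (invS_of_p hΩ hi)
    (fun l a => hs _ (st_le l) (hΩ.st (by omega))) fun l a => ht _ (st_le l) (hΩ.st (by omega))

theorem vs_congr (hΩ : Om p G Ω) (hk : 2 ≤ k) (hF : Fam H 𝒜) (hC : Cs H U W)
    (h : ∀ P ≤ H, IsPGroup p P → (𝒜' P ↔ 𝒜 P)) : VS Ω H k 𝒜 U W ↔ VS Ω H k 𝒜' U W :=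
  vs_iff hΩ hk hF hC (fun g hg P a b c => (h _ (cj_le_of_mem a hg) (isPGroup_cj g b)).2
    (hF.inv g hg P a ((h P a b).1 c))) (fun P a b c => ⟨(h P a b).1 c, rfl, rfl⟩)
    fun P a b c d => absurd ((h P a b).2 c) d

theorem fl [Finite G] [Fact p.Prime] (hΩ : Om p G Ω) (hk : 2 ≤ k) (hF : Fam H 𝒜) (hC : Cs H U W)
    (κ : Subgroup G → ℕ) (lab : Subgroup G → Subgroup G)
    (h1 : ∀ g ∈ H, ∀ P ≤ H, IsPGroup p P → 𝒜 P → κ (cj g P) = κ P ∧ lab (cj g P) = cj g (lab P))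
    (h2 : ∀ P Q, P ≤ Q → Q ≤ H → IsPGroup p Q → 𝒜 P → 𝒜 Q →
      κ P ≤ κ Q ∧ (κ P = κ Q → lab P = lab Q))
    (h3 : ∀ P₀ ≤ H, IsPGroup p P₀ → 𝒜 P₀ → ∃ (𝒜' : Subgroup G → Prop)
      (U' W' : Subgroup G → AddSubgroup M),
      (∀ R ≤ H ⊓ normalizer (lab P₀ : Set G), IsPGroup p R →
        (𝒜' R ↔ 𝒜 R ∧ κ R = κ P₀ ∧ lab R = lab P₀) ∧ (𝒜' R → U' R = U R ∧ W' R = W R)) ∧
      VS Ω (H ⊓ normalizer (lab P₀ : Set G)) k 𝒜' U' W') : VS Ω H k 𝒜 U W := by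
  have hF' : Fam H fun P => 𝒜 P ∧ IsPGroup p P :=
    ⟨fun g hg P a b => ⟨hF.inv g hg P a b.1, isPGroup_cj g b.2⟩,
      fun P Q R a b c d e => ⟨hF.cvx P Q R a b c d.1 e.1, e.2.to_le b⟩⟩
  rw [vs_congr hΩ hk hF hC (𝒜' := fun P => 𝒜 P ∧ IsPGroup p P) fun P _ a => and_iff_left a]
  have hS := sys_of (Ω := Ω) hF' hC
  obtain ⟨N, hN⟩ := (Set.finite_range κ).bddAbove
  have i1 : ∀ g ∈ H, ∀ l : List Ω, 𝒜 (st H l) ∧ IsPGroup p (st H l) →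
      κ (st H (sl g l)) = κ (st H l) ∧ lab (st H (sl g l)) = cj g (lab (st H l)) :=
    fun g hg l a => by rw [st_sl hg]; exact h1 g hg _ (st_le l) a.2 a.1
  refine van_of_key hS (fun l => κ (st H l)) (N + 1)
    (fun l _ => Nat.lt_succ_of_le (hN ⟨_, rfl⟩)) (fun g hg l a => (i1 g hg l a).1)
    (fun l' l a b c => (h2 _ _ (st_anti a) (st_le _) b.2 c.1 b.1).1) fun j => ?_
  have hS' := hS.restrict (Sg' := fun l => (𝒜 (st H l) ∧ IsPGroup p (st H l)) ∧ κ (st H l) = j)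
    (fun l a => a.1) (fun g hg l a => ⟨hS.inv g hg l a.1, by rw [(i1 g hg l a.1).1, a.2]⟩)
    fun l'' l' l a b c d => by
      have e := hS.cvx _ _ _ a b c.1 d.1
      have := (h2 _ _ (st_anti a) (st_le _) c.1.2 e.1 c.1.1).1
      have := (h2 _ _ (st_anti b) (st_le _) e.2 d.1.1 e.1).1
      have := c.2; have := d.2
      exact ⟨e, by omega⟩
  refine van_of_lab hS' (fun l => lab (st H l)) (fun g hg l a => (i1 g hg l a.1).2)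
    (fun l' l a b c => ((h2 _ _ (st_anti a) (st_le _) b.1.2 c.1.1 b.1.1).2
      (c.2.trans b.2.symm)).symm) fun y => ?_
  by_cases hne : ∃ l : List Ω, ((𝒜 (st H l) ∧ IsPGroup p (st H l)) ∧ κ (st H l) = j) ∧
      lab (st H l) = y
  swap
  · exact van_of_empty fun l _ a => hne ⟨l, a⟩
  obtain ⟨l₀, ⟨⟨a0, b0⟩, rfl⟩, rfl⟩ := hne
  obtain ⟨𝒜', U', W', e, hv⟩ := h3 _ (st_le l₀) b0 a0
  set y := lab (st H l₀)
  have hn : ∀ P ≤ H, IsPGroup p P → 𝒜 P → lab P = y → ∀ x ∈ H, x ∈ normalizer (P : Set G) →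
      x ∈ normalizer (y : Set G) := fun P a b c d x hx e => by
    rw [← cj_eq_iff, ← d, ← (h1 x hx P a b c).2, cj_eq_iff.2 e]
  refine (van_iff (fun l' l a b c => hS.monoU l' l a b.1.1 c.1.1)
    (fun l' l a b c => hS.monoW l' l a b.1.1 c.1.1)
    (fun g hg l a => ⟨hS'.inv g hg.1 l a.1, by
      rw [(i1 g hg.1 l a.1.1).2, a.2, cj_eq_iff.2 hg.2]⟩)
    (invS_of_p hΩ fun g hg P a b c => ?_) (fun l a b => ?_) fun l a b c => absurd ?_ c).2 hv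
  · obtain ⟨c1, c2, c3⟩ := (e P a b).1.1 c
    have d := h1 g hg.1 P (a.trans inf_le_left) b c1
    exact (e _ (cj_le_of_mem a hg) (isPGroup_cj g b)).1.2
      ⟨hF.inv g hg.1 P (a.trans inf_le_left) c1, d.1.trans c2, by rw [d.2, c3, cj_eq_iff.2 hg.2]⟩
  · have hp : IsPGroup p (st H l) := hΩ.st (by omega)
    have hp1 : IsPGroup p (st (H ⊓ normalizer (y : Set G)) l) := hΩ.st (by omega)
    obtain ⟨⟨c1, c2, c3⟩, c4⟩ := And.imp (fun x => x.1 b) (fun x => x b) (e _ (st_le l) hp1)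
    have : st (H ⊓ normalizer (y : Set G)) l = st H l := by
      by_contra hne
      obtain ⟨x, x1, x2, x3⟩ := exists_mem_normalizer_not_mem hp
        (lt_of_le_of_ne (by rw [st_inf]; exact inf_le_left) hne)
      exact x3 (by
        rw [st_inf]; exact ⟨x1, hn _ ((st_le l).trans inf_le_left) hp1 c1 c3 x x1.1 x2⟩)
    rw [this] at c1 c2 c3 c4 ⊢
    exact ⟨⟨⟨⟨c1, hp⟩, c2⟩, c3⟩, c4⟩
  · obtain ⟨⟨⟨b1, b2⟩, b3⟩, b4⟩ := b
    have : st (H ⊓ normalizer (y : Set G)) l = st H l := by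
      rw [st_inf]
      exact inf_eq_left.2 fun x hx => hn _ (st_le l) b2 b1 b4 x hx.1 (le_normalizer hx)
    refine (e _ (st_le l) (hΩ.st (by omega))).1.2 ?_
    rw [this]; exact ⟨b1, b3, b4⟩

theorem fl_mono [Finite G] [Fact p.Prime] (hΩ : Om p G Ω) (hk : 2 ≤ k) (hF : Fam H 𝒜)
    (hC : Cs H U W) (lab : Subgroup G → Subgroup G)
    (h1 : ∀ g ∈ H, ∀ P ≤ H, IsPGroup p P → 𝒜 P → lab (cj g P) = cj g (lab P))
    (h2 : ∀ P Q, P ≤ Q → Q ≤ H → IsPGroup p Q → 𝒜 P → 𝒜 Q → lab P ≤ lab Q)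
    (h3 : ∀ P₀ ≤ H, IsPGroup p P₀ → 𝒜 P₀ → ∃ (𝒜' : Subgroup G → Prop)
      (U' W' : Subgroup G → AddSubgroup M),
      (∀ R ≤ H ⊓ normalizer (lab P₀ : Set G), IsPGroup p R →
        (𝒜' R ↔ 𝒜 R ∧ lab R = lab P₀) ∧ (𝒜' R → U' R = U R ∧ W' R = W R)) ∧
      VS Ω (H ⊓ normalizer (lab P₀ : Set G)) k 𝒜' U' W') : VS Ω H k 𝒜 U W := by
  refine fl hΩ hk hF hC (fun P => Nat.card (lab P)) lab
    (fun g hg P a b c => ⟨by rw [h1 g hg P a b c, card_cj], h1 g hg P a b c⟩)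
    (fun P Q a b c d e => ⟨card_le_of_le (h2 P Q a b c d e), fun f =>
      eq_of_le_of_card_ge (h2 P Q a b c d e) f.ge⟩) fun P₀ a b c => ?_
  obtain ⟨𝒜', U', W', e, hv⟩ := h3 P₀ a b c
  refine ⟨𝒜', U', W', fun R d f => ⟨(e R d f).1.trans ?_, (e R d f).2⟩, hv⟩
  exact and_congr_right fun _ => ⟨fun g => ⟨by rw [g], g⟩, fun g => g.2⟩

end Cfsg.Agent.LK
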