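import Cfsg.Agent.Lib.LK.TV1

/-!
Row TV of docs/LK_PLAN.md, part 2: transvections without same-axis partners.
-/

set_option autoImplicit false
set_option linter.style.haveILetI false

namespace Cfsg.Agent.LK

open Cfsg Subgroup Cfsg.Agent.Tr MulAction NL

universe u v

namespace TV

variable {G M : Type*} [Group G] [AddCommGroup M] [DistribMulAction G M]

variable (M) in
/-- The partner-free transvections in `S`. -/
def Sg (S : Subgroup G) : Set G := {t | T0 M t ∧ t ∈ S}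

variable (M) in
/-- `r` is a partner of the solitary transvection `b`. -/
def Pt (S : Subgroup G) (b r : G) : Prop :=
  T0 M r ∧ r * b ≠ b * r ∧ ∀ a ∈ Sg M S, a ≠ b → r * a = a * r

variable (M) in
/-- The standing hypotheses. -/
structure Hy (S : Subgroup G) : Prop where
  ff : Ff G M
  tor : Tor 2 (⊤ : AddSubgroup M)
  core : pCore 2 G = ⊥
  syl : SylowIn 2 S ⊤

variable {S : Subgroup G} {a b r r' t g n : G} {w : M}

theorem pg_closure (hf : Ff G M) {C : Set G} (h0 : ∀ a ∈ C, T0 M a)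
    (hc : ∀ a ∈ C, ∀ b ∈ C, a * b = b * a) : IsPGroup 2 (closure C) := by
  have h₁ : closure C ≤ centralizer C := (closure_le _).2 fun a ha b hb => hc b hb a ha
  have h₂ : closure C ≤ centralizer (closure C : Set G) :=
    (closure_le _).2 fun a ha b hb => (h₁ hb a ha).symm
  refine isPGroup_iff_forall_mem.2 fun x hx => ⟨1, ?_⟩
  rw [pow_one, sq]
  induction hx using closure_induction with
  | mem x hx => exact (exists_tc (h0 x hx).1).choose_spec.sq hf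
  | one => exact one_mul _
  | mul x y hx hy ex ey => rw [mul_assoc, ← mul_assoc y, h₂ hx y hy, mul_assoc, ey, mul_one, ex]
  | inv x _ ex => rw [← mul_inv_rev, ex, inv_one]

theorem conj_mem_Sg (hn : n ∈ normalizer (Sg M S)) (ha : a ∈ Sg M S) : n * a * n⁻¹ ∈ Sg M S :=
  (hn a).1 ha

theorem conj_mem_Sg' (hn : n ∈ normalizer (Sg M S)) (ha : a ∈ Sg M S) : n⁻¹ * a * n ∈ Sg M S := by
  simpa using conj_mem_Sg (inv_mem hn) ha

theorem Pt.conj (h : Pt M S b r) (hn : n ∈ normalizer (Sg M S)) :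
    Pt M S (n * b * n⁻¹) (n * r * n⁻¹) := by
  refine ⟨T0_conj h.1 n, fun e => h.2.1 (by simpa using e), fun a ha hab => ?_⟩
  have := h.2.2 _ (conj_mem_Sg' hn ha) fun e => hab (by rw [← e]; group)
  calc _ = n * (r * (n⁻¹ * a * n)) * n⁻¹ := by group
    _ = _ := by rw [this]; group

variable [Finite G]

namespace Hy

theorem comm (H : Hy M S) (ha : a ∈ Sg M S) (hb : b ∈ Sg M S) : a * b = b * a :=
  comm_of_mem H.ff H.syl.isPGroup ha.1 hb.1 ha.2 hb.2

theorem S_le (H : Hy M S) : S ≤ normalizer (Sg M S) := fun g hg => mem_normalizer_fintype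
  fun _ ha => ⟨T0_conj ha.1 g, mul_mem (mul_mem hg ha.2) (inv_mem hg)⟩

theorem max (H : Hy M S) {C : Set G} (h0 : ∀ a ∈ C, T0 M a)
    (hc : ∀ a ∈ C, ∀ b ∈ C, a * b = b * a) (h : Sg M S ⊆ C) : C ⊆ Sg M S := by
  obtain ⟨x, -, hx⟩ := H.syl.exists_cj_le (pg_closure H.ff h0 hc) le_top
  exact (Set.eq_of_subset_of_ncard_le h (Set.ncard_le_ncard_of_injOn (fun a => x * a * x⁻¹)
    (fun a ha => ⟨T0_conj (h0 a ha) x, cj_le_iff.1 hx a (subset_closure ha)⟩)
    fun a _ b _ e => by simpa using e)).ge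

theorem mem_of_comm (H : Hy M S) (h0 : T0 M a) (h : ∀ b ∈ Sg M S, a * b = b * a) : a ∈ Sg M S :=
  H.max (C := insert a (Sg M S)) (by rintro _ (rfl | h); exacts [h0, h.1]) (by
    rintro x (rfl | hx) y (rfl | hy)
    exacts [rfl, h y hy, (h x hx).symm, H.comm hx hy]) (Set.subset_insert _ _) (Set.mem_insert _ _)

theorem mem_of_norm (H : Hy M S) (h0 : T0 M a) (h : a ∈ normalizer (Sg M S)) : a ∈ Sg M S :=
  H.mem_of_comm h0 fun s hs => by
    obtain ⟨c, hc⟩ := exists_tc h0.1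
    obtain ⟨e, he⟩ := exists_tc hs.1.1
    by_contra hn
    have := (he.conj a).fix_of_comm (H.comm hs (conj_mem_Sg h hs))
    rw [hc.mv fun e' => hn (comm_of_fix H.ff h0 he e').symm, smul_add, he.fix,
      add_right_inj] at this
    exact hn (comm_of_fix H.ff hs.1 hc this)

theorem exists_syl (H : Hy M S) (ht : t ∈ Sg M S) : ∃ T, SylowIn 2 T (centralizer {t}) ∧
    T ≤ normalizer (Sg M S) ∧ ∀ a ∈ T, T0 M a → a ∈ Sg M S := by
  obtain ⟨T, hT, h⟩ := exists_sylowIn_ge (pg_closure H.ff (fun _ h => h.1) fun _ ha _ => H.comm ha)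
    ((closure_le (centralizer {t})).2 fun a ha => mem_centralizer_singleton_iff.2 (H.comm ha ht))
  have k : ∀ a ∈ T, T0 M a → a ∈ Sg M S := fun a ha h0 => H.mem_of_comm h0 fun b hb =>
    comm_of_mem H.ff hT.isPGroup h0 hb.1 ha (h (subset_closure hb))
  exact ⟨T, hT, fun g hg => mem_normalizer_fintype fun a ha => k _ (mul_mem (mul_mem hg
    (h (subset_closure ha))) (inv_mem hg)) (T0_conj ha.1 g), k⟩

theorem factor (H : Hy M S) (ht : t ∈ Sg M S) (hg : g⁻¹ * t * g ∈ S) :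
    ∃ h ∈ centralizer {t}, ∃ n ∈ normalizer (Sg M S), g = h * n := by
  obtain ⟨T, hT, -, k⟩ := H.exists_syl ht
  obtain ⟨x, hx, e⟩ := hT.exists_cj_le (isPGroup_cj g (pg_closure H.ff (fun _ h => h.1)
    fun _ ha _ => H.comm ha)) (by
      rw [cj_closure, closure_le]
      rintro _ ⟨a, ha, rfl⟩
      refine mem_centralizer_singleton_iff.2 ?_
      calc _ = g * (a * (g⁻¹ * t * g)) * g⁻¹ := by group
        _ = _ := by rw [H.comm ha ⟨T0_conj' ht.1 g, hg⟩]; group)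
  rw [← cj_mul] at e
  exact ⟨x⁻¹, inv_mem hx, x * g, mem_normalizer_fintype fun a ha =>
    k _ (cj_le_iff.1 e a (subset_closure ha)) (T0_conj ha.1 _), by group⟩

theorem swap (H : Hy M S) (hb : T0 M b) (hr : T0 M r) (h : r * b ≠ b * r) :
    b * r * b⁻¹ * b * (b * r * b⁻¹)⁻¹ = r := by
  obtain ⟨c, hc⟩ := exists_tc hb.1
  obtain ⟨e, he⟩ := exists_tc hr.1
  exact hc.swap he H.ff (fun e' => h (comm_of_fix H.ff hr hc e').symm)
    fun e' => h (comm_of_fix H.ff hb he e')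

theorem flip (H : Hy M S) (hb : b ∈ Sg M S) (h : Pt M S b r) : Pt M S b (b * r * b⁻¹) := by
  simpa using h.conj (H.S_le hb.2)

theorem pt_eq (H : Hy M S) (hb : b ∈ Sg M S) (h : Pt M S b r) (h' : Pt M S b r')
    (e : r' * r = r * r') : r' = r := by
  have hu := H.flip hb h
  have hs := H.swap hb.1 h.1 h.2.1
  generalize b * r * b⁻¹ = u at hu hs
  have := H.mem_of_comm (T0_conj' h'.1 u) fun a ha => by
    by_cases hab : a = b
    · subst hab
      calc _ = u⁻¹ * (r' * (u * a * u⁻¹)) * u := by group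
        _ = u⁻¹ * ((u * a * u⁻¹) * r') * u := by rw [hs, e]
        _ = _ := by group
    · have h₁ : Commute u a := hu.2.2 a ha hab
      have h₂ : Commute r' a := h'.2.2 a ha hab
      exact (h₁.inv_left.mul_left h₂).mul_left h₁
  by_cases hab : u⁻¹ * r' * u = b
  · rw [← hs, ← hab]; group
  · have e₁ := hu.2.2 _ this hab
    have e₂ : u⁻¹ * r' * u = r' := by
      calc _ = u * (u⁻¹ * r' * u) * u⁻¹ := by rw [e₁]; group
        _ = r' := by group
    exact absurd (H.comm (e₂ ▸ this) hb) h'.2.1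

theorem pt_two (H : Hy M S) (hb : b ∈ Sg M S) (h : Pt M S b r) (h' : Pt M S b r') :
    r' = r ∨ r' = b * r * b⁻¹ := by
  obtain ⟨c, hc⟩ := exists_tc hb.1.1
  obtain ⟨e, he⟩ := exists_tc h.1.1
  obtain ⟨e', he'⟩ := exists_tc h'.1.1
  by_cases h₁ : r' • e = e
  · exact Or.inl (H.pt_eq hb h h' (comm_of_fix H.ff h'.1 he h₁).symm)
  · refine Or.inr (H.pt_eq hb (H.flip hb h) h' (comm_of_fix H.ff h'.1 (he.conj b) ?_).symm)
    rw [hc.mv fun e' => h.2.1 (comm_of_fix H.ff hb.1 he e')]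
    exact he'.add h₁ fun e' => h'.2.1 (comm_of_fix H.ff h'.1 hc e').symm

theorem nl2_aux (H : Hy M S) (ht : t ∈ Sg M S) (h2 : 2 • w = 0)
    (h₁ : ∀ n ∈ normalizer (Sg M S), n ∈ centralizer {t} → n • w = w)
    (h₂ : ∀ b ∈ Sg M S, b ≠ t → ∀ r, Pt M S b r → r • w = w) : w ∈ fix M (centralizer {t}) := by
  classical
  set N := normalizer (Sg M S)
  set x₀ : G ⧸ N := ((1 : G) : G ⧸ N)
  obtain ⟨F, hF⟩ := exists_ext (H := centralizer {t}) x₀ (w := w)
    fun g hg e => h₁ g (smul_base_iff.1 e) hg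
  have hC : ∀ a ∈ Sg M S, a ∈ centralizer {t} := fun a ha =>
    mem_centralizer_singleton_iff.2 (H.comm ha ht)
  let μ : G ⧸ N → Set G := fun x => {a | a ∈ Sg M S ∧ a • x ≠ x}
  refine fix_of_sum hF (Finset.sum_cancels_of_partition_cancels (Setoid.ker μ) fun x hx => ?_)
  set U := ((orb (centralizer {t}) x₀).erase x₀).filter fun y => Setoid.ker μ y x
  have mU : ∀ y, y ∈ U ↔ (y ≠ x₀ ∧ y ∈ orb (centralizer {t}) x₀) ∧ μ y = μ x := fun y => by
    simp only [U, Finset.mem_filter, Finset.mem_erase, Setoid.ker_def]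
  have hU : ∀ a ∈ Sg M S, ∀ y ∈ U, a • y ∈ U := fun a ha y hy => by
    rw [mU] at hy ⊢
    refine ⟨⟨fun e => hy.1.1 ?_, smul_mem_orb (hC a ha) hy.1.2⟩, Eq.trans ?_ hy.2⟩
    · rw [← inv_smul_smul a y, e, smul_base_iff.2 (inv_mem (H.S_le ha.2))]
    · ext b
      refine and_congr_right fun hb => ?_
      rw [← mul_smul, H.comm hb ha, mul_smul, ne_eq, smul_left_cancel_iff]
  have ps : ∀ a ∈ μ x, ∀ c, TC a c → ∑ y ∈ U, F y = 0 ∨ ∑ y ∈ U, F y = c := fun a ha c hc =>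
    hc.pair_sum H.ff (hU a ha.1) (fun y hy => (((mU y).1 hy).2.symm ▸ ha).2)
      (fun y hy => ext_equiv hF a (hC a ha.1) y ((mU y).1 hy).1.2) fun y hy => by
        obtain ⟨g, hg, rfl⟩ := mem_orb.1 ((mU y).1 hy).1.2
        rw [hF g hg, smul_comm, h2, smul_zero]
  have key : ∀ g : G, ∀ a ∈ Sg M S, a • g • x₀ = g • x₀ → g⁻¹ * a * g ∈ Sg M S := fun g a ha e =>
    H.mem_of_norm (T0_conj' ha.1 g) (smul_smul_base_iff.1 e)
  obtain ⟨b, hb⟩ : ∃ b, b ∈ μ x := by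
    by_contra h
    obtain ⟨h1, hx⟩ := Finset.mem_erase.1 hx
    obtain ⟨g, -, rfl⟩ := mem_orb.1 hx
    refine h1 (smul_base_iff.2 (inv_mem_iff.1 (mem_normalizer_fintype fun a ha => ?_)))
    simpa using key g a ha (by_contra fun e => h ⟨a, ha, e⟩)
  obtain ⟨c, hc⟩ := exists_tc hb.1.1.1
  by_cases h : ∃ a ∈ μ x, a ≠ b
  · obtain ⟨a, ha, hab⟩ := h
    obtain ⟨e, he⟩ := exists_tc ha.1.1.1
    rcases ps a ha e he with e₁ | e₁
    · exact e₁
    rcases ps b hb c hc with e₂ | e₂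
    · exact e₂
    exact absurd (eq_of_cen H.ff H.core ha.1.1 he (e₂.symm.trans e₁ ▸ hc)) hab
  push Not at h
  have hw : ∀ y ∈ U, F y = w := fun y hy => by
    obtain ⟨⟨-, hy⟩, e⟩ := (mU y).1 hy
    obtain ⟨g, hg, rfl⟩ := mem_orb.1 hy
    have k₁ : ∀ a ∈ Sg M S, a ≠ b → g⁻¹ * a * g ∈ Sg M S := fun a ha hab =>
      key g a ha (by_contra fun e' => hab (h a (e ▸ ⟨ha, e'⟩)))
    have k₂ : b • g • x₀ ≠ g • x₀ := (e.symm ▸ hb).2
    obtain ⟨s, hs, hs'⟩ : ∃ s ∈ Sg M S, g * s * g⁻¹ ∉ Sg M S := by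
      by_contra h'
      push Not at h'
      have : g ∈ N := mem_normalizer_fintype h'
      exact k₂ (by rw [smul_base_iff.2 this, smul_base_iff.2 (H.S_le hb.1.2)])
    have k₃ : ∀ a ∈ Sg M S, a ≠ b → g * s * g⁻¹ * a = a * (g * s * g⁻¹) := fun a ha hab => by
      calc _ = g * (s * (g⁻¹ * a * g)) * g⁻¹ := by group
        _ = _ := by rw [H.comm hs (k₁ a ha hab)]; group
    have hp : Pt M S b (g * s * g⁻¹) := ⟨T0_conj hs.1 g, fun e' => hs' (H.mem_of_comm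
      (T0_conj hs.1 g) fun a ha => by
        by_cases hab : a = b
        exacts [hab ▸ e', k₃ a ha hab]), k₃⟩
    have hbt : b ≠ t := by
      rintro rfl
      rw [← mul_smul, ← mem_centralizer_singleton_iff.1 hg, mul_smul,
        smul_base_iff.2 (H.S_le ht.2)] at k₂
      exact k₂ rfl
    have hr := H.flip hb.1 hp
    have hs := H.swap hb.1.1 hp.1 hp.2.1
    generalize b * (g * s * g⁻¹) * b⁻¹ = r at hr hs
    have hn : g⁻¹ * r ∈ N := mem_normalizer_fintype fun a ha => by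
      by_cases hab : a = b
      · rwa [hab, show g⁻¹ * r * b * (g⁻¹ * r)⁻¹ = g⁻¹ * (r * b * r⁻¹) * g by group, hs,
          show g⁻¹ * (g * s * g⁻¹) * g = s by group]
      · rw [mul_assoc g⁻¹, hr.2.2 a ha hab, show g⁻¹ * (a * r) * (g⁻¹ * r)⁻¹ = g⁻¹ * a * g by group]
        exact k₁ a ha hab
    rw [show g • x₀ = r • x₀ from (smul_inv_smul g _).symm.trans (by
      rw [← mul_smul g⁻¹, smul_base_iff.2 hn]) |>.symm,
      hF r (mem_centralizer_singleton_iff.2 (hr.2.2 t ht hbt.symm)), h₂ b hb.1 hbt r hr]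
  exact Finset.sum_involution (fun y _ => b • y) (fun y hy => by
      rw [hw y hy, hw _ (hU b hb.1 y hy), ← two_smul ℕ, h2])
    (fun y hy _ => (((mU y).1 hy).2.symm ▸ hb).2) (hU b hb.1)
    fun y _ => by rw [← mul_smul, hc.sq H.ff, one_smul]

theorem nl2 (H : Hy M S) (ht : t ∈ Sg M S)
    (h₁ : ∀ n ∈ normalizer (Sg M S), n ∈ centralizer {t} → n • w = w)
    (h₂ : ∀ b ∈ Sg M S, b ≠ t → ∀ r, Pt M S b r → r • w = w) : w ∈ fix M (centralizer {t}) := by
  obtain ⟨T, hT, hN, -⟩ := H.exists_syl ht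
  refine lift (D := ⊤) (N := centralizer {t} ⊓ stabilizer G w) (fun _ _ _ _ => trivial) H.tor inf_le_left
    (hT.not_dvd_relIndex_of_le (fun g hg => ⟨hT.le hg, h₁ g (hN hg) (hT.le hg)⟩) inf_le_left)
    (fun v _ h2 hv => H.nl2_aux ht h2 (fun n hn hn' => hv n ⟨hn', h₁ n hn hn'⟩)
      fun b hb hbt r hr => hv r ⟨mem_centralizer_singleton_iff.2 (hr.2.2 t ht hbt.symm),
        h₂ b hb hbt r hr⟩) ⟨trivial, fun g hg => hg.2⟩

theorem t3 (H : Hy M S) {v : M} (hv : ∀ g t : G, T0 M t → t ∈ S → t ∈ cj g S →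
      Jn 2 (⊤ : AddSubgroup M) S ≤ cj g S → g • v = v) (h0 : T0 M t) (ht : t ∈ S)
    (hg : t ∈ cj g S) : g • v = v := by
  set K := Jn 2 (⊤ : AddSubgroup M) S
  have hKS : K ≤ S := Jn_le S
  have hK := nt_iff.1 (nt_Jn (D := (⊤ : AddSubgroup M)) H.syl.isPGroup fun _ _ _ _ => trivial)
  have hN : v ∈ fix M (normalizer (Sg M S)) :=
    norm_lemma (D := ⊤) (fun _ _ _ _ => trivial) H.tor (H.syl.mono H.S_le le_top) ⟨trivial, fun n hn =>
      hv n t h0 ht (mem_cj.2 (conj_mem_Sg' hn.1 ⟨h0, ht⟩).2)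
        ((cj_eq_of_mem_normalizer hn.2).ge.trans (cj_mono n hKS))⟩
  obtain ⟨h, hh, n, hn, rfl⟩ := H.factor ⟨h0, ht⟩ (mem_cj.1 hg)
  rw [mul_smul, hN n hn]
  refine H.nl2 ⟨h0, ht⟩ (fun n hn _ => hN n hn) (fun b hb hbt r hr => ?_) h hh
  obtain ⟨c, hc⟩ := exists_tc hb.1.1
  obtain ⟨e, he⟩ := exists_tc hr.1.1
  have hrc : r • c ≠ c := fun e' => hr.2.1 (comm_of_fix H.ff hr.1 hc e').symm
  have hbe : b • e ≠ e := fun e' => hr.2.1 (comm_of_fix H.ff hb.1 he e')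
  have cen : ∀ {k a : G} {c : M}, T0 M a → TC a c → k • c = c → k * a * k⁻¹ = a :=
    fun h0 hc e => (eq_of_cen H.ff H.core h0 hc (e ▸ hc.conj _)).symm
  have k₁ : c ∈ fix M K := by
    classical
    by_contra hn
    have e₁ := hK c trivial (by rw [two_smul, hc.two]) hn
    have e₂ := congrArg (r • ·) e₁
    rw [← Finset.add_sum_erase _ _ (self_mem_orb K c)] at e₁ e₂
    simp only [smul_add, Finset.smul_sum, smul_zero] at e₂
    rw [he.mv hrc, Finset.sum_congr rfl (g := fun x => x) fun x hx => by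
      obtain ⟨h1, hx⟩ := Finset.mem_erase.1 hx
      obtain ⟨k, hk, rfl⟩ := mem_orb.1 hx
      exact (hc.conj k).fix_of_comm (hr.2.2 _ (conj_mem_Sg (H.S_le (hKS hk)) hb)
        fun e' => h1 ((hc.conj k).uniq (e'.symm ▸ hc))), add_right_comm, e₁, zero_add] at e₂
    exact he.ne e₂
  have k₂ : e ∈ fix M K := by
    classical
    by_contra hn
    have e₁ := hK e trivial (by rw [two_smul, he.two]) hn
    have k₃ : ∀ k ∈ K, k • e = e ∨ k • e = e + c := fun k hk => by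
      have := hr.conj (H.S_le (hKS hk))
      rw [cen hb.1 hc (k₁ k hk)] at this
      rcases H.pt_two hb hr this with e' | e'
      · exact Or.inl ((he.conj k).uniq (e'.symm ▸ he))
      · exact Or.inr (((he.conj k).uniq (e'.symm ▸ he.conj b)).trans (hc.mv hbe))
    have : orb K e = {e, e + c} := by
      ext x
      rw [mem_orb, Finset.mem_insert, Finset.mem_singleton]
      constructor
      · rintro ⟨k, hk, rfl⟩
        exact k₃ k hk
      · rintro (rfl | rfl)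
        · exact ⟨1, one_mem _, one_smul _ _⟩
        · by_contra h'
          exact hn fun k hk => (k₃ k hk).resolve_right fun e' => h' ⟨k, hk, e'⟩
    rw [this, Finset.sum_pair (by simpa using hc.ne), ← add_assoc, he.two, zero_add] at e₁
    exact hc.ne e₁
  refine hv r t h0 ht (mem_cj.2 ?_) fun k hk => mem_cj.2 ?_
  · rwa [mul_assoc, ← hr.2.2 t ⟨h0, ht⟩ hbt.symm, inv_mul_cancel_left]
  · rw [mul_assoc, mul_inv_eq_iff_eq_mul.1 (cen hr.1 he (k₂ k hk)), inv_mul_cancel_left]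
    exact hKS hk

omit [Finite G] in
theorem smul_inj (H : Hy M S) {m : ℕ} (hm : ¬ 2 ∣ m) : Function.Injective fun d : M => m • d :=
  (injective_iff_map_eq_zero (nsmulAddMonoidHom m : M →+ M)).2 fun d hd => by
    obtain ⟨k, hk⟩ := H.tor
    have := Nat.dvd_gcd (addOrderOf_dvd_of_nsmul_eq_zero (hk d trivial))
      (addOrderOf_dvd_of_nsmul_eq_zero hd)
    rwa [((Nat.Prime.coprime_iff_not_dvd Nat.prime_two).2 hm).pow_left, Nat.dvd_one,
      AddMonoid.addOrderOf_eq_one_iff] at this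

theorem exists_av [Finite M] (H : Hy M S) {f : G ⧸ S → G ⧸ S → M}
    (h₁ : ∀ (g t : G) x y, T0 M t → t • x = x → t • y = y → f (g • x) (g • y) = g • f x y)
    (h₂ : ∀ (t : G) x y z, T0 M t → t • x = x → t • y = y → t • z = z → f x y + f y z = f x z) :
    ∃ σ : Set G → M, ∀ A ⊆ Sg M S, ∀ A' ⊆ Sg M S, ∀ a ∈ A, ∀ g : G,
      (∀ b, b ∈ A' ↔ g⁻¹ * b * g ∈ A) →
      g • σ A = σ A' + f ((1 : G) : G ⧸ S) (g • ((1 : G) : G ⧸ S)) := by
  classical
  haveI := Fintype.ofFinite (G ⧸ S)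
  set x₀ : G ⧸ S := ((1 : G) : G ⧸ S)
  let U : Set G → Finset (G ⧸ S) := fun A => Finset.univ.filter fun y => ∀ a ∈ A, a • y = y
  have mU : ∀ A y, y ∈ U A ↔ ∀ a ∈ A, a • y = y := fun A y => by simp [U]
  have odd : ∀ A ⊆ Sg M S, ¬ 2 ∣ (U A).card := fun A hA hd => by
    have := card_modEq (H.syl.isPGroup.to_le ((closure_le S).2 fun a ha => (hA ha).2))
      (s := (Finset.univ : Finset (G ⧸ S))) fun _ _ _ _ => Finset.mem_univ _
    rw [show Finset.univ.filter _ = U A from Finset.filter_congr fun y _ =>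
      ⟨fun h a ha => h a (subset_closure ha),
        fun h _ hb => (closure_le (stabilizer G y)).2 h hb⟩, Finset.card_univ, ← Nat.card_eq_fintype_card,
      ← index, ← relIndex_top_right] at this
    exact H.syl.not_dvd ((this.dvd_iff dvd_rfl).2 hd)
  have sp : ∀ A, ∃ s : M, A ⊆ Sg M S → (U A).card • s = ∑ y ∈ U A, f y x₀ := fun A => by
    by_cases hA : A ⊆ Sg M S
    · exact (Finite.surjective_of_injective (H.smul_inj (odd A hA)) _).imp fun _ h _ => h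
    · exact ⟨0, fun h => absurd h hA⟩
  choose σ hσ using sp
  refine ⟨σ, fun A hA A' hA' a ha g hg => H.smul_inj (odd A' hA') ?_⟩
  have b₁ : ∀ y ∈ U A, g • y ∈ U A' := fun y hy => (mU _ _).2 fun b hb =>
    inv_smul_eq_iff.1 (by simpa only [mul_smul] using (mU _ _).1 hy _ ((hg b).1 hb))
  have b₂ : ∀ y ∈ U A', g⁻¹ • y ∈ U A := fun y hy => (mU _ _).2 fun b hb => by
    have := (mU _ _).1 hy (g * b * g⁻¹) ((hg _).2 (by simpa [mul_assoc] using hb))
    rwa [mul_smul, mul_smul, smul_eq_iff_eq_inv_smul] at this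
  have hc : (U A').card = (U A).card := (Finset.card_nbij' (g • ·) (g⁻¹ • ·) b₁ b₂
    (fun _ _ => inv_smul_smul _ _) fun _ _ => smul_inv_smul _ _).symm
  have x₁ : ∀ A ⊆ Sg M S, x₀ ∈ U A := fun A hA => (mU _ _).2 fun a ha => smul_base_iff.2 (hA ha).2
  have ha' : g * a * g⁻¹ ∈ A' := (hg _).2 (by simpa [mul_assoc] using ha)
  simp only
  rw [smul_add, hσ A' hA', ← Finset.sum_const (f x₀ (g • x₀)), ← Finset.sum_add_distrib, smul_comm, hc, hσ A hA,
    Finset.smul_sum]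
  refine Finset.sum_nbij' (g • ·) (g⁻¹ • ·) b₁ b₂ (fun _ _ => inv_smul_smul _ _)
    (fun _ _ => smul_inv_smul _ _) fun y hy => ?_
  rw [← h₁ g a y x₀ (hA ha).1 ((mU _ _).1 hy a ha) ((mU _ _).1 (x₁ A hA) a ha),
    h₂ _ _ _ _ (hA' ha').1 ((mU _ _).1 (b₁ y hy) _ ha') ((mU _ _).1 (x₁ A' hA') _ ha')
      ((mU _ _).1 (b₁ _ (x₁ A hA)) _ ha')]

theorem exists_corr (H : Hy M S) {v : G → M}
    (hn : ∀ n ∈ normalizer (Sg M S), ∀ t ∈ Sg M S, n • v t = v (n * t * n⁻¹))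
    (hc : ∀ t ∈ Sg M S, ∀ t' ∈ Sg M S, ∀ r, r * t = t * r → r * t' = t' * r →
      r • (v t - v t') = v t - v t') :
    ∃ d ∈ fix M (normalizer (Sg M S)), ∀ t ∈ Sg M S, v t - d ∈ fix M (centralizer {t}) := by
  classical
  choose! ce hce using fun (t : G) (h : T0 M t) => exists_tc (M := M) h.1
  let B : Finset G := (Set.toFinite (Sg M S)).toFinset.filter
    fun b => ∃ r, Pt M S b r ∧ ∃ t ∈ Sg M S, t ≠ b ∧ r • v t ≠ v t
  have mB : ∀ b, b ∈ B ↔ b ∈ Sg M S ∧ ∃ r, Pt M S b r ∧ ∃ t ∈ Sg M S, t ≠ b ∧ r • v t ≠ v t :=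
    fun b => by simp only [B, Finset.mem_filter, Set.Finite.mem_toFinset]
  have cB : ∀ n ∈ normalizer (Sg M S), ∀ b ∈ B, n * b * n⁻¹ ∈ B := fun n h b hb => by
    obtain ⟨hb, r, hr, t, ht, htb, e⟩ := (mB b).1 hb
    refine (mB _).2 ⟨conj_mem_Sg h hb, _, hr.conj h, _, conj_mem_Sg h ht,
      fun e' => htb (by simpa using e'), fun e' => e ?_⟩
    simpa [← hn n h t ht, mul_smul] using e'
  have hd : ∑ b ∈ B, ce b ∈ fix M (normalizer (Sg M S)) := fun n h => by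
    rw [Finset.smul_sum]
    exact Finset.sum_nbij' (fun b => n * b * n⁻¹) (fun b => n⁻¹ * b * n⁻¹⁻¹) (cB n h)
      (cB _ (inv_mem h)) (fun _ _ => by group) (fun _ _ => by group) fun b hb =>
      ((hce b ((mB b).1 hb).1.1).conj n).uniq (hce _ (T0_conj ((mB b).1 hb).1.1 n))
  refine ⟨_, hd, fun t ht => H.nl2 ht (fun n h h' => ?_) fun b hb hbt r hr => ?_⟩
  · rw [smul_sub, hd n h, hn n h t ht, mem_centralizer_singleton_iff.1 h', mul_inv_cancel_right]
  have k : ∀ a ∈ B, a ≠ b → r • ce a = ce a := fun a ha hab =>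
    (hce a ((mB a).1 ha).1.1).fix_of_comm (hr.2.2 a ((mB a).1 ha).1 hab)
  by_cases h : b ∈ B
  · obtain ⟨-, r', hr', t', ht', htb, e⟩ := (mB b).1 h
    have e₁ : r' • v t ≠ v t := fun e' => e (by
      have := hc t ht t' ht' r' (hr'.2.2 t ht hbt.symm) (hr'.2.2 t' ht' htb)
      rwa [smul_sub, e', sub_right_inj] at this)
    have e₂ : r • v t ≠ v t := by
      rcases H.pt_two hb hr' hr with rfl | rfl
      · exact e₁
      have : b • v t = v t := by rw [hn b (H.S_le hb.2) t ht, H.comm hb ht, mul_inv_cancel_right]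
      rwa [mul_smul, mul_smul, inv_smul_eq_iff.2 this.symm, ne_eq, smul_eq_iff_eq_inv_smul,
        inv_smul_eq_iff.2 this.symm]
    rw [smul_sub, (hce r hr.1).mv e₂, ← Finset.add_sum_erase _ _ h, smul_add, Finset.smul_sum,
      (hce r hr.1).mv fun e' => hr.2.1 (comm_of_fix H.ff hr.1 (hce b hb.1) e').symm,
      Finset.sum_congr rfl fun a ha => k a (Finset.mem_of_mem_erase ha) (Finset.ne_of_mem_erase ha)]
    abel
  · rw [smul_sub, Finset.smul_sum, Finset.sum_congr rfl fun a ha => k a ha fun e => h (e ▸ ha),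
      show r • v t = v t from by_contra fun e => h ((mB b).2 ⟨hb, r, hr, t, ht, hbt.symm, e⟩)]

theorem t2 [Finite M] (H : Hy M S) {f : G ⧸ S → G ⧸ S → M}
    (h₁ : ∀ (g t : G) x y, T0 M t → t • x = x → t • y = y → f (g • x) (g • y) = g • f x y)
    (h₂ : ∀ (t : G) x y z, T0 M t → t • x = x → t • y = y → t • z = z → f x y + f y z = f x z) :
    ∃ s : G ⧸ S → M, (∀ (g : G) x, s (g • x) = g • s x) ∧
      ∀ (t : G) x y, T0 M t → t • x = x → t • y = y → f x y = s y - s x := by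
  set x₀ : G ⧸ S := ((1 : G) : G ⧸ S)
  have sj : ∀ x : G ⧸ S, ∃ g : G, g • x₀ = x := fun x => QuotientGroup.induction_on x fun g =>
    ⟨g, by rw [Quotient.smul_coe, smul_eq_mul, mul_one]⟩
  have cs : ∀ {t g : G}, T0 M t → t • g • x₀ = g • x₀ → g⁻¹ * t * g ∈ Sg M S := fun h e =>
    ⟨T0_conj' h _, smul_smul_base_iff.1 e⟩
  rcases (Sg M S).eq_empty_or_nonempty with h0 | ⟨t₀, ht₀⟩
  · refine ⟨0, fun _ _ => (smul_zero _).symm, fun t x y ht hx _ => ?_⟩
    obtain ⟨g, rfl⟩ := sj x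
    exact absurd (cs ht hx) (h0 ▸ Set.notMem_empty _)
  obtain ⟨σ, hσ⟩ := H.exists_av h₁ h₂
  have s₁ : ∀ t ∈ Sg M S, ∀ g : G, g * t * g⁻¹ ∈ Sg M S →
      g • σ {t} = σ {g * t * g⁻¹} + f x₀ (g • x₀) := fun t ht g hg =>
    hσ _ (Set.singleton_subset_iff.2 ht) _ (Set.singleton_subset_iff.2 hg) t rfl g fun b =>
      ⟨by rintro rfl; simp [mul_assoc], fun e => by rw [← Set.mem_singleton_iff.1 e]; simp [mul_assoc]⟩
  have s₂ : ∀ t ∈ Sg M S, ∀ g : G, g * t = t * g → g • σ {t} = σ {t} + f x₀ (g • x₀) :=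
    fun t ht g hg => by simpa [hg] using s₁ t ht g (by simpa [hg] using ht)
  have s₃ : ∀ n ∈ normalizer (Sg M S), n • σ (Sg M S) = σ (Sg M S) + f x₀ (n • x₀) := fun n hn =>
    hσ _ le_rfl _ le_rfl t₀ ht₀ n (mem_set_normalizer_iff''.1 hn)
  obtain ⟨d, hd, hv⟩ := H.exists_corr (v := fun t => σ {t} - σ (Sg M S)) (fun n hn t ht => by
    rw [smul_sub, s₁ t ht n (conj_mem_Sg hn ht), s₃ n hn]; abel) fun t ht t' ht' r e e' => by
    rw [sub_sub_sub_cancel_right, smul_sub, s₂ t ht r e, s₂ t' ht' r e']; abel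
  have hx : t₀ • x₀ = x₀ := smul_base_iff.2 ht₀.2
  obtain ⟨F, hF⟩ := exists_ext (H := (⊤ : Subgroup G)) x₀ (w := σ (Sg M S) + d) fun g _ e => by
    have hg := H.S_le (smul_base_iff.1 e)
    rw [smul_add, s₃ g hg, hd g hg, e, left_eq_add.1 (h₂ t₀ _ _ _ ht₀.1 hx hx hx).symm, add_zero]
  have eq : ∀ (g : G) x, F (g • x) = g • F x := fun g x => by
    obtain ⟨h, rfl⟩ := sj x
    rw [← mul_smul, hF _ trivial, hF _ trivial, mul_smul]
  have key : ∀ t ∈ Sg M S, ∀ y, t • y = y → f x₀ y = F y - F x₀ := fun t ht y hy => by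
    obtain ⟨g, rfl⟩ := sj y
    obtain ⟨h, hh, n, hn, rfl⟩ := H.factor ht (cs ht.1 hy).2
    have e := mem_centralizer_singleton_iff.1 hh
    have hx : t • x₀ = x₀ := smul_base_iff.2 ht.2
    have k₁ := hv t ht h hh
    have k₂ := h₂ t x₀ (h • x₀) _ ht.1 hx (by rw [← mul_smul, ← e, mul_smul, hx]) hy
    rw [mul_smul, h₁ h t _ _ ht.1 hx (smul_smul_base_iff.2 (conj_mem_Sg' hn ht).2)] at k₂
    have k₃ := congrArg (h • ·) (s₃ n hn)
    have k₄ := hF 1 trivial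
    simp only [one_smul, smul_add, smul_sub] at k₁ k₃ k₄
    rw [hF _ trivial, k₄, mul_smul, mul_smul, smul_add, hd n hn, smul_add]
    linear_combination (norm := abel) -k₂ - k₃ + k₁ - s₂ t ht h e
  refine ⟨F, eq, fun t x y ht hx hy => ?_⟩
  obtain ⟨g, rfl⟩ := sj x
  have e : (g⁻¹ * t * g) • g⁻¹ • y = g⁻¹ • y := by simp [mul_smul, hy]
  rw [← smul_inv_smul g y, h₁ g _ _ _ (cs ht hx).1 (smul_base_iff.2 (cs ht hx).2) e,
    key _ (cs ht hx) _ e, eq g, eq g, smul_sub]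

end Hy

end TV

theorem tv' : TVStmt.{u, v} := fun hT hf =>
  ⟨fun _ => TV.pair_Jn hf, fun _ _ => TV.pair_of_normalizer hf, fun hO _ hS =>
    ⟨fun _ => TV.Hy.t2 ⟨hf, hT, hO, hS⟩, fun _ _ hv _ _ => TV.Hy.t3 ⟨hf, hT, hO, hS⟩ hv⟩⟩

theorem tv (_ : NLStmt.{u, v}) : TVStmt.{u, v} := tv'

end Cfsg.Agent.LK
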