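import Cfsg.Agent.Lib.LK.Sec
import Cfsg.Agent.Lib.LK.TV
import Cfsg.Agent.Lib.ZJ.Replace

/-!
# Vanishing of the higher limits of the centre functor
-/

set_option autoImplicit false

namespace Cfsg.Agent.LK

open List Cfsg.Agent.Tr Subgroup

universe u w

variable {G : Type u} [Group G] {p : ℕ} {B B' K K' H P Q R Y : Subgroup G}

/-- The subgroup generated by the `p`-elements of `K`. -/
def pe (p : ℕ) (K : Subgroup G) : Subgroup G := closure {x | x ∈ K ∧ ∃ n, x ^ p ^ n = 1}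

theorem pe_le : pe p K ≤ K := (closure_le _).2 fun _ a => a.1

theorem pe_mono (h : K ≤ K') : pe p K ≤ pe p K' := closure_mono fun _ a => ⟨h a.1, a.2⟩

theorem mem_pe {x : G} (h : x ∈ K) (hP : IsPGroup p P) (hx : x ∈ P) : x ∈ pe p K :=
  subset_closure ⟨h, isPGroup_iff_forall_mem.1 hP x hx⟩

theorem pe_cj (g : G) (K : Subgroup G) : pe p (cj g K) = cj g (pe p K) := by
  rw [pe, pe, cj_closure]
  congr 1
  ext t
  constructor
  · rintro ⟨a, n, b⟩
    exact ⟨g⁻¹ * t * g, ⟨mem_cj.1 a, n, by simpa [b] using conj_pow (a := g⁻¹) (b := t) (i := p ^ n)⟩,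
      by group⟩
  · rintro ⟨s, ⟨a, n, b⟩, rfl⟩
    exact ⟨conj_mem_cj.2 a, n, by simp [b]⟩

theorem exists_of_not_pe_le (h : ¬ pe p K ≤ P) : ∃ x ∈ K, x ∉ P ∧ IsPGroup p (zpowers x) := by
  by_contra! a
  exact h ((closure_le _).2 fun x ⟨b, n, c⟩ => by
    by_contra d
    exact a x b d (isPGroup_zpowers c))

/-- The `p`-part of the centralizer; `P` is `p`-centric iff `cp p P ≤ P`. -/
def cp (p : ℕ) (P : Subgroup G) : Subgroup G := pe p (centralizer (P : Set G))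

theorem cp_anti (h : P ≤ Q) : cp p Q ≤ cp p P := pe_mono (centralizer_le h)

theorem cp_cj (g : G) (P : Subgroup G) : cp p (cj g P) = cj g (cp p P) := by
  rw [cp, centralizer_cj, pe_cj, cp]

theorem up_of_anti {f : Subgroup G → Subgroup G} (h1 : ∀ P Q, P ≤ Q → f Q ≤ f P)
    (h2 : ∀ g P, f (cj g P) = cj g (f P)) : Up H fun P => f P ≤ P :=
  ⟨fun g _ P _ a => by rw [h2]; exact cj_mono g a, fun P Q a _ b => (h1 P Q a).trans (b.trans a)⟩

theorem up_cp : Up H fun P => cp p P ≤ P := up_of_anti (fun _ _ => cp_anti) cp_cj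

theorem conj_eq_of_cent {g b : G} (hg : g ∈ P) (hb : b ∈ centralizer (P : Set G)) :
    b⁻¹ * (g * b * g⁻¹) = 1 := by rw [hb g hg]; group

theorem secS_cp : SecS H (cp p) fun _ => ⊥ :=
  ⟨fun _ _ => bot_le, fun _ _ => cp_anti, fun _ _ _ => le_rfl, fun g _ => cp_cj g,
    fun g _ _ => (cj_bot g).symm, fun _ _ _ hg _ hb => conj_eq_of_cent hg (pe_le hb)⟩

theorem as_bot (h : B ≤ centralizer (B : Set G)) : AS B ⊥ :=
  ⟨bot_le, fun a ha b hb => by rw [h hb a ha]; simp⟩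

/-- Abelian subgroups. -/
abbrev Ab (B : Subgroup G) : Prop := B ≤ centralizer (B : Set G)

theorem Ab.cj (h : Ab B) (g : G) : Ab (cj g B) := by
  rw [Ab, centralizer_cj]; exact cj_mono g h

theorem Ab.mono (h : Ab B) (h' : B' ≤ B) : Ab B' := h'.trans (le_trans h (centralizer_le h'))

theorem Ab.sup (h : Ab B) (h' : Ab B') (e : B' ≤ centralizer (B : Set G)) : Ab (B ⊔ B') :=
  sup_le (le_centralizer_iff.1 (sup_le h e)) (le_centralizer_iff.1 (sup_le (le_centralizer_iff.1 e) h'))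

/-- The maximal order of an abelian subgroup. -/
noncomputable def dA (P : Subgroup G) : ℕ := sSup {n | ∃ B ≤ P, Ab B ∧ Nat.card B = n}

/-- The join of the abelian subgroups of order `d`. -/
def JD (d : ℕ) (P : Subgroup G) : Subgroup G := sSup {B | B ≤ P ∧ Ab B ∧ Nat.card B = d}

theorem JD_le (d : ℕ) (P : Subgroup G) : JD d P ≤ P := sSup_le fun _ a => a.1

theorem JD_mono (d : ℕ) (h : P ≤ Q) : JD d P ≤ JD d Q := sSup_le_sSup fun _ a => ⟨a.1.trans h, a.2⟩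

theorem le_JD {d : ℕ} (h : B ≤ P) (h1 : Ab B) (h2 : Nat.card B = d) : B ≤ JD d P :=
  le_sSup ⟨h, h1, h2⟩

theorem JD_cj (d : ℕ) (g : G) (P : Subgroup G) : JD d (cj g P) = cj g (JD d P) :=
  cj_sSup_of (H := ⊤) (R := fun B => Ab B ∧ Nat.card B = d)
    (fun g _ B a => ⟨a.1.cj g, by rw [card_cj, a.2]⟩) trivial P

variable [Finite G]

theorem le_dA (h : B ≤ P) (h1 : Ab B) : Nat.card B ≤ dA P :=
  le_csSup ⟨Nat.card G, fun _ ⟨B, _, _, e⟩ => e ▸ card_le_card_group B⟩ ⟨B, h, h1, rfl⟩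

theorem exists_dA (P : Subgroup G) : ∃ B ≤ P, Ab B ∧ Nat.card B = dA P :=
  Nat.sSup_mem (s := {n | ∃ B ≤ P, Ab B ∧ Nat.card B = n}) ⟨_, ⊥, bot_le, bot_le, rfl⟩
    ⟨Nat.card G, fun _ ⟨B, _, _, e⟩ => e ▸ card_le_card_group B⟩

theorem dA_mono (h : P ≤ Q) : dA P ≤ dA Q := by
  obtain ⟨B, a, b, c⟩ := exists_dA P
  exact c ▸ le_dA (a.trans h) b

theorem dA_cj (g : G) (P : Subgroup G) : dA (cj g P) = dA P := by
  have : ∀ g P, dA P ≤ dA (cj g P : Subgroup G) := fun g P => by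
    obtain ⟨B, a, b, c⟩ := exists_dA P
    rw [← c, ← card_cj g]; exact le_dA (cj_mono g a) (b.cj g)
  exact le_antisymm (by simpa [cj_inv_cj] using this g⁻¹ (cj g P)) (this g P)

theorem dA_JD (P : Subgroup G) : dA (JD (dA P) P) = dA P := by
  obtain ⟨B, a, b, c⟩ := exists_dA P
  exact le_antisymm (dA_mono (JD_le _ _)) (c ▸ le_dA (le_JD a b rfl) b)

theorem inf_cent_le_JD (P : Subgroup G) :
    P ⊓ centralizer (JD (dA P) P : Set G) ≤ JD (dA P) P := fun x hx => by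
  obtain ⟨B, a, b, c⟩ := exists_dA P
  have h := le_JD a b c
  have e : B = B ⊔ zpowers x := eq_of_le_of_card_ge le_sup_left (c ▸ le_dA
    (sup_le a (zpowers_le.2 hx.1)) (b.sup (le_centralizer_iff_isMulCommutative.2 inferInstance)
      (zpowers_le.2 (centralizer_le h hx.2))))
  exact h (e ▸ mem_sup_right (mem_zpowers x))

section Emb

variable {M : Type*} [AddCommGroup M] [DistribMulAction G M] {ι : G → M} {D : AddSubgroup M}
  {Z : Subgroup G}

omit [Finite G] in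
theorem Emb.card_fix (h : Emb H Z ⊥ ι D) (hB : B ≤ H) :
    Nat.card (D ⊓ fix M B : AddSubgroup M) = Nat.card (Z ⊓ centralizer (B : Set G) : Subgroup G) := by
  have e : ∀ z ∈ Z, ι z ∈ fix M B ↔ z ∈ centralizer (B : Set G) := fun z hz =>
    forall₂_congr fun g hg => by
      rw [h.smul_eq_iff (hB hg) hz, mem_bot, inv_mul_eq_one, eq_mul_inv_iff_mul_eq, eq_comm]
  refine (Nat.card_eq_of_bijective (fun z => ⟨ι z, (h.mem _).2 ⟨z, z.2.1, rfl⟩, (e z z.2.1).2 z.2.2⟩)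
    ⟨fun a b f => Subtype.ext ?_, fun ⟨m, hm⟩ => ?_⟩).symm
  · exact (inv_mul_eq_one.1 ((h.eq_iff a.2.1 b.2.1).1 (congrArg Subtype.val f))).symm
  · obtain ⟨z, hz, rfl⟩ := (h.mem m).1 hm.1
    exact ⟨⟨z, hz, (e z hz).1 hm.2⟩, rfl⟩

theorem Emb.best (h : Emb H Z ⊥ ι D) (hR : R ≤ H) (hZ : Z ≤ R) (hA : Ab Z) (hB : B ≤ R)
    (h1 : Ab B) (h2 : Nat.card B = dA R) : Best D B := fun B' a => by
  rw [h.card_fix (a.trans (hB.trans hR)), h.card_fix (hB.trans hR),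
    ← ZJ.card_sup_mul_card_inf' (inf_le_right.trans (centralizer_le_normalizer _)), h2]
  exact Nat.mul_le_mul (le_dA (sup_le (a.trans hB) (inf_le_left.trans hZ))
    ((h1.mono a).sup (hA.mono inf_le_left) inf_le_right))
    (card_le_of_le (le_inf (inf_le_right.trans inf_le_left) (inf_le_left.trans (a.trans h1))))

end Emb

variable {Ω : Type w} [MulAction G Ω] [Fact p.Prime] {k : ℕ}

theorem mt (hΩ : Om p G Ω) (hk : 3 ≤ k) : VS Ω (⊤ : Subgroup G) k (fun P => cp p P ≤ P)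
    (fun P => UB (cp p P)) fun P => WB (cp p P) ⊥ := by
  obtain ⟨k, rfl⟩ : ∃ j, k = j + 1 := ⟨k - 1, by omega⟩
  have hN : ∀ P : Subgroup G, Nat.card P < Nat.card G + 1 := fun P =>
    Nat.lt_succ_of_le (card_le_card_group P)
  have hκ : ∀ P Q : Subgroup G, dA P < dA Q → dA P * (Nat.card G + 1) + Nat.card (JD (dA P) P) <
      dA Q * (Nat.card G + 1) + Nat.card (JD (dA Q) Q) := fun P Q a => by
    have := hN (JD (dA P) P)
    have := Nat.mul_le_mul_right (Nat.card G + 1) (Nat.succ_le_of_lt a)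
    rw [Nat.succ_mul] at this
    omega
  refine fl hΩ (by omega) up_cp.fam secS_cp.cs
    (fun P => dA P * (Nat.card G + 1) + Nat.card (JD (dA P) P)) (fun P => JD (dA P) P)
    (fun g _ P _ _ _ => by rw [dA_cj, JD_cj, card_cj]; exact ⟨rfl, rfl⟩)
    (fun P Q a _ _ _ _ => ?_) fun P₀ _ b c => ?_
  · rcases (dA_mono a).eq_or_lt with e | e
    · rw [← e]
      exact ⟨Nat.add_le_add_left (card_le_of_le (JD_mono _ a)) _, fun f =>
        eq_of_le_of_card_ge (JD_mono _ a) (Nat.add_left_cancel f).ge⟩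
    · exact ⟨(hκ P Q e).le, fun f => absurd f (hκ P Q e).ne⟩
  obtain ⟨Y, hY⟩ : ∃ Y, Y = JD (dA P₀) P₀ := ⟨_, rfl⟩
  have hd : dA Y = dA P₀ := hY ▸ dA_JD P₀
  have hYp : IsPGroup p Y := hY ▸ b.to_le (JD_le _ _)
  have hJ : JD (dA Y) Y = Y := le_antisymm (JD_le _ _) (by
    rw [hd]; conv_lhs => rw [hY]
    exact sSup_le fun B a => le_JD (hY ▸ le_JD a.1 a.2.1 a.2.2) a.2.1 a.2.2)
  rw [← hY, ← hd]
  have hn : ⊤ ⊓ normalizer (Y : Set G) ≤ normalizer (Y : Set G) := inf_le_right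
  have hQ : Up (⊤ ⊓ normalizer (Y : Set G))
      fun R => Y ≤ R ∧ ∃ B ≤ R, Ab B ∧ dA Y ≤ Nat.card B ∧ ¬ B ≤ Y := (up_le hn).and
    ⟨fun g hg R _ ⟨B, a, b, c, d⟩ => ⟨_, cj_mono g a, b.cj g, by rwa [card_cj], by
      rwa [← cj_eq_iff.2 hg.2, cj_le_cj]⟩, fun _ _ e _ ⟨B, a, b⟩ => ⟨B, a.trans e, b⟩⟩
  have key : ∀ R, (Y ≤ R ∧ ¬ (Y ≤ R ∧ ∃ B ≤ R, Ab B ∧ dA Y ≤ Nat.card B ∧ ¬ B ≤ Y)) ↔
      dA R = dA Y ∧ JD (dA R) R = Y := fun R => by
    constructor
    · rintro ⟨a, e⟩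
      have f : ∀ B ≤ R, Ab B → dA Y ≤ Nat.card B → B ≤ Y := fun B b c d => by
        by_contra g; exact e ⟨a, B, b, c, d, g⟩
      obtain ⟨B, b, c, d⟩ := exists_dA R
      have g : dA R = dA Y := le_antisymm (d ▸ le_dA (f B b c (d ▸ dA_mono a)) c) (dA_mono a)
      exact ⟨g, le_antisymm (sSup_le fun B e => f B e.1 e.2.1 (g ▸ e.2.2.ge))
        (hJ.ge.trans (g ▸ JD_mono _ a))⟩
    · rintro ⟨a, e⟩
      exact ⟨e ▸ JD_le _ _, fun ⟨_, B, b, c, d, f⟩ =>
        f (e ▸ le_JD b c (le_antisymm (le_dA b c) (a ▸ d)))⟩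
  have hF := (up_cp (p := p)).and (up_le hn) |>.fam.diff hQ
  refine ⟨fun R => (cp p R ≤ R ∧ Y ≤ R) ∧
    ¬ (Y ≤ R ∧ ∃ B ≤ R, Ab B ∧ dA Y ≤ Nat.card B ∧ ¬ B ≤ Y), _, _,
    fun R _ _ => ⟨?_, fun _ => ⟨rfl, rfl⟩⟩, ?_⟩
  · dsimp only
    rw [and_assoc, key]
    refine and_congr_right fun _ => and_congr_left fun e => ?_
    rw [e]
    exact ⟨fun f => by rw [f], fun f => Nat.eq_of_mul_eq_mul_right (by omega) (Nat.add_right_cancel f)⟩
  by_cases hc : cp p Y ≤ Y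
  · have hA : Ab (cp p Y) := pe_le.trans (centralizer_le hc)
    obtain ⟨M, _, _, ι, D, hE⟩ := (as_bot hA).emb (H := ⊤ ⊓ normalizer (Y : Set G))
      (le_normalizer_of_cj fun g hg => by rw [← cp_cj, cj_eq_iff.2 hg.2])
      (le_normalizer_of_cj fun g _ => cj_bot g)
    have := hE.finite
    have ctx : Ctx p (⊤ ⊓ normalizer (Y : Set G)) Y D :=
      ⟨hE.inv, hE.tor fun x hx => isPGroup_iff_forall_mem.1 hYp x (hc hx),
        le_inf le_top le_normalizer, hn, hYp⟩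
    have hfix : D ≤ fix M Y := fun m hm g hg => by
      obtain ⟨z, hz, rfl⟩ := (hE.mem m).1 hm
      exact (hE.smul_eq_iff (ctx.le hg) hz).2 (conj_eq_of_cent hg (pe_le hz))
    refine hE.vs hΩ (by omega) hF secS_cp (fun R _ _ e => ⟨cp_anti e.1.2, fun _ _ => Iff.rfl,
      fun x hx f => mem_pe (fun g hg => ?_) hYp (hc hx)⟩)
      ((vs_congr hΩ (by omega) hF (cs_fix hE.inv) fun R _ _ => ⟨fun e =>
        ⟨⟨(cp_anti e.1).trans (hc.trans e.1), e.1⟩, e.2⟩, fun e => ⟨e.1.2, e.2⟩⟩).2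
        (vl_diff hΩ ctx hQ (fun _ _ e => e.1) (pk (b2h (tv nl)) hΩ (by omega)
          ⟨ctx, this, hfix, hQ, fun _ _ e => e.1, fun R e _ ⟨f, B, g, h, i, j⟩ =>
            ⟨le_Jb f (best_of_fix hfix), ?_⟩⟩)))
    · have := f g hg
      rwa [mem_bot, inv_mul_eq_one, eq_mul_inv_iff_mul_eq, eq_comm] at this
    · rcases (le_dA g h).eq_or_lt with l | l
      · exact ⟨B, le_Jb g (hE.best e (hc.trans f) hA g h l), h, i, j⟩
      · obtain ⟨B', g', h', l'⟩ := exists_dA R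
        exact ⟨B', le_Jb g' (hE.best e (hc.trans f) hA g' h' l'), h', by omega,
          fun m => absurd (le_dA m h') (by omega)⟩
  · refine sec_singles hΩ (by omega) hF secS_cp fun P a b c => ?_
    have e := ((key P).1 ⟨c.1.2, c.2⟩).2
    have f : P ⊓ centralizer (Y : Set G) ≤ Y := e ▸ inf_cent_le_JD P
    have g : P ≤ normalizer (centralizer (Y : Set G) : Set G) := le_normalizer_of_cj fun x hx => by
      rw [← centralizer_cj, cj_eq_iff.2 (a hx).2]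
    refine ⟨as_bot (pe_le.trans (centralizer_le c.1.1)),
      fun x hx => isPGroup_iff_forall_mem.1 b x (c.1.1 hx),
      (centralizer (Y : Set G) ⊔ P) ⊓ normalizer (P : Set G),
      inf_le_inf_right _ (sup_le (le_inf le_top (centralizer_le_normalizer _)) a),
      le_normalizer_of_cj fun x hx => ?_, le_inf le_sup_right le_normalizer, fun h => ?_,
      fun x hx => ?_⟩
    · rw [cj_inf, cj_sup, ← normalizer_cj, ← centralizer_cj, cj_eq_iff.2 hx.2, cj_eq_iff.2 hx.1.2]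
    · obtain ⟨x, x1, x2, x3⟩ := exists_of_not_pe_le hc
      exact x2 (f (((sylowIn_of_normalizer le_sup_right h).inf_of_le_normalizer le_sup_left
        g).le_of_le_normalizer' x3 (zpowers_le.2 x1) (zpowers_le.2 (centralizer_le_normalizer _
          (centralizer_le f x1))) (mem_zpowers x)))
    · obtain ⟨n, h⟩ := exists_pow_mem_of_sup b g hx.1
      refine ⟨n, fun y hy => ?_⟩
      rw [← h y (f ⟨c.1.1 hy, centralizer_le c.1.2 (pe_le hy)⟩)]; simp

end Cfsg.Agent.LK
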