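import Cfsg.Agent.Lib.LK.Defs
import Cfsg.Agent.Lib.Fit.Frattini

/-!
Row NL of docs/LK_PLAN.md: norm-trivial subgroups and the norm lemma.
-/

set_option autoImplicit false
set_option linter.style.haveILetI false

namespace Cfsg.Agent.LK

open Cfsg Subgroup Cfsg.Agent.Tr MulAction

universe u v

namespace NL

variable {G M X : Type*} [Group G] [Finite G] [AddCommGroup M] [DistribMulAction G M]
  [MulAction G X] {p : ℕ} {D : AddSubgroup M} {B H N : Subgroup G}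

/-- The orbit as a finset. -/
noncomputable def orb (H : Subgroup G) (x : X) : Finset X :=
  (Set.finite_range fun h : H => h • x).toFinset

theorem mem_orb {x y : X} : y ∈ orb H x ↔ ∃ h ∈ H, h • x = y := by
  rw [orb, Set.Finite.mem_toFinset]
  exact ⟨fun ⟨h, e⟩ => ⟨h, h.2, e⟩, fun ⟨h, hh, e⟩ => ⟨⟨h, hh⟩, e⟩⟩

theorem self_mem_orb (H : Subgroup G) (x : X) : x ∈ orb H x := mem_orb.2 ⟨1, one_mem _, one_smul _ _⟩

theorem smul_mem_orb {x y : X} {h : G} (hh : h ∈ H) (hy : y ∈ orb H x) : h • y ∈ orb H x := by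
  obtain ⟨g, hg, rfl⟩ := mem_orb.1 hy
  exact mem_orb.2 ⟨h * g, mul_mem hh hg, mul_smul _ _ _⟩

theorem finsum_orb (H : Subgroup G) (w : M) : ∑ᶠ x ∈ orbit H w, x = ∑ x ∈ orb H w, x :=
  finsum_mem_eq_finite_toFinset_sum _ (Set.finite_range fun h : H => h • w)

theorem nt_iff : NT p D B ↔ ∀ w ∈ D, p • w = 0 → w ∉ fix M B → ∑ x ∈ orb B w, x = 0 := by
  simp only [NT, finsum_orb]

theorem card_orb (H : Subgroup G) (x : X) : (orb H x).card = (stabilizer G x).relIndex H := by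
  rw [orb, ← Set.ncard_eq_toFinset_card _ (Set.finite_range fun h : H => h • x)]
  exact (index_stabilizer H x).symm

omit [Finite G] [DistribMulAction G M] in
theorem sum_smul {s : Finset X} (hs : ∀ b ∈ B, ∀ x ∈ s, b • x ∈ s) {b : G} (hb : b ∈ B)
    (f : X → M) : ∑ x ∈ s, f (b • x) = ∑ x ∈ s, f x :=
  Finset.sum_nbij' (b • ·) (b⁻¹ • ·) (hs b hb) (hs _ (inv_mem hb)) (fun _ _ => inv_smul_smul _ _)
    (fun _ _ => smul_inv_smul _ _) fun _ _ => rfl

omit [Finite G] in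
theorem sum_mem_fix {s : Finset X} (hs : ∀ b ∈ B, ∀ x ∈ s, b • x ∈ s) {f : X → M}
    (hf : ∀ b ∈ B, ∀ x ∈ s, f (b • x) = b • f x) : ∑ x ∈ s, f x ∈ fix M B := fun b hb => by
  rw [Finset.smul_sum, ← sum_smul hs hb f]
  exact Finset.sum_congr rfl fun x hx => (hf b hb x hx).symm

open Classical in
theorem card_modEq [Fact p.Prime] (hB : IsPGroup p B) {s : Finset X}
    (hs : ∀ b ∈ B, ∀ x ∈ s, b • x ∈ s) :
    s.card ≡ (s.filter fun x => ∀ b ∈ B, b • x = x).card [MOD p] := by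
  let U : SubMulAction B X := ⟨s, fun b _ hx => hs b b.2 _ hx⟩
  haveI : Finite U := s.finite_toSet
  have := hB.card_modEq_card_fixedPoints U
  rwa [show Nat.card U = s.card from Nat.card_eq_card_finite_toFinset s.finite_toSet |>.trans
    (by simp), show Nat.card (fixedPoints B U) = _ from Nat.subtype_card
      ((s.filter fun x => ∀ b ∈ B, b • x = x).subtype (· ∈ U)) fun x => by
        simp only [Finset.mem_subtype, Finset.mem_filter, mem_fixedPoints]
        exact ⟨fun h b => Subtype.ext (h.2 b b.2),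
          fun h => ⟨x.2, fun b hb => congrArg Subtype.val (h ⟨b, hb⟩)⟩⟩,
    Finset.card_subtype, Finset.filter_true_of_mem (p := (· ∈ U)) fun x hx =>
      (Finset.mem_filter.1 hx).1] at this

theorem dvd_card [Fact p.Prime] (hB : IsPGroup p B) {s : Finset X}
    (hs : ∀ b ∈ B, ∀ x ∈ s, b • x ∈ s) (hf : ∀ x ∈ s, ∃ b ∈ B, b • x ≠ x) : p ∣ s.card := by
  classical
  have := card_modEq hB hs
  rw [Finset.filter_false_of_mem fun x hx h => by
    obtain ⟨b, hb, e⟩ := hf x hx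
    exact e (h b hb)] at this
  exact (Nat.modEq_zero_iff_dvd).1 this

/-- Equivariant sums over fixed-point-free sets vanish. -/
theorem nt_sum [Fact p.Prime] (hB : IsPGroup p B) (hN : NT p D B) {s : Finset X}
    (hs : ∀ b ∈ B, ∀ x ∈ s, b • x ∈ s) (hf : ∀ x ∈ s, ∃ b ∈ B, b • x ≠ x) {f : X → M}
    (hD : ∀ x ∈ s, f x ∈ D) (hp : ∀ x ∈ s, p • f x = 0)
    (he : ∀ b ∈ B, ∀ x ∈ s, f (b • x) = b • f x) : ∑ x ∈ s, f x = 0 := by
  classical
  refine Finset.sum_cancels_of_partition_cancels (Setoid.comap f (orbitRel B M)) fun x hx => ?_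
  have hc : ∀ v ∈ orb B (f x), (s.filter fun a => f a = v).card =
      (s.filter fun a => f a = f x).card := fun v hv => by
    obtain ⟨b, hb, rfl⟩ := mem_orb.1 hv
    refine Finset.card_nbij' (b⁻¹ • ·) (b • ·) (fun a ha => ?_) (fun a ha => ?_)
      (fun _ _ => smul_inv_smul _ _) fun _ _ => inv_smul_smul _ _
    · simp only [Finset.coe_filter, Set.mem_ofPred_eq] at ha ⊢
      exact ⟨hs _ (inv_mem hb) a ha.1, by rw [he _ (inv_mem hb) a ha.1, ha.2, inv_smul_smul]⟩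
    · simp only [Finset.coe_filter, Set.mem_ofPred_eq] at ha ⊢
      exact ⟨hs _ hb a ha.1, by rw [he _ hb a ha.1, ha.2]⟩
  have hm : ∀ a, Setoid.comap f (orbitRel B M) a x ↔ f a ∈ orb B (f x) := fun a => by
    rw [orb, Set.Finite.mem_toFinset]; rfl
  rw [← Finset.sum_fiberwise_of_maps_to (t := orb B (f x)) (g := f)
    (fun a ha => (hm a).1 (Finset.mem_filter.1 ha).2)]
  rw [Finset.sum_congr rfl (g := fun v => (s.filter fun a => f a = f x).card • v) fun v hv => by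
    rw [Finset.sum_congr rfl (g := fun _ => v) fun a ha => (Finset.mem_filter.1 ha).2,
      Finset.sum_const, ← hc v hv, Finset.filter_filter]
    congr 2
    exact Finset.filter_congr fun a _ => ⟨fun h => h.2, fun h => ⟨(hm a).2 (h ▸ hv), h⟩⟩,
    ← Finset.smul_sum]
  by_cases h : f x ∈ fix M B
  · obtain ⟨k, hk⟩ := dvd_card hB (s := s.filter fun a => f a = f x) (fun b hb a ha => by
      rw [Finset.mem_filter] at ha ⊢
      exact ⟨hs b hb a ha.1, by rw [he b hb a ha.1, ha.2, h b hb]⟩)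
      fun a ha => hf a (Finset.mem_filter.1 ha).1
    rw [hk, mul_comm, mul_smul, Finset.smul_sum, Finset.sum_eq_zero, smul_zero]
    intro v hv
    obtain ⟨b, -, rfl⟩ := mem_orb.1 hv
    rw [smul_comm, hp x hx, smul_zero]
  · rw [nt_iff.1 hN _ (hD x hx) (hp x hx) h, smul_zero]

omit [Finite G] in
theorem Jn_le (P : Subgroup G) : Jn p D P ≤ P := sSup_le fun _ h => h.1

omit [Finite G] in
theorem le_Jn {P : Subgroup G} (h : B ≤ P) (hN : NT p D B) : B ≤ Jn p D P := le_sSup ⟨h, hN⟩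

theorem nt_Jn [Fact p.Prime] {P : Subgroup G} (hP : IsPGroup p P) (hD : Inv P D) :
    NT p D (Jn p D P) := nt_iff.2 fun w hw hp hf => by
  set J := Jn p D P
  have hJ : IsPGroup p J := hP.to_le (Jn_le P)
  obtain ⟨J₀, hJ₀, hle⟩ := Fit.exists_coatom_ge (H := (stabilizer G w).subgroupOf J) fun h =>
    hf fun g hg => subgroupOf_eq_top.1 h hg
  haveI := Fit.normal_of_isCoatom hJ hJ₀
  obtain ⟨B, ⟨hBP, hB⟩, hn⟩ : ∃ B, (B ≤ P ∧ NT p D B) ∧ ¬ B ≤ J₀.map J.subtype := by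
    by_contra h
    push Not at h
    have : J ≤ J₀.map J.subtype := sSup_le h
    exact hJ₀.1 (eq_top_iff.2 fun x _ => by
      obtain ⟨y, hy, e⟩ := this x.2
      rwa [← Subtype.ext e])
  have hBJ : B ≤ J := le_Jn hBP hB
  refine nt_sum (hP.to_le hBP) hB (fun b hb x hx => smul_mem_orb (hBJ hb) hx) (fun x hx => ?_)
    (f := id) (fun x hx => ?_) (fun x hx => ?_) fun _ _ _ _ => rfl
  · obtain ⟨g, hg, rfl⟩ := mem_orb.1 hx
    by_contra h
    push Not at h
    refine hn fun b hb => ⟨⟨b, hBJ hb⟩, ?_, rfl⟩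
    have : (⟨g, hg⟩ : J)⁻¹ * ⟨b, hBJ hb⟩ * ⟨g, hg⟩ ∈ J₀ := hle (by
      simp [mem_subgroupOf, mul_smul, h b hb])
    have := ‹J₀.Normal›.conj_mem _ this ⟨g, hg⟩
    rwa [← mul_assoc, ← mul_assoc, mul_inv_cancel, one_mul, mul_inv_cancel_right] at this
  · obtain ⟨g, hg, rfl⟩ := mem_orb.1 hx
    exact hD g (Jn_le P hg) w hw
  · obtain ⟨g, -, rfl⟩ := mem_orb.1 hx
    rw [id, smul_comm, hp, smul_zero]

theorem nt_cj {g : G} (hg : ∀ m ∈ D, g⁻¹ • m ∈ D) (hB : NT p D B) : NT p D (cj g B) :=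
  nt_iff.2 fun w hw hp hf => by
    have := nt_iff.1 hB (g⁻¹ • w) (hg w hw) (by rw [smul_comm, hp, smul_zero]) fun h =>
      hf fun b hb => by simpa [mul_smul] using h _ (mem_cj.1 hb)
    rw [← smul_zero g, ← this, Finset.smul_sum]
    refine Finset.sum_nbij' (g⁻¹ • ·) (g • ·) (fun x hx => ?_) (fun x hx => ?_)
      (fun _ _ => smul_inv_smul _ _) (fun _ _ => inv_smul_smul _ _) fun _ _ => by simp
    · obtain ⟨b, hb, rfl⟩ := mem_orb.1 hx
      exact mem_orb.2 ⟨_, mem_cj.1 hb, by simp [mul_smul]⟩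
    · obtain ⟨b, hb, rfl⟩ := mem_orb.1 hx
      exact mem_orb.2 ⟨_, conj_mem_cj.2 hb, by simp [mul_smul]⟩

/-- Weak closure of `Jn`. -/
theorem cj_Jn_le {g : G} (hg : ∀ m ∈ D, g⁻¹ • m ∈ D) {P Q : Subgroup G}
    (h : cj g (Jn p D P) ≤ Q) : cj g (Jn p D P) ≤ Jn p D Q :=
  cj_le_iff_le_cj_inv.2 (sSup_le fun _ hB => cj_le_iff_le_cj_inv.1
    (le_Jn ((cj_mono g (le_Jn hB.1 hB.2)).trans h) (nt_cj hg hB.2)))

omit [Finite G] in
theorem exists_ext (x₀ : X) {w : M} (hw : ∀ h ∈ H, h • x₀ = x₀ → h • w = w) :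
    ∃ F : X → M, ∀ h ∈ H, F (h • x₀) = h • w := by
  classical
  refine ⟨fun x => if h : ∃ g ∈ H, g • x₀ = x then h.choose • w else 0, fun h hh => ?_⟩
  have e : ∃ g ∈ H, g • x₀ = h • x₀ := ⟨h, hh, rfl⟩
  beta_reduce
  rw [dif_pos e, ← inv_smul_eq_iff, ← mul_smul]
  exact hw _ (mul_mem (inv_mem hh) e.choose_spec.1) (by rw [mul_smul, e.choose_spec.2, inv_smul_smul])

theorem ext_equiv {x₀ : X} {w : M} {F : X → M} (hF : ∀ h ∈ H, F (h • x₀) = h • w) :
    ∀ b ∈ H, ∀ x ∈ orb H x₀, F (b • x) = b • F x := fun b hb x hx => by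
  obtain ⟨g, hg, rfl⟩ := mem_orb.1 hx
  rw [← mul_smul, hF _ (mul_mem hb hg), hF g hg, mul_smul]

/-- If the sum over the other points of the orbit vanishes, the vector is its own norm. -/
theorem fix_of_sum [DecidableEq X] {x₀ : X} {w : M} {F : X → M} (hF : ∀ h ∈ H, F (h • x₀) = h • w)
    (h : ∑ x ∈ (orb H x₀).erase x₀, F x = 0) : w ∈ fix M H := by
  have := sum_mem_fix (fun b hb x hx => smul_mem_orb hb hx) (ext_equiv hF)
  rwa [← Finset.add_sum_erase _ _ (self_mem_orb H x₀), h, add_zero, ← one_smul G x₀,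
    hF 1 (one_mem _), one_smul] at this

omit [Finite G] in
theorem smul_base_iff {g : G} : g • ((1 : G) : G ⧸ N) = ((1 : G) : G ⧸ N) ↔ g ∈ N := by
  rw [Quotient.smul_coe, QuotientGroup.eq]; simp

omit [Finite G] in
theorem smul_smul_base_iff {a g : G} :
    a • g • ((1 : G) : G ⧸ N) = g • ((1 : G) : G ⧸ N) ↔ g⁻¹ * a * g ∈ N := by
  rw [← smul_base_iff, mul_smul, mul_smul, inv_smul_eq_iff]

/-- Lifting fixed points from `Ω₁(D)` to `D`. -/
theorem lift [hp : Fact p.Prime] (hD : Inv H D) (hT : Tor p D) (hN : N ≤ H)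
    (hi : ¬ p ∣ N.relIndex H) (h : ∀ w ∈ D, p • w = 0 → w ∈ fix M N → w ∈ fix M H) :
    D ⊓ fix M N ≤ fix M H := by
  obtain ⟨k, hk⟩ := hT
  suffices ∀ k, ∀ w ∈ D, p ^ k • w = 0 → w ∈ fix M N → w ∈ fix M H from
    fun w hw => this k w hw.1 (hk w hw.1) hw.2
  intro k
  induction k with
  | zero => exact fun w _ h0 _ => by rw [pow_zero, one_smul] at h0; rw [h0]; exact zero_mem _
  | succ k ih =>
  intro w hw h0 hf
  have hpw : p • w ∈ fix M H :=
    ih _ (nsmul_mem hw p) (by rw [smul_smul, ← pow_succ, h0]) (nsmul_mem hf p)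
  obtain ⟨F, hF⟩ := exists_ext (H := H) ((1 : G) : G ⧸ N) (w := w)
    fun g _ e => hf g (smul_base_iff.1 e)
  have hn := sum_mem_fix (fun b hb x hx => smul_mem_orb hb hx) (ext_equiv hF)
  have hc : (orb H ((1 : G) : G ⧸ N)).card = N.relIndex H := by
    rw [card_orb]; congr 1; ext g; exact smul_base_iff
  have hu := h (∑ x ∈ orb H ((1 : G) : G ⧸ N), F x - N.relIndex H • w)
    (sub_mem (sum_mem fun x hx => by
      obtain ⟨g, hg, rfl⟩ := mem_orb.1 hx
      rw [hF g hg]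
      exact hD g hg w hw) (nsmul_mem hw _)) (by
      rw [smul_sub, Finset.smul_sum, Finset.sum_congr rfl (g := fun _ => p • w) fun x hx => by
        obtain ⟨g, hg, rfl⟩ := mem_orb.1 hx
        rw [hF g hg, smul_comm, hpw g hg], Finset.sum_const, hc, smul_comm, sub_self])
    (sub_mem (fix_anti hN hn) (nsmul_mem hf _))
  have hm : N.relIndex H • w ∈ fix M H := by simpa using sub_mem hn hu
  intro g hg
  have e₁ : N.relIndex H • (g • w - w) = 0 := by rw [smul_sub, smul_comm, hm g hg, sub_self]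
  have e₂ : p ^ (k + 1) • (g • w - w) = 0 := by rw [smul_sub, smul_comm, h0, smul_zero, sub_self]
  have := Nat.dvd_gcd (addOrderOf_dvd_of_nsmul_eq_zero e₂) (addOrderOf_dvd_of_nsmul_eq_zero e₁)
  rw [((Nat.Prime.coprime_iff_not_dvd hp.out).2 hi).pow_left, Nat.dvd_one,
    AddMonoid.addOrderOf_eq_one_iff] at this
  exact sub_eq_zero.1 this

theorem norm_lemma [Fact p.Prime] {T : Subgroup G} (hD : Inv H D) (hT : Tor p D)
    (hS : SylowIn p T H) : D ⊓ fix M (H ⊓ normalizer (Jn p D T : Set G)) ≤ fix M H := by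
  classical
  set J := Jn p D T
  set N := H ⊓ normalizer (J : Set G)
  have hJT : J ≤ T := Jn_le T
  have hJ : IsPGroup p J := hS.isPGroup.to_le hJT
  have wc : ∀ g ∈ H, cj g J ≤ T → g ∈ N := fun g hg h =>
    ⟨hg, mem_normalizer_of_cj_le (cj_Jn_le (hD _ (inv_mem hg)) h)⟩
  have hTN : T ≤ N := fun g hg => wc g (hS.le hg) (cj_le_of_mem hJT hg)
  refine lift hD hT inf_le_left (hS.not_dvd_relIndex_of_le hTN inf_le_left) fun w hw hp hf => ?_
  obtain ⟨F, hF⟩ := exists_ext (H := H) ((1 : G) : G ⧸ N) (w := w)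
    fun g _ e => hf g (smul_base_iff.1 e)
  refine fix_of_sum hF (nt_sum hJ (nt_Jn hS.isPGroup fun g hg => hD g (hS.le hg))
    (fun b hb x hx => ?_) (fun x hx => ?_) (fun x hx => ?_) (fun x hx => ?_)
    fun b hb x hx => ext_equiv hF b (hS.le (hJT hb)) x (Finset.mem_of_mem_erase hx))
  · rw [Finset.mem_erase] at hx ⊢
    refine ⟨fun e => hx.1 ?_, smul_mem_orb (hS.le (hJT hb)) hx.2⟩
    rw [← inv_smul_smul b x, e, smul_base_iff.2 (inv_mem (hTN (hJT hb)))]
  · obtain ⟨h1, hx⟩ := Finset.mem_erase.1 hx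
    obtain ⟨g, hg, rfl⟩ := mem_orb.1 hx
    by_contra h
    push Not at h
    obtain ⟨n, hn, e⟩ := (hS.mono hTN inf_le_left).exists_cj_le (isPGroup_cj g⁻¹ hJ)
      (cj_le_iff.2 fun a ha => by simpa using smul_smul_base_iff.1 (h a ha))
    have := wc _ (mul_mem hn.1 (inv_mem hg)) (by rwa [cj_mul])
    exact h1 (smul_base_iff.2 (by simpa using mul_mem (inv_mem this) hn))
  · obtain ⟨g, hg, rfl⟩ := mem_orb.1 (Finset.mem_of_mem_erase hx)
    rw [hF g hg]
    exact hD g hg w hw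
  · obtain ⟨g, hg, rfl⟩ := mem_orb.1 (Finset.mem_of_mem_erase hx)
    rw [hF g hg, smul_comm, hp, smul_zero]

end NL

theorem nl : NLStmt.{u, v} := fun _ _ _ =>
  ⟨fun _ hP hD => NL.nt_Jn hP hD, fun _ _ hD hT hS => NL.norm_lemma hD hT hS⟩

end Cfsg.Agent.LK
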