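import Cfsg.Agent.Lib.LK.Lam
import Cfsg.Agent.Lib.LK.NL
import Cfsg.Agent.Lib.LK.Best

/-!
# Vanishing on saturated families
-/

set_option autoImplicit false

namespace Cfsg.Agent.LK

open List Cfsg.Agent.Tr Subgroup

universe u v w

section

variable {G Ω M : Type*} [Group G] [MulAction G Ω] [AddCommGroup M] [DistribMulAction G M]
variable {H K Y P Q T C B : Subgroup G} {p k : ℕ} {D D₁ : AddSubgroup M} {𝒬 𝒜 : Subgroup G → Prop}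

theorem nt_mono (h : NT p D B) (h₁ : D₁ ≤ D) : NT p D₁ B := fun w hw => h w (h₁ hw)

theorem nt_of_fix (h : D ≤ fix M B) : NT p D B := fun _ hw _ a => absurd (h hw) a

theorem Jn_mono (h : P ≤ Q) (h₁ : D₁ ≤ D) : Jn p D P ≤ Jn p D₁ Q :=
  sSup_le_sSup fun _ a => ⟨a.1.trans h, nt_mono a.2 h₁⟩

theorem Jb_le (D : AddSubgroup M) (P : Subgroup G) : Jb D P ≤ P := sSup_le fun _ a => a.1

theorem le_Jb (h : B ≤ P) (hB : Best D B) : B ≤ Jb D P := le_sSup ⟨h, hB⟩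

theorem Jb_mono (h : P ≤ Q) : Jb D P ≤ Jb D Q := sSup_le_sSup fun _ a => ⟨a.1.trans h, a.2⟩

theorem Jb_le_Jb (h : Jb D P ≤ Q) : Jb D P ≤ Jb D Q :=
  sSup_le fun _ a => le_Jb ((le_Jb a.1 a.2).trans h) a.2

theorem card_fix_cj (h : Inv H D) {g : G} (hg : g ∈ H) (B : Subgroup G) :
    Nat.card (D ⊓ fix M (cj g B) : AddSubgroup M) = Nat.card (D ⊓ fix M B : AddSubgroup M) :=
  Nat.card_congr ⟨fun m => ⟨g⁻¹ • m.1, h _ (H.inv_mem hg) _ m.2.1, by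
      simpa [cj_inv_cj] using smul_mem_fix (g := g⁻¹) m.2.2⟩,
    fun m => ⟨g • m.1, h _ hg _ m.2.1, smul_mem_fix m.2.2⟩,
    fun m => Subtype.ext (smul_inv_smul _ _), fun m => Subtype.ext (inv_smul_smul _ _)⟩

theorem best_cj (h : Inv H D) {g : G} (hg : g ∈ H) (hB : Best D B) : Best D (cj g B) :=
  fun B' a => by
    have := hB (cj g⁻¹ B') (le_cj_iff_cj_inv_le.1 a)
    rwa [card_cj, card_fix_cj h (H.inv_mem hg), ← card_cj g B, ← card_fix_cj h hg B] at this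

theorem cj_sSup_of {R : Subgroup G → Prop} (hR : ∀ g ∈ H, ∀ B, R B → R (cj g B)) {g : G}
    (hg : g ∈ H) (P : Subgroup G) :
    sSup {B | B ≤ cj g P ∧ R B} = cj g (sSup {B | B ≤ P ∧ R B}) := by
  have : ∀ g ∈ H, ∀ P, cj g (sSup {B | B ≤ P ∧ R B}) ≤ sSup {B | B ≤ cj g P ∧ R B} :=
    fun g hg P => cj_le_iff_le_cj_inv.2 (sSup_le fun B a =>
      cj_le_iff_le_cj_inv.1 (le_sSup ⟨cj_mono g a.1, hR g hg B a.2⟩))
  refine le_antisymm (le_cj_iff_cj_inv_le.2 ?_) (this g hg P)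
  simpa [cj_inv_cj] using this g⁻¹ (H.inv_mem hg) (cj g P)

theorem Jb_cj (h : Inv H D) {g : G} (hg : g ∈ H) (P : Subgroup G) :
    Jb D (cj g P) = cj g (Jb D P) := cj_sSup_of (fun _ a _ => best_cj h a) hg P

variable [Finite G]

theorem Jn_cj (h : Inv H D) {g : G} (hg : g ∈ H) (P : Subgroup G) :
    Jn p D (cj g P) = cj g (Jn p D P) :=
  cj_sSup_of (fun _ a _ => NL.nt_cj (h _ (H.inv_mem a))) hg P

theorem best_of_fix [Finite D] (h : D ≤ fix M B) : Best D B := fun B' a => by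
  rw [inf_eq_left.2 h, inf_eq_left.2 (h.trans (fix_anti a))]
  exact Nat.mul_le_mul_right _ (card_le_of_le a)

theorem Jb_mono' [Finite D] (h₁ : D₁ ≤ D) (P : Subgroup G) : Jb D P ≤ Jb D₁ P :=
  sSup_le_sSup fun _ a => ⟨a.1, Bst.best_mono h₁ a.2⟩

omit [Finite G] in
theorem up_lt_lab {lab : Subgroup G → Subgroup G} (hn : H ≤ normalizer (Y : Set G))
    (h1 : ∀ g ∈ H, ∀ P, lab (cj g P) = cj g (lab P)) (h2 : ∀ P Q, P ≤ Q → lab P ≤ lab Q) :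
    Up H fun P => Y < lab P :=
  ⟨fun g hg P _ a => by rw [h1 g hg, ← cj_eq_iff.2 (hn hg)]; exact cj_lt_cj.2 a,
    fun P Q a _ b => b.trans_le (h2 P Q a)⟩

variable [Fact p.Prime]

theorem nsat (hΩ : Om p G Ω) (hi : Inv H D) (ht : Tor p D) (hQ : Up H 𝒬)
    (hs : ∀ P ≤ H, IsPGroup p P → 𝒬 P → 𝒬 (Jn p D P)) : VL Ω H 2 𝒬 D := by
  refine fl_mono hΩ le_rfl hQ.fam (cs_fix hi) (Jn p D) (fun g hg P _ _ _ => Jn_cj hi hg P)
    (fun _ _ a _ _ _ _ => Jn_mono a le_rfl) fun P₀ a b c => ?_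
  have hY : Jn p D P₀ ≤ H := (NL.Jn_le _).trans a
  have hp : IsPGroup p (Jn p D P₀) := b.to_le (NL.Jn_le _)
  have hc : Ctx p (H ⊓ normalizer (Jn p D P₀ : Set G)) (Jn p D P₀) D :=
    ⟨hi.mono inf_le_left, ht, le_inf hY le_normalizer, inf_le_right, hp⟩
  have hU : Up (H ⊓ normalizer (Jn p D P₀ : Set G)) fun P => Jn p D P₀ < Jn p D P :=
    up_lt_lab inf_le_right (fun g hg => Jn_cj hi hg.1) fun _ _ a => Jn_mono a le_rfl
  obtain ⟨T, hT⟩ := exists_sylowIn (p := p) (H ⊓ normalizer (Jn p D P₀ : Set G))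
  refine ⟨_, _, _, fun R d _ => ⟨⟨fun e => ?_, fun e => ⟨e.2 ▸ NL.Jn_le _, e.2.not_gt⟩⟩,
    fun _ => ⟨rfl, rfl⟩⟩, vl_diff hΩ hc hU (fun P _ e => e.le.trans (NL.Jn_le _))
      (v1J hΩ hT hU (NL.Jn_le T) (fun e => e.trans_le (NL.le_Jn le_rfl
        (NL.nt_Jn hT.isPGroup (hc.inv.mono hT.le)))) (NL.norm_lemma hc.inv ht hT))⟩
  exact ⟨hQ.up _ _ e.1 (d.trans inf_le_left) (hs _ a b c),
    ((NL.le_Jn e.1 (NL.nt_Jn b (hi.mono a))).eq_or_lt.resolve_right e.2).symm⟩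

theorem jb_step (hΩ : Om p G Ω) (hk : 1 ≤ k) (hi : Inv H D) (ht : Tor p D) (hA : Fam H 𝒜)
    (hs : ∀ P ≤ H, ∀ R ≤ H, IsPGroup p P → IsPGroup p R → 𝒜 P → Jb D P = Jb D R → 𝒜 R)
    (hv : ∀ P ≤ H, IsPGroup p P → 𝒜 P → VL Ω (H ⊓ normalizer (Jb D P : Set G)) k
      (fun R => Jb D P < Jb D R) (D ⊓ fix M (Jb D P))) : VL Ω H (k + 1) 𝒜 D := by
  refine fl_mono hΩ (by omega) hA (cs_fix hi) (Jb D) (fun g hg P _ _ _ => Jb_cj hi hg P)
    (fun _ _ a _ _ _ _ => Jb_mono a) fun P₀ a b c => ?_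
  have hc : Ctx p (H ⊓ normalizer (Jb D P₀ : Set G)) (Jb D P₀) (D ⊓ fix M (Jb D P₀)) :=
    ⟨hi.inf_fix _, ht.mono inf_le_left, le_inf ((Jb_le _ _).trans a) le_normalizer, inf_le_right,
      b.to_le (Jb_le _ _)⟩
  refine ⟨_, _, _, fun R d f => ⟨⟨fun e => ?_, fun e => ⟨e.2 ▸ Jb_le _ _, e.2.not_gt⟩⟩,
    fun e => ⟨?_, rfl⟩⟩, vl_diff hΩ hc
      (up_lt_lab inf_le_right (fun g hg => Jb_cj hi hg.1) fun _ _ a => Jb_mono a)
      (fun P _ e => e.le.trans (Jb_le _ _)) (hv P₀ a b c)⟩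
  · have := (Jb_le_Jb e.1).eq_or_lt.resolve_right e.2
    exact ⟨hs _ a _ (d.trans inf_le_left) b f c this, this.symm⟩
  · rw [inf_assoc, inf_eq_right.2 (fix_anti e.1)]

theorem lam_singles (hΩ : Om p G Ω) (hk : 2 ≤ k) (hi : Inv H D) (ht : Tor p D) (hA : Fam H 𝒜)
    (hC : C ≤ H) (hn : H ≤ normalizer (C : Set G)) (hP : PA p C D)
    (hs : ∀ Q ≤ H, 𝒜 Q → ¬ SylowIn p (Q ⊓ C) C) : VL Ω H k 𝒜 D := by
  refine fl_mono hΩ hk hA (cs_fix hi) (fun Q => Q)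
    (fun _ _ _ _ _ _ => rfl) (fun _ _ a _ _ _ _ => a) fun Q a b c => ⟨(· = Q), _, _,
      fun R _ _ => ⟨⟨fun e => ⟨e ▸ c, e⟩, fun e => e.2⟩, fun _ => ⟨rfl, rfl⟩⟩, ?_⟩
  have hQ : Q ≤ normalizer (C : Set G) := a.trans hn
  refine lam' hΩ hk (C := (C ⊔ Q) ⊓ normalizer (Q : Set G))
    ⟨hi.mono inf_le_left, ht, le_inf a le_normalizer, inf_le_right, b⟩
    (inf_le_inf_right _ (sup_le hC a)) (le_normalizer_of_cj fun g hg => ?_)
    (le_inf le_sup_right le_normalizer) (fun e => hs Q a c ?_) fun x hx => hP.sup b hQ x hx.1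
  · rw [cj_inf, cj_sup, ← normalizer_cj, cj_eq_iff.2 hg.2, cj_eq_iff.2 (hn hg.1)]
  · exact (sylowIn_of_normalizer le_sup_right e).inf_of_le_normalizer le_sup_left hQ

/-- `𝒬` is a family over `Y` that is saturated for best offenders on `D`. -/
structure Sat (p : ℕ) (H Y : Subgroup G) (D : AddSubgroup M) (𝒬 : Subgroup G → Prop) : Prop where
  ctx : Ctx p H Y D
  fin : Finite D
  fix : D ≤ fix M Y
  up : Up H 𝒬
  le : ∀ P ≤ H, 𝒬 P → Y ≤ P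
  sat : ∀ P ≤ H, IsPGroup p P → 𝒬 P → 𝒬 (Jb D P)

omit [Fact p.Prime] in
theorem sat_jb [Finite D] (hi : Inv H D) (ht : Tor p D) (a : P ≤ H) (b : IsPGroup p P) :
    Sat p (H ⊓ normalizer (Jb D P : Set G)) (Jb D P) (D ⊓ fix M (Jb D P))
      fun R => Jb D P < Jb D R :=
  ⟨⟨hi.inf_fix _, ht.mono inf_le_left, le_inf ((Jb_le _ _).trans a) le_normalizer, inf_le_right,
      b.to_le (Jb_le _ _)⟩, Finite.of_injective _ (AddSubgroup.inclusion_injective inf_le_left),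
    inf_le_right, up_lt_lab inf_le_right (fun g hg => Jb_cj hi hg.1) fun _ _ a => Jb_mono a,
    fun _ _ e => e.le.trans (Jb_le _ _), fun R _ _ e => e.trans_le (Jb_le_Jb (Jb_mono' inf_le_left R))⟩

end

/-- The base case for `p = 2`. -/
def B2HStmt : Prop :=
  ∀ {G : Type u} {Ω : Type w} {M : Type v} [Group G] [MulAction G Ω] [AddCommGroup M]
    [DistribMulAction G M] [Finite G] {H Y : Subgroup G} {D : AddSubgroup M} [Finite D]
    {𝒩 : Subgroup G → Prop}, Om 2 G Ω → Ctx 2 H Y D → D ≤ fix M Y →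
    (∀ O ≤ H, H ≤ normalizer (O : Set G) → Y ≤ O → PA 2 O D → SylowIn 2 Y O) →
    Up H 𝒩 → (∀ P ≤ H, 𝒩 P → Y ≤ P) → (∀ P ≤ H, IsPGroup 2 P → 𝒩 P → 𝒩 (Jn 2 D P)) →
    VL Ω H 2 (fun P => 𝒩 P ∨ (Y ≤ P ∧ ∃ t ∈ P, Tv D t)) D

variable {G : Type u} {Ω : Type w} {M : Type v} [Group G] [MulAction G Ω] [AddCommGroup M]
  [DistribMulAction G M] [Finite G] {p : ℕ} [Fact p.Prime]

theorem pbase (hB : B2HStmt.{u, v, w}) (hΩ : Om p G Ω) {H Y : Subgroup G} {D : AddSubgroup M}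
    [Finite D] (h : Ctx p H Y D) (hY : D ≤ fix M Y)
    (hO : ∀ O ≤ H, H ≤ normalizer (O : Set G) → Y ≤ O → PA p O D → SylowIn p Y O) :
    VL Ω H 2 (fun R => Y < Jb D R) D := by
  have hU : Up H fun R => Y < Jb D R :=
    up_lt_lab h.nrm (fun g hg => Jb_cj h.inv hg) fun _ _ a => Jb_mono a
  have h1 : ∀ P B, Y ≤ P → B ≤ P → ¬ B ≤ Y → Best D B → Y < Jb D P := fun P B a b c d =>
    lt_of_le_of_ne (le_Jb a (best_of_fix hY)) fun e => c (e ▸ le_Jb b d)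
  have h2 : ∀ P ≤ H, IsPGroup p P → Y < Jb D P → ∃ B ≤ P, ¬ B ≤ Y ∧ Best D B ∧
      (NT p D B ∨ (p = 2 ∧ ∃ t ∈ B, Tv D t)) := fun P a b c => by
    obtain ⟨B, d, e⟩ : ∃ B, (B ≤ P ∧ Best D B) ∧ ¬ B ≤ Y := by
      by_contra! f
      exact c.not_ge (sSup_le f)
    obtain ⟨B₁, f, g⟩ := (best p D).1 B Y (b.to_le d.1) (h.inv.mono (d.1.trans a)) h.tor hY d.2 e
    exact ⟨B₁, f.trans d.1, g⟩
  by_cases hp : p = 2
  · subst hp
    have hN : Up H fun P => Y ≤ P ∧ ∃ B ≤ P, ¬ B ≤ Y ∧ Best D B ∧ NT 2 D B :=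
      (up_le h.nrm).and ⟨fun g hg P _ ⟨B, a, b, c, d⟩ => ⟨cj g B, cj_mono g a, by
        rwa [← cj_eq_iff.2 (h.nrm hg), cj_le_cj], best_cj h.inv hg c,
        NL.nt_cj (h.inv _ (H.inv_mem hg)) d⟩, fun _ _ a _ ⟨B, b, c⟩ => ⟨B, b.trans a, c⟩⟩
    refine (vs_congr hΩ le_rfl hU.fam (cs_fix h.inv) fun P a b => ⟨?_, fun c => ?_⟩).2
      (hB hΩ h hY hO hN (fun _ _ a => a.1) fun P _ _ ⟨c, B, d, e⟩ =>
        ⟨NL.le_Jn c (nt_of_fix hY), B, NL.le_Jn d e.2.2, e⟩)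
    · rintro (⟨c, B, d, e, f, -⟩ | ⟨c, t, d, e⟩)
      · exact h1 P B c d e f
      · refine h1 P _ c (zpowers_le.2 d) (fun f => ?_) (Bst.best_tv e)
        obtain ⟨⟨x, hx, g⟩, -⟩ := e
        exact g (hY hx t (f (mem_zpowers t)))
    · obtain ⟨B, d, e, f, g | ⟨-, t, g, i⟩⟩ := h2 P a b c
      · exact Or.inl ⟨c.le.trans (Jb_le _ _), B, d, e, f, g⟩
      · exact Or.inr ⟨c.le.trans (Jb_le _ _), t, d g, i⟩
  · refine nsat hΩ h.inv h.tor hU fun P a b c => ?_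
    obtain ⟨B, d, e, f, g | g⟩ := h2 P a b c
    · exact h1 _ B (NL.le_Jn (c.le.trans (Jb_le _ _)) (nt_of_fix hY)) (NL.le_Jn d g) e f
    · exact absurd g.1 hp

theorem p2 (hB : B2HStmt.{u, v, w}) (hΩ : Om p G Ω) (n : ℕ) : ∀ {H Y : Subgroup G}
    {D : AddSubgroup M} {𝒬 : Subgroup G → Prop}, Nat.card G - Nat.card Y = n → Sat p H Y D 𝒬 →
    VL Ω H 2 𝒬 D := by
  induction n using Nat.strong_induction_on with
  | _ n ih =>
  intro H Y D 𝒬 hn h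
  have := h.fin
  have hlt : ∀ Y₁ : Subgroup G, Y < Y₁ → Nat.card G - Nat.card Y₁ < n := fun Y₁ a => by
    have h1 : Nat.card Y < Nat.card Y₁ := lt_of_le_of_ne (card_le_of_le a.le)
      fun e => a.ne (eq_of_le_of_card_ge a.le e.ge)
    have h2 : Nat.card Y₁ ≤ Nat.card G := card_le_card_group _
    omega
  by_cases hO : ∀ O ≤ H, H ≤ normalizer (O : Set G) → Y ≤ O → PA p O D → SylowIn p Y O
  · refine vl_up hΩ h.ctx h.up h.le (by omega) (jb_step hΩ (by omega) h.ctx.inv h.ctx.tor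
      ((up_le h.ctx.nrm).fam.diff h.up) (fun P a R b c d e f => ⟨?_, fun g => e.2 ?_⟩)
      fun P a b c => ?_)
    · exact (le_Jb e.1 (best_of_fix h.fix)).trans (f.le.trans (Jb_le _ _))
    · exact h.up.up _ _ (Jb_le _ _) a (f ▸ h.sat R b d g)
    · rcases (le_Jb c.1 (best_of_fix h.fix)).eq_or_lt with e | e
      · rw [← e, inf_eq_left.2 h.ctx.nrm, inf_eq_left.2 h.fix]
        exact pbase hB hΩ h.ctx h.fix hO
      · exact ih _ (hlt _ e) rfl (sat_jb h.ctx.inv h.ctx.tor a b)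
  · push Not at hO
    obtain ⟨O, hOH, hn, hY, hA, hs⟩ := hO
    have hU : Up H fun Q => 𝒬 Q ∧ ∃ R ≤ Q, SylowIn p R O := h.up.and
      ⟨fun g hg Q _ ⟨R, a, b⟩ => ⟨_, cj_mono g a, b.cj_of_mem_normalizer (hn hg)⟩,
        fun _ _ a _ ⟨R, b, c⟩ => ⟨R, b.trans a, c⟩⟩
    refine vsplit1 h.up.fam (cs_fix h.ctx.inv) hU (fun _ _ a => a.1)
      (lam_singles hΩ le_rfl h.ctx.inv h.ctx.tor (h.up.fam.diff hU) hOH hn hA
        fun Q _ a b => a.2 ⟨a.1, _, inf_le_left, b⟩) ?_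
    refine fl_mono hΩ le_rfl hU.fam (cs_fix h.ctx.inv) (· ⊓ O)
      (fun g hg Q _ _ _ => by rw [cj_inf, cj_eq_iff.2 (hn hg)])
      (fun _ _ a _ _ _ _ => inf_le_inf_right _ a) fun Q a b ⟨c0, R, c, d⟩ => ?_
    have e : Q ⊓ O = R := d.eq_of_le (b.to_le inf_le_left) (le_inf c d.le) inf_le_right
    simp only [e]
    have hYR : Y < R := lt_of_le_of_ne (e ▸ le_inf (h.le Q a c0) hY) fun f => hs (f ▸ d)
    have : Finite (D ⊓ fix M R : AddSubgroup M) :=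
      Finite.of_injective _ (AddSubgroup.inclusion_injective inf_le_left)
    refine ⟨fun R' => 𝒬 R' ∧ R ≤ R', _, _, fun R' _ f => ⟨⟨fun g => ⟨⟨g.1, R, g.2, d⟩,
      d.eq_of_le (f.to_le inf_le_left) (le_inf g.2 d.le) inf_le_right⟩,
      fun g => ⟨g.1.1, g.2 ▸ inf_le_left⟩⟩, fun g => ⟨?_, rfl⟩⟩,
      ih _ (hlt R hYR) rfl ⟨h.ctx.sub' (c.trans a) d.isPGroup, this, inf_le_right,
        (h.up.mono inf_le_left).and (up_le inf_le_right), fun _ _ g => g.2, fun P f g i =>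
        ⟨h.up.up _ _ (Jb_mono' inf_le_left P) ((Jb_le _ _).trans (f.trans inf_le_left))
          (h.sat P (f.trans inf_le_left) g i.1), le_Jb i.2 (best_of_fix inf_le_right)⟩⟩⟩
    rw [inf_assoc, inf_eq_right.2 (fix_anti g.2)]

theorem pk (hB : B2HStmt.{u, v, w}) (hΩ : Om p G Ω) {k : ℕ} (hk : 2 ≤ k) : ∀ {H Y : Subgroup G}
    {D : AddSubgroup M} {𝒬 : Subgroup G → Prop}, Sat p H Y D 𝒬 → VL Ω H k 𝒬 D := by
  induction k, hk using Nat.le_induction with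
  | base => exact p2 hB hΩ _ rfl
  | succ k hk ih =>
    intro H Y D 𝒬 h
    have := h.fin
    exact jb_step hΩ (by omega) h.ctx.inv h.ctx.tor h.up.fam
      (fun P a R b c _ e f => h.up.up _ _ (Jb_le _ _) b (f ▸ h.sat P a c e))
      fun P a b _ => ih (sat_jb h.ctx.inv h.ctx.tor a b)

end Cfsg.Agent.LK
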