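import Cfsg.Agent.Lib.LK.B2

/-!
# Passing to the faithful quotient
-/

set_option autoImplicit false

namespace Cfsg.Agent.LK

open List Cfsg.Agent.Tr Subgroup

universe u v w

section

variable {G Ω M : Type*} [Group G] [MulAction G Ω] [AddCommGroup M] [DistribMulAction G M]
variable {H Y P T : Subgroup G} {p : ℕ} {D : AddSubgroup M} {𝒬 : Subgroup G → Prop}
variable {G' : Type*} [Group G']

/-- The image of `P ≤ H` under `π : H →* G'`. -/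
def im (π : H →* G') (P : Subgroup G) : Subgroup G' := (P.subgroupOf H).map π

/-- The preimage of `P'` under `π : H →* G'`. -/
def pre (π : H →* G') (P' : Subgroup G') : Subgroup G := (P'.comap π).map H.subtype

theorem pre_le (π : H →* G') (P' : Subgroup G') : pre π P' ≤ H := map_subtype_le _

theorem mem_pre {π : H →* G'} {P' : Subgroup G'} {a : H} : (a : G) ∈ pre π P' ↔ π a ∈ P' :=
  ⟨fun ⟨_, hb, e⟩ => Subtype.ext e ▸ hb, fun h => ⟨a, h, rfl⟩⟩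

theorem mem_im {π : H →* G'} {a : H} (h : (a : G) ∈ P) : π a ∈ im π P := ⟨a, h, rfl⟩

theorem im_le {π : H →* G'} {P' : Subgroup G'} : im π P ≤ P' ↔ ∀ a : H, (a : G) ∈ P → π a ∈ P' :=
  ⟨fun h _ ha => h (mem_im ha), fun h _ ⟨a, ha, e⟩ => e ▸ h a ha⟩

theorem le_pre {π : H →* G'} {P' : Subgroup G'} (hP : P ≤ H) : P ≤ pre π P' ↔ im π P ≤ P' :=
  ⟨fun h => im_le.2 fun _ ha => mem_pre.1 (h ha),
    fun h a ha => (mem_pre (a := ⟨a, hP ha⟩)).2 (im_le.1 h _ ha)⟩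

theorem im_cj (π : H →* G') (g : H) (P : Subgroup G) : im π (cj (g : G) P) = cj (π g) (im π P) := by
  have : ∀ (g : H) (P : Subgroup G), im π (cj (g : G) P) ≤ cj (π g) (im π P) := fun g P =>
    im_le.2 fun a ha => by
      rw [mem_cj, ← map_inv, ← map_mul, ← map_mul]; exact mem_im (mem_cj.1 ha)
  refine le_antisymm (this g P) (cj_le_iff_le_cj_inv.2 ?_)
  simpa [cj_inv_cj] using this g⁻¹ (cj (g : G) P)

variable [Finite G] [Fact p.Prime]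

theorem sylowIn_im {π : H →* G'} (hπ : Function.Surjective π) (hT : SylowIn p T H) :
    SylowIn p (im π T) ⊤ := by
  have := hT.subgroupOf_top.map π
  rwa [Subgroup.map_top_of_surjective _ hπ] at this

theorem v2_ext (hΩ : Om p G Ω) (hT : SylowIn p T H) (hQ : Up H 𝒬) (hi : Inv H D) {x₀ : Ω}
    (h₀ : st H [x₀] = T) {F : Ω → Ω → M} (h1 : ∀ x y, 𝒬 (st H [x, y]) → F x y ∈ D)
    (h2 : ∀ g ∈ H, ∀ x y, 𝒬 (st H [x, y]) → F (g • x) (g • y) = g • F x y)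
    (h3 : ∀ x y z, 𝒬 (st H [x, y, z]) → F x y + F y z = F x z) {v : M} (hv : v ∈ D)
    (h4 : ∀ g ∈ H, ∀ h ∈ H, 𝒬 (st H [g • x₀, h • x₀]) → F (g • x₀) (h • x₀) = h • v - g • v) :
    ∃ s : Ω → M, (∀ x, 𝒬 (st H [x]) → s x ∈ D) ∧
      (∀ g ∈ H, ∀ x, 𝒬 (st H [x]) → s (g • x) = g • s x) ∧
      ∀ x y, 𝒬 (st H [x, y]) → F x y = s y - s x := by
  have hx : ∀ x : Ω, ∃ g ∈ H, ∀ a ∈ st H [x], a • g • x₀ = g • x₀ := fun x => by
    obtain ⟨g, hg, e⟩ := hT.exists_cj_le (hΩ.st (H := H) (l := [x]) le_rfl) (st_le _)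
    refine ⟨g⁻¹, H.inv_mem hg, fun a ha => ?_⟩
    have := cj_le_iff_le_cj_inv.1 e ha
    rw [← h₀, ← st_sl (H.inv_mem hg)] at this
    exact this.2 _ (by simp [sl])
  choose γ hγ e using hx
  have q : ∀ (x : Ω) (l : List Ω), x ∈ l → 𝒬 (st H l) → 𝒬 (st H (γ x • x₀ :: l)) := fun x l a b =>
    hQ.up (st H l) _ (fun c hc => ⟨hc.1, forall_mem_cons.2
      ⟨e x c (st_subset (by simpa using a) hc), hc.2⟩⟩) (st_le _) b
  have E0 : ∀ x, ∀ g ∈ H, 𝒬 (st H [g • x₀, x]) →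
      γ x • v + F (γ x • x₀) x = g • v + F (g • x₀) x := fun x g hg a => by
    have b := q x _ (by simp) a
    rw [← h3 _ _ _ b, h4 _ (hγ x) g hg (hQ.sub b)]; abel
  refine ⟨fun x => γ x • v + F (γ x • x₀) x,
    fun x a => D.add_mem (hi _ (hγ x) v hv) (h1 _ _ (q x _ (by simp) a)), fun g hg x a => ?_,
    fun x y a => ?_⟩
  · have b := q x _ (by simp) a
    have c := invS_of (Ω := Ω) hQ.inv g hg _ b
    dsimp only
    rw [E0 (g • x) _ (H.mul_mem hg (hγ x)) (by rw [mul_smul]; exact c), mul_smul, mul_smul,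
      h2 g hg _ _ b, smul_add]
  · have b := q x _ (by simp) a
    dsimp only
    rw [E0 y _ (hγ x) (hQ.sub b), ← h3 _ _ _ b]; abel

theorem q_lem [Finite G'] [DistribMulAction G' D] {π : H →* G'} (hπ : Function.Surjective π)
    (hs : ∀ (h : H) (d : D), ((π h • d : D) : M) = (h : G) • (d : M))
    (hk : ∀ h : H, (h : G) ∈ cen G D → π h = 1) (hΩ : Om p G Ω) (hc : Ctx p H Y D)
    (hC : SylowIn p Y (H ⊓ cen G D)) (hT : SylowIn p T H) (hQ : Up H 𝒬)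
    (hY : ∀ P ≤ H, 𝒬 P → Y ≤ P)
    (hv : V2 (G' ⧸ im π T) ⊤ (fun P' => ∃ P ≤ H, IsPGroup p P ∧ 𝒬 P ∧ im π P ≤ P')
      (⊤ : AddSubgroup D)) : V2 Ω H 𝒬 D := by
  classical
  obtain ⟨x₀, h₀⟩ := hΩ.exists_st hT
  have hΩ' := om_quot (sylowIn_im hπ hT)
  have hk' : ∀ h : H, π h = 1 → (h : G) ∈ cen G D := fun h e d hd => by
    rw [← hs h ⟨d, hd⟩, e, one_smul]
  let Rel : Ω → G' ⧸ im π T → Prop := fun x x' => ∃ g : H, x = (g : G) • x₀ ∧ x' = (π g : G')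
  have R1 : ∀ x x' (h : H), Rel x x' → Rel ((h : G) • x) (π h • x') := by
    rintro _ _ h ⟨g, rfl, rfl⟩
    exact ⟨h * g, by rw [coe_mul, mul_smul], by rw [map_mul]; rfl⟩
  have R2 : ∀ x x₁ x', Rel x x' → Rel x₁ x' → ∃ c ∈ H ⊓ cen G D, x₁ = c • x := by
    rintro _ _ _ ⟨g, rfl, rfl⟩ ⟨g₁, rfl, e⟩
    obtain ⟨t, ht, e⟩ := QuotientGroup.eq.1 e
    have : (t⁻¹ : H) ∈ (st H [x₀]).subgroupOf H := h₀ ▸ inv_mem ht
    refine ⟨(g₁ * t⁻¹ * g⁻¹ : H), ⟨Subtype.prop _, hk' _ (by simp [e])⟩, ?_⟩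
    have e2 : (t : G)⁻¹ • x₀ = x₀ := this.2 x₀ (by simp)
    simp [mul_smul, e2]
  have sT : ∀ g : H, st H [(g : G) • x₀] = cj (g : G) T := fun g => h₀ ▸ st_sl g.2 [x₀]
  have R4 : ∀ x x' (a : H), Rel x x' → (a : G) • x = x → π a • x' = x' := by
    rintro _ _ a ⟨g, rfl, rfl⟩ e
    rw [smul_mk_iff, ← im_cj, ← sT]
    exact mem_im ⟨a.2, by simpa using e⟩
  have R3 : ∀ P ≤ H, IsPGroup p P → ∀ x', im π P ≤ st ⊤ [x'] →
      ∃ x, Rel x x' ∧ ∀ a ∈ P, a • x = x := fun P a b x' c => by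
    obtain ⟨g', rfl⟩ := QuotientGroup.mk_surjective x'
    obtain ⟨g, rfl⟩ := hπ g'
    have hS : SylowIn p (cj (g : G) T) (pre π (st ⊤ [((π g : G') : G' ⧸ im π T)])) :=
      (hT.cj_of_mem g.2).mono ((le_pre (cj_le_of_mem hT.le g.2)).2 fun z hz =>
        ⟨trivial, by simpa only [mem_singleton, forall_eq, smul_mk_iff, im_cj] using hz⟩) (pre_le _ _)
    obtain ⟨y, hy, e⟩ := hS.exists_cj_le b ((le_pre a).2 c)
    lift y to H using pre_le _ _ hy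
    refine ⟨((y⁻¹ * g : H) : G) • x₀, ⟨_, rfl, ?_⟩, fun z hz => ?_⟩
    · have := (inv_mem (mem_pre.1 hy)).2 _ (mem_singleton_self _)
      rw [map_mul, map_inv]; exact this.symm
    · have : z ∈ st H [((y⁻¹ * g : H) : G) • x₀] := by
        rw [sT, coe_mul, cj_mul]; exact cj_le_iff_le_cj_inv.1 e hz
      exact this.2 _ (by simp)
  intro F h1 h2 h3
  have hfx : ∀ x y, 𝒬 (st H [x, y]) → ∀ a ∈ st H [x, y], a • F x y = F x y := fun x y b a ha => by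
    rw [← h2 a ha.1 x y b, ha.2 x (by simp), ha.2 y (by simp)]
  have Z : ∀ x x₁ x', Rel x x' → Rel x₁ x' → 𝒬 (st H [x, x₁]) → F x x₁ = 0 := by
    intro x x₁ x' a b q
    obtain ⟨c, hc', rfl⟩ := R2 x x₁ x' a b
    have n1 : ∀ u ∈ st H [x, c • x], c⁻¹ * u * c ∈ st H [x, c • x] := fun u hu => by
      have r1 : c⁻¹ * u * c ∈ st H [x] := ⟨H.mul_mem (H.mul_mem (H.inv_mem hc'.1) hu.1) hc'.1, by
        simp [mul_smul, hu.2 (c • x) (by simp)]⟩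
      have r2 : u ∈ st H [x] := st_subset (by simp) hu
      have r3 : st H [x] ⊓ (H ⊓ cen G D) = Y := hC.eq_of_le ((hΩ.st le_rfl).to_le inf_le_left)
        (le_inf (hY _ (st_le _) (hQ.sub q)) hC.le) inf_le_right
      have r4 : u⁻¹ * (c⁻¹ * u * c) ∈ Y := r3 ▸ ⟨(st H [x]).mul_mem ((st H [x]).inv_mem r2) r1,
        ((st H [x]).mul_mem ((st H [x]).inv_mem r2) r1).1,
        by simpa [mul_assoc] using
          (cen G D).mul_mem (hc.inv.conj_mem_cen (H.inv_mem hu.1) ((cen G D).inv_mem hc'.2)) hc'.2⟩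
      simpa using mul_mem hu (hY _ (st_le _) q r4)
    have n2 : ∀ j : ℕ, ∀ u ∈ st H [x, c • x], u • c ^ j • x = c ^ j • x := fun j => by
      induction j with
      | zero => intro u hu; simpa using hu.2 x (by simp)
      | succ j ih =>
        intro u hu
        have := ih _ (n1 u hu)
        rwa [mul_smul, mul_smul, inv_smul_eq_iff, ← mul_smul c, ← pow_succ'] at this
    have n3 : ∀ j : ℕ, 𝒬 (st H [x, c • x, c ^ j • x]) := fun j => hQ.up (st H [x, c • x]) _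
      (fun u hu => ⟨hu.1, by simpa [n2 j u hu] using hu.2⟩) (st_le _) q
    have n4 : ∀ j : ℕ, F x (c ^ j • x) = j • F x (c • x) := fun j => by
      induction j with
      | zero => simpa using h3 x x x (hQ.sub q)
      | succ j ih =>
        rw [← h3 _ _ _ (n3 (j + 1)), pow_succ', mul_smul, h2 c hc'.1 x (c ^ j • x) (hQ.sub (n3 j)),
          hc'.2 _ (h1 _ _ (hQ.sub (n3 j))), ih, succ_nsmul']
    have : (Y.subgroupOf (H ⊓ cen G D)).Normal :=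
      (normal_subgroupOf_iff_le_normalizer hC.le).2 (inf_le_left.trans hc.nrm)
    have n5 : c ^ Y.relIndex (H ⊓ cen G D) ∈ Y :=
      (Y.subgroupOf (H ⊓ cen G D)).pow_index_mem ⟨c, hc'⟩
    obtain ⟨m', hm⟩ := hc.tor.exists_inv hC.not_dvd
    rw [← hm _ (h1 _ _ q), ← n4, (hY _ (st_le _) q n5).2 x (by simp)]
    simpa using congrArg (m' • ·) (n4 0)
  have W0 : ∀ x x₁ y y₁ x' y', Rel x x' → Rel x₁ x' → Rel y y' → Rel y₁ y' →
      𝒬 (st H [x, x₁, y, y₁]) → F x y = F x₁ y₁ := fun x x₁ y y₁ x' y' a b c d q => by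
    rw [← h3 x x₁ y (hQ.sub q), ← h3 x₁ y y₁ (hQ.sub q), Z _ _ _ a b (hQ.sub q),
      Z _ _ _ c d (hQ.sub q), zero_add, add_zero]
  have hle : ∀ x y x' y', Rel x x' → Rel y y' → im π (st H [x, y]) ≤ st ⊤ [x', y'] :=
    fun x y x' y' a b => im_le.2 fun u hu => ⟨trivial, by
      simp [R4 _ _ u a (hu.2 x (by simp)), R4 _ _ u b (hu.2 y (by simp))]⟩
  have W : ∀ x x₁ y y₁ x' y', Rel x x' → Rel x₁ x' → Rel y y' → Rel y₁ y' →
      𝒬 (st H [x, y]) → 𝒬 (st H [x₁, y₁]) → F x y = F x₁ y₁ := by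
    intro x x₁ y y₁ x' y' a a₁ b b₁ q q₁
    obtain ⟨R, hR, e⟩ := exists_sylowIn_ge (hΩ.st (l := [x, y]) (by simp))
      ((le_pre (st_le _)).2 (hle _ _ _ _ a b))
    obtain ⟨g, hg, e₁⟩ := hR.exists_cj_le (hΩ.st (l := [x₁, y₁]) (by simp))
      ((le_pre (st_le _)).2 (hle _ _ _ _ a₁ b₁))
    have hRH := hR.le.trans (pre_le _ _)
    have hR' := (le_pre hRH).1 hR.le
    obtain ⟨z, z1, z2⟩ := R3 R hRH hR.isPGroup x' (hR'.trans (st_subset (by simp)))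
    obtain ⟨w, w1, w2⟩ := R3 R hRH hR.isPGroup y' (hR'.trans (st_subset (by simp)))
    have q4 : ∀ x y, st H [x, y] ≤ R → 𝒬 (st H [x, y]) → 𝒬 (st H [x, z, y, w]) := fun x y c d =>
      hQ.up (st H [x, y]) _ (fun u hu => ⟨hu.1, by simpa [z2 u (c hu), w2 u (c hu)] using hu.2⟩)
        (st_le _) d
    lift g to H using pre_le _ _ hg
    have g1 := (mem_pre.1 hg).2
    have c1 := R1 _ _ g a₁
    have c2 := R1 _ _ g b₁
    rw [g1 x' (by simp)] at c1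
    rw [g1 y' (by simp)] at c2
    have c3 := W0 _ _ _ _ _ _ c1 z1 c2 w1 (q4 _ _ ((st_sl g.2 [x₁, y₁]).le.trans e₁)
      (invS_of (Ω := Ω) hQ.inv g g.2 _ q₁))
    have hA : PA p (pre π (st ⊤ [x', y'])) D := fun u hu => by
      lift u to H using pre_le _ _ hu
      obtain ⟨n, e⟩ := isPGroup_iff_forall_mem.1 (hΩ'.st (H := ⊤) (l := [x', y']) (by simp)) _
        (mem_pre.1 hu)
      exact ⟨n, hk' (u ^ p ^ n) (by rw [map_pow, e])⟩
    obtain ⟨a₀, ha₀, b₀, hb₀, e₂⟩ := hA.exists_mul (hc.inv.mono (pre_le _ _)) hR (inv_mem hg)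
    have q5 : 𝒬 (st H [z, w]) := hQ.sub (q4 _ _ e q)
    rw [h2 g g.2 _ _ q₁, ← eq_inv_smul_iff, e₂, mul_smul,
      hfx z w q5 b₀ ⟨hRH hb₀, by simp [z2 _ hb₀, w2 _ hb₀]⟩, ha₀ _ (h1 _ _ q5)] at c3
    rw [c3, W0 _ _ _ _ _ _ a z1 b w1 (q4 _ _ e q)]
  obtain ⟨F', hF⟩ : ∃ F' : G' ⧸ im π T → G' ⧸ im π T → D, ∀ x y x' y', Rel x x' → Rel y y' →
      𝒬 (st H [x, y]) → (F' x' y' : M) = F x y := by
    have : ∀ x' y', ∃ d : D, ∀ x y, Rel x x' → Rel y y' → 𝒬 (st H [x, y]) → (d : M) = F x y :=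
      fun x' y' => by
        by_cases h : ∃ x y, Rel x x' ∧ Rel y y' ∧ 𝒬 (st H [x, y])
        · obtain ⟨x, y, a, b, c⟩ := h
          exact ⟨⟨F x y, h1 x y c⟩, fun x₁ y₁ a₁ b₁ c₁ => W _ _ _ _ _ _ a a₁ b b₁ c c₁⟩
        · exact ⟨0, fun x y a b c => absurd ⟨x, y, a, b, c⟩ h⟩
    choose F' hF using this
    exact ⟨F', fun x y x' y' => hF x' y' x y⟩
  obtain ⟨s, -, e1, e2⟩ := hv F' (fun _ _ _ => trivial) (fun g' _ x' y' ⟨P, a, b, c, d⟩ => by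
      obtain ⟨g, rfl⟩ := hπ g'
      obtain ⟨x, x1, x2⟩ := R3 P a b x' (d.trans (st_subset (by simp)))
      obtain ⟨y, y1, y2⟩ := R3 P a b y' (d.trans (st_subset (by simp)))
      have q : 𝒬 (st H [x, y]) := hQ.up _ _ (le_st.2 ⟨a, by simpa using ⟨x2, y2⟩⟩) (st_le _) c
      refine Subtype.ext ?_
      rw [hs, hF x y x' y' x1 y1 q, hF _ _ _ _ (R1 _ _ g x1) (R1 _ _ g y1)
        (invS_of (Ω := Ω) hQ.inv g g.2 _ q), h2 g g.2 x y q])
    fun x' y' z' ⟨P, a, b, c, d⟩ => by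
      obtain ⟨x, x1, x2⟩ := R3 P a b x' (d.trans (st_subset (by simp)))
      obtain ⟨y, y1, y2⟩ := R3 P a b y' (d.trans (st_subset (by simp)))
      obtain ⟨z, z1, z2⟩ := R3 P a b z' (d.trans (st_subset (by simp)))
      have q : 𝒬 (st H [x, y, z]) :=
        hQ.up _ _ (le_st.2 ⟨a, by simpa using ⟨x2, y2, z2⟩⟩) (st_le _) c
      refine Subtype.ext ?_
      rw [AddSubgroup.coe_add, hF _ _ _ _ x1 y1 (hQ.sub q), hF _ _ _ _ y1 z1 (hQ.sub q),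
        hF _ _ _ _ x1 z1 (hQ.sub q), h3 x y z q]
  refine v2_ext hΩ hT hQ hc.inv h₀ h1 h2 h3 (s ((1 : G') : G' ⧸ im π T)).2 fun g hg h hh q => ?_
  lift g to H using hg
  lift h to H using hh
  have qT : 𝒬 T := (inv_iff hQ.inv g.2 hT.le).1 (sT g ▸ hQ.sub q)
  have e3 : ∀ g : H, (s ((π g : G') : G' ⧸ im π T) : M) = (g : G) • s ((1 : G') : G' ⧸ im π T) :=
    fun g => by
      rw [← hs, ← e1 (π g) trivial _ ⟨T, hT.le, hT.isPGroup, qT, fun z hz =>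
        ⟨trivial, by simpa only [mem_singleton, forall_eq, smul_mk_iff, cj_one] using hz⟩⟩,
        MulAction.Quotient.smul_mk, smul_eq_mul, mul_one]
  rw [← hF _ _ _ _ ⟨g, rfl, rfl⟩ ⟨h, rfl, rfl⟩ q, e2 _ _ ⟨_, st_le _, hΩ.st (by simp), q,
    hle _ _ _ _ ⟨g, rfl, rfl⟩ ⟨h, rfl, rfl⟩⟩, AddSubgroup.coe_sub, e3, e3]

omit [Finite G] [Fact p.Prime] in
theorem tv_iff [DistribMulAction G' D] {a : G} {a' : G'}
    (hs : ∀ d : D, ((a' • d : D) : M) = a • (d : M)) : Tv (⊤ : AddSubgroup D) a' ↔ Tv D a := by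
  constructor
  · rintro ⟨⟨d, -, e⟩, c, hc⟩
    refine ⟨⟨d, d.2, fun f => e (Subtype.ext ((hs d).trans f))⟩, c, fun x hx => ?_⟩
    rw [← hs ⟨x, hx⟩]
    exact (hc ⟨x, hx⟩ trivial).imp (congrArg Subtype.val) (congrArg Subtype.val)
  · rintro ⟨⟨d, hd, e⟩, c, hc⟩
    have : c ∈ D := by
      have f := (hc d hd).resolve_left e
      rw [← hs ⟨d, hd⟩] at f
      exact (D.add_mem_cancel_left hd).1 (f ▸ Subtype.prop _)
    exact ⟨⟨⟨d, hd⟩, trivial, fun f => e (by rw [← hs ⟨d, hd⟩, f])⟩, ⟨c, this⟩, fun x _ =>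
      (hc x x.2).imp (fun f => Subtype.ext ((hs x).trans f)) fun f => Subtype.ext ((hs x).trans f)⟩

omit [Fact p.Prime] in
theorem nt_im [Finite G'] [DistribMulAction G' D] {π : H →* G'}
    (hs : ∀ (h : H) (d : D), ((π h • d : D) : M) = (h : G) • (d : M)) (hP : P ≤ H)
    (h : NT p D P) : NT p (⊤ : AddSubgroup D) (im π P) := by
  rw [NL.nt_iff] at h ⊢
  intro w _ h1 h2
  refine Subtype.ext ?_
  rw [AddSubgroup.val_finsetSum, ZeroMemClass.coe_zero, ← h w w.2 (congrArg Subtype.val h1)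
    fun e => h2 fun _ ⟨a, ha, f⟩ => f ▸ Subtype.ext ((hs a w).trans (e a ha))]
  refine Finset.sum_bij (fun x _ => (x : M)) (fun x hx => ?_) (fun _ _ _ _ e => Subtype.ext e)
    (fun y hy => ?_) fun _ _ => rfl
  · obtain ⟨_, ⟨a, ha, rfl⟩, rfl⟩ := NL.mem_orb.1 hx
    exact NL.mem_orb.2 ⟨a, ha, (hs a w).symm⟩
  · obtain ⟨a, ha, rfl⟩ := NL.mem_orb.1 hy
    exact ⟨π ⟨a, hP ha⟩ • w, NL.mem_orb.2 ⟨_, mem_im ha, rfl⟩, hs _ w⟩

end

theorem b2h (hT : TVStmt.{v, v}) : B2HStmt.{u, v, w} := by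
  intro G Ω M _ _ _ _ _ H Y D _ 𝒩 hΩ hc hY hO hN hle hsat
  let ρ : H →* (D ≃ₗ[ℤ] D) :=
    { toFun := fun h => AddEquiv.toIntLinearEquiv
        { toFun := fun d => ⟨(h : G) • d.1, hc.inv _ h.2 _ d.2⟩
          invFun := fun d => ⟨(h : G)⁻¹ • d.1, hc.inv _ (H.inv_mem h.2) _ d.2⟩
          left_inv := fun d => Subtype.ext (inv_smul_smul _ _)
          right_inv := fun d => Subtype.ext (smul_inv_smul _ _)
          map_add' := fun a b => Subtype.ext (smul_add _ _ _) }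
      map_one' := LinearEquiv.ext fun d => Subtype.ext (one_smul G _)
      map_mul' := fun a b => LinearEquiv.ext fun d => Subtype.ext (mul_smul (a : G) b _) }
  let π := ρ.rangeRestrict
  have hπ : Function.Surjective π := ρ.rangeRestrict_surjective
  have : Finite ρ.range := Finite.of_surjective π hπ
  have hs : ∀ (h : H) (d : D), ((π h • d : D) : M) = (h : G) • (d : M) := fun _ _ => rfl
  have hf : ∀ g : ρ.range, (∀ d : D, g • d = d) → g = 1 := fun g h =>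
    Subtype.ext (LinearEquiv.ext h)
  have hk : ∀ h : H, (h : G) ∈ cen G D → π h = 1 := fun h e =>
    hf _ fun d => Subtype.ext ((hs h d).trans (e d d.2))
  have hk' : ∀ h : H, π h = 1 → (h : G) ∈ cen G D := fun h e d hd => by
    rw [← hs h ⟨d, hd⟩, e, one_smul]
  have hYc : Y ≤ cen G D := fun g hg d hd => hY hd g hg
  have hYp : ∀ P', Y ≤ pre π P' := fun P' => (le_pre hc.le).2 (im_le.2 fun a ha => by
    rw [hk a (hYc ha)]; exact one_mem _)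
  have hPA : ∀ P' : Subgroup ρ.range, IsPGroup 2 P' → PA 2 (pre π P') D := fun P' h u hu => by
    lift u to H using pre_le _ _ hu
    obtain ⟨n, e⟩ := isPGroup_iff_forall_mem.1 h _ (mem_pre.1 hu)
    exact ⟨n, hk' (u ^ 2 ^ n) (by rw [map_pow, e])⟩
  have hlift : ∀ (P' : Subgroup ρ.range) R, IsPGroup 2 P' → SylowIn 2 R (pre π P') → ∀ t ∈ P',
      ∃ b : H, (b : G) ∈ R ∧ π b = t := fun P' R h1 h2 t ht => by
    obtain ⟨a, rfl⟩ := hπ t
    obtain ⟨a₀, ha₀, b, hb, e⟩ :=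
      (hPA P' h1).exists_mul (hc.inv.mono (pre_le _ _)) h2 (mem_pre.2 ht)
    lift b to H using pre_le _ _ (h2.le hb)
    refine ⟨b, hb, ?_⟩
    rw [eq_comm, ← mul_inv_eq_one, ← map_inv, ← map_mul]
    exact hk _ (by rw [coe_mul, e]; simpa using ha₀)
  have hn : ∀ (P' : Subgroup ρ.range) [P'.Normal], H ≤ normalizer (pre π P' : Set G) :=
    fun P' h g hg => mem_normalizer_of_forall fun a ha => by
      lift a to H using pre_le _ _ ha
      lift g to H using hg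
      refine (mem_pre (a := g * a * g⁻¹)).2 ?_
      rw [map_mul, map_mul, map_inv]
      exact h.conj_mem _ (mem_pre.1 ha) _
  have hcore : pCore 2 ρ.range = ⊥ := eq_bot_iff.2 fun t ht => by
    obtain ⟨b, hb, rfl⟩ := hlift _ Y (Fit.isPGroup_pCore 2 _)
      (hO _ (pre_le _ _) (hn _) (hYp _) (hPA _ (Fit.isPGroup_pCore 2 _))) t ht
    exact hk b (hYc hb)
  have hC : SylowIn 2 Y (H ⊓ cen G D) :=
    (hO _ (pre_le _ _) (hn ⊥) (hYp _) (hPA _ IsPGroup.of_bot)).trans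
      (fun a ha => by
        lift a to H using pre_le _ _ ha
        exact ⟨a.2, hk' a (mem_pre.1 ha)⟩)
      (by
        rw [(relIndex_eq_one (K := H ⊓ cen G D)).2 fun a ha =>
          (mem_pre (a := ⟨a, ha.1⟩)).2 (hk _ ha.2)]
        omega)
  obtain ⟨T, hT'⟩ := exists_sylowIn (p := 2) H
  have hS := sylowIn_im hπ hT'
  have hU : ∀ 𝒬 : Subgroup G → Prop, Up H 𝒬 →
      Up ⊤ fun P' => ∃ P ≤ H, IsPGroup 2 P ∧ 𝒬 P ∧ im π P ≤ P' := fun 𝒬 hQ =>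
    ⟨fun g' _ P' _ ⟨P, a, b, c, d⟩ => by
      obtain ⟨g, rfl⟩ := hπ g'
      exact ⟨_, cj_le_of_mem a g.2, isPGroup_cj _ b, hQ.inv _ g.2 P a c, by
        rw [im_cj]; exact cj_mono _ d⟩,
      fun _ _ e _ ⟨P, a, b, c, d⟩ => ⟨P, a, b, c, d.trans e⟩⟩
  have hQ : Up H fun P => 𝒩 P ∨ (Y ≤ P ∧ ∃ t ∈ P, Tv D t) :=
    hN.or ((up_le hc.nrm).and (up_ex fun g hg _ => tv_conj hc.inv hg))
  have htor : Tor 2 (⊤ : AddSubgroup D) :=
    hc.tor.imp fun _ h d _ => Subtype.ext (h d d.2)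
  have h2 := b2 hT htor hf hcore hS (hU 𝒩 hN) fun P' _ ⟨P, a, b, c, d⟩ =>
    ⟨Jn 2 D P, (NL.Jn_le P).trans a, b.to_le (NL.Jn_le P), hsat P a b c,
      NL.le_Jn ((im_le.2 fun x hx => mem_im (NL.Jn_le P hx)).trans d)
        (nt_im hs ((NL.Jn_le P).trans a) (NL.nt_Jn b (hc.inv.mono a)))⟩
  rw [← vl2_iff ((hU 𝒩 hN).or (up_ex fun g hg _ => tv_conj (inv_top ⊤) hg))] at h2
  refine (vl2_iff hQ).2 (q_lem hπ hs hk hΩ hc hC hT' hQ
    (fun P a b => b.elim (hle P a) And.left) ((vl2_iff (hU _ hQ)).1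
      ((vs_congr (om_quot hS) le_rfl (hU _ hQ).fam (cs_fix (inv_top ⊤)) fun P' _ b => ⟨?_, ?_⟩).2 h2)))
  · rintro (⟨P, a, b, c, d⟩ | ⟨t, a, c⟩)
    · exact ⟨P, a, b, Or.inl c, d⟩
    · obtain ⟨R, hR, e⟩ := exists_sylowIn_ge hc.pg (hYp P')
      obtain ⟨x, hx, rfl⟩ := hlift P' R b hR t a
      exact ⟨R, hR.le.trans (pre_le _ _), hR.isPGroup, Or.inr ⟨e, x, hx, (tv_iff (hs x)).1 c⟩,
        (le_pre (hR.le.trans (pre_le _ _))).1 hR.le⟩
  · rintro ⟨P, a, b, c | ⟨-, t, c, e⟩, d⟩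
    · exact Or.inl ⟨P, a, b, c, d⟩
    · exact Or.inr ⟨π ⟨t, a c⟩, d (mem_im c), (tv_iff (hs ⟨t, a c⟩)).2 e⟩

end Cfsg.Agent.LK
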