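import Cfsg.Agent.Lib.LK.QL

/-!
# Systems of abelian sections of `G`
-/

set_option autoImplicit false

namespace Cfsg.Agent.LK

open List Cfsg.Agent.Tr Subgroup

universe u

/-- The free abelian group on a `G`-set. -/
def FA (X : Type*) := FreeAbelianGroup X

instance (X : Type*) : AddCommGroup (FA X) := inferInstanceAs (AddCommGroup (FreeAbelianGroup X))

instance {G X : Type*} [Group G] [MulAction G X] : DistribMulAction G (FA X) where
  smul g m := FreeAbelianGroup.map (g • ·) m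
  one_smul m := by
    change FreeAbelianGroup.map _ m = m
    simp only [one_smul]; exact FreeAbelianGroup.map_id_apply m
  mul_smul a b m := by
    refine Eq.trans ?_ (FreeAbelianGroup.map_comp_apply (f := fun x : X => b • x)
      (g := fun x : X => a • x) m)
    change FreeAbelianGroup.map _ m = _
    simp only [mul_smul]; rfl
  smul_zero g := map_zero (FreeAbelianGroup.map (g • ·))
  smul_add g := map_add (FreeAbelianGroup.map (g • ·))

/-- `G` with the conjugation action. -/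
def Cj (G : Type*) := G

instance {G : Type*} [Group G] : MulAction G (Cj G) where
  smul g (x : G) := (g * x * g⁻¹ : G)
  one_smul (x : G) := show 1 * x * 1⁻¹ = x by simp
  mul_smul a b (x : G) := show a * b * x * (a * b)⁻¹ = a * (b * x * b⁻¹) * a⁻¹ by group

/-- Pairs of subgroups and an element, with the conjugation action. -/
def Tj (G : Type*) [Group G] := Subgroup G × Subgroup G × G

instance {G : Type*} [Group G] : MulAction G (Tj G) where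
  smul g x := (cj g x.1, cj g x.2.1, g * x.2.2 * g⁻¹)
  one_smul x := show (cj 1 x.1, cj 1 x.2.1, 1 * x.2.2 * 1⁻¹) = x by
    rw [cj_one, cj_one, one_mul, inv_one, mul_one]; rfl
  mul_smul a b x := show (cj (a * b) x.1, cj (a * b) x.2.1, a * b * x.2.2 * (a * b)⁻¹) =
    (cj a (cj b x.1), cj a (cj b x.2.1), a * (b * x.2.2 * b⁻¹) * a⁻¹) by
      simp [cj_mul, mul_assoc]

variable {G : Type u} [Group G] {B C B' C' H P : Subgroup G}

/-- `B / C` is an abelian section. -/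
structure AS (B C : Subgroup G) : Prop where
  le : C ≤ B
  comm : ∀ a ∈ B, ∀ b ∈ B, a * b * a⁻¹ * b⁻¹ ∈ C

theorem AS.exists_hom (h : AS B C) : ∃ (M : Type u) (_ : AddCommGroup M) (χ : G → M),
    (∀ a ∈ B, ∀ b ∈ B, χ (a * b) = χ a + χ b) ∧ ∀ a ∈ B, χ a = 0 ↔ a ∈ C := by
  classical
  have : (C.subgroupOf B).Normal := ⟨fun c hc b => by
    rw [mem_subgroupOf] at hc ⊢
    simpa using C.mul_mem (h.comm b b.2 c c.2) hc⟩
  have hc : ∀ x y : B ⧸ C.subgroupOf B, x * y = y * x := fun x y => by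
    obtain ⟨a, rfl⟩ := QuotientGroup.mk_surjective x
    obtain ⟨b, rfl⟩ := QuotientGroup.mk_surjective y
    rw [← QuotientGroup.mk_mul, ← QuotientGroup.mk_mul, QuotientGroup.eq, mem_subgroupOf]
    simpa [mul_assoc] using h.comm _ (B.inv_mem b.2) _ (B.inv_mem a.2)
  letI : CommGroup (B ⧸ C.subgroupOf B) := ⟨hc⟩
  refine ⟨Additive (B ⧸ C.subgroupOf B), inferInstance,
    fun a => if ha : a ∈ B then Additive.ofMul ((⟨a, ha⟩ : B) : B ⧸ C.subgroupOf B) else 0,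
    fun a ha b hb => ?_, fun a ha => ?_⟩
  · simp only [ha, hb, B.mul_mem ha hb, dif_pos]; rfl
  · simp only [ha, dif_pos, ofMul_eq_zero, QuotientGroup.eq_one_iff, mem_subgroupOf]

theorem AS.exists_emb (h : AS B C) : ∃ (M : Type u) (_ : AddCommGroup M) (_ : DistribMulAction G M)
    (ι : G → M), (∀ n ∈ normalizer (B : Set G), n ∈ normalizer (C : Set G) → ∀ x,
      ι (n * x * n⁻¹) = n • ι x) ∧
    (∀ a ∈ B, ∀ b ∈ B, ι (a * b) = ι a + ι b) ∧ ∀ a ∈ B, ι a = 0 ↔ a ∈ C := by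
  classical
  let o : Subgroup G → Subgroup G → G → FA (Tj G) := fun B C a => FreeAbelianGroup.of (B, C, a)
  have ho : ∀ (g : G) B C a, g • o B C a = o (cj g B) (cj g C) (g * a * g⁻¹) := fun g B C a =>
    FreeAbelianGroup.map_of_apply _
  let R : AddSubgroup (FA (Tj G)) := AddSubgroup.closure
    {m | ∃ B C : Subgroup G, (∃ a ∈ B, ∃ b ∈ B, m = o B C (a * b) - o B C a - o B C b) ∨
      ∃ c ∈ C, m = o B C c}
  have hR : ∀ g : G, R ≤ R.comap (DistribSMul.toAddMonoidHom _ g) := fun g =>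
    (AddSubgroup.closure_le _).2 (by
      rintro _ ⟨B, C, ⟨a, ha, b, hb, rfl⟩ | ⟨c, hc, rfl⟩⟩
      · refine AddSubgroup.subset_closure ⟨cj g B, cj g C, Or.inl ⟨_, conj_mem_cj.2 ha, _,
          conj_mem_cj.2 hb, ?_⟩⟩
        simp [smul_sub, ho]
      · exact AddSubgroup.subset_closure ⟨cj g B, cj g C, Or.inr ⟨_, conj_mem_cj.2 hc, ho _ _ _ _⟩⟩)
  letI : DistribMulAction G (FA (Tj G) ⧸ R) :=
    { smul := fun g => QuotientAddGroup.map R R _ (hR g)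
      one_smul := fun m => by
        obtain ⟨m, rfl⟩ := QuotientAddGroup.mk_surjective m
        exact congrArg QuotientAddGroup.mk (one_smul G m)
      mul_smul := fun a b m => by
        obtain ⟨m, rfl⟩ := QuotientAddGroup.mk_surjective m
        exact congrArg QuotientAddGroup.mk (mul_smul a b m)
      smul_zero := fun g => map_zero (QuotientAddGroup.map R R _ (hR g))
      smul_add := fun g => map_add (QuotientAddGroup.map R R _ (hR g)) }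
  refine ⟨FA (Tj G) ⧸ R, inferInstance, inferInstance, fun a => (o B C a : FA (Tj G) ⧸ R),
    fun n h1 h2 x => ?_, fun a ha b hb => ?_, fun a ha => ⟨fun e => ?_, fun e => ?_⟩⟩
  · have := ho n B C x
    rw [cj_eq_iff.2 h1, cj_eq_iff.2 h2] at this
    exact congrArg QuotientAddGroup.mk this.symm
  · rw [← QuotientAddGroup.mk_add, QuotientAddGroup.eq_iff_sub_mem, ← sub_sub]
    exact AddSubgroup.subset_closure ⟨B, C, Or.inl ⟨a, ha, b, hb, rfl⟩⟩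
  · obtain ⟨M, _, χ, h1, h2⟩ := h.exists_hom
    let φ : FA (Tj G) →+ M := FreeAbelianGroup.lift fun x => if x.1 = B ∧ x.2.1 = C then χ x.2.2 else 0
    have hφ : ∀ B' C' a, φ (o B' C' a) = if B' = B ∧ C' = C then χ a else 0 := fun _ _ _ =>
      FreeAbelianGroup.lift_apply_of _ _
    have : R ≤ φ.ker := (AddSubgroup.closure_le _).2 (by
      rintro _ ⟨B', C', ⟨a, ha, b, hb, rfl⟩ | ⟨c, hc, rfl⟩⟩
      · rw [SetLike.mem_coe, AddMonoidHom.mem_ker, map_sub, map_sub, hφ, hφ, hφ]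
        split_ifs with e
        · rw [h1 a (e.1 ▸ ha) b (e.1 ▸ hb)]; abel
        · simp
      · rw [SetLike.mem_coe, AddMonoidHom.mem_ker, hφ]
        split_ifs with e
        · exact (h2 c (h.le (e.2 ▸ hc))).2 (e.2 ▸ hc)
        · rfl)
    have e' := this ((QuotientAddGroup.eq_zero_iff _).1 e)
    rw [AddMonoidHom.mem_ker, hφ, if_pos ⟨rfl, rfl⟩] at e'
    exact (h2 a ha).1 e'
  · exact (QuotientAddGroup.eq_zero_iff _).2
      (AddSubgroup.subset_closure ⟨B, C, Or.inr ⟨a, e, rfl⟩⟩)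

/-- The basis element of `ℤ[G]`. -/
def fo (a : G) : FA (Cj G) := FreeAbelianGroup.of a

theorem smul_fo (g a : G) : g • fo a = fo (g * a * g⁻¹) := FreeAbelianGroup.map_of_apply _

/-- The additive map on `ℤ[G]` induced by a function. -/
def fl₀ {M : Type*} [AddCommGroup M] (ψ : G → M) : FA (Cj G) →+ M := FreeAbelianGroup.lift ψ

omit [Group G] in
theorem fl₀_fo {M : Type*} [AddCommGroup M] (ψ : G → M) (a : G) : fl₀ ψ (fo a) = ψ a :=
  FreeAbelianGroup.lift_apply_of _ _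

theorem fl₀_smul {G' M : Type*} [Group G'] [AddCommGroup M] [DistribMulAction G' M] {ψ : G → M}
    {g : G} {g' : G'} (h : ∀ x, ψ (g * x * g⁻¹) = g' • ψ x) (m : FA (Cj G)) :
    fl₀ ψ (g • m) = g' • fl₀ ψ m := by
  have : (fl₀ ψ).comp (DistribSMul.toAddMonoidHom _ g) =
      (DistribSMul.toAddMonoidHom _ g').comp (fl₀ ψ) :=
    FreeAbelianGroup.lift_ext _ _ fun (x : G) => by
    change fl₀ ψ (g • fo x) = g' • fl₀ ψ (fo x)
    rw [smul_fo, fl₀_fo, fl₀_fo, h]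
  exact DFunLike.congr_fun this m

/-- `ℤ[B]`. -/
def UB (B : Subgroup G) : AddSubgroup (FA (Cj G)) := AddSubgroup.closure {m | ∃ b ∈ B, m = fo b}

/-- The kernel of `ℤ[B] → B / C`. -/
def WB (B C : Subgroup G) : AddSubgroup (FA (Cj G)) :=
  AddSubgroup.closure {m | ∃ a ∈ B, ∃ b ∈ B, m = fo (a * b) - fo a - fo b} ⊔ UB C

theorem fo_mem {b : G} (h : b ∈ B) : fo b ∈ UB B := AddSubgroup.subset_closure ⟨b, h, rfl⟩

theorem rel_mem {a b : G} (ha : a ∈ B) (hb : b ∈ B) : fo (a * b) - fo a - fo b ∈ WB B C :=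
  AddSubgroup.mem_sup_left (AddSubgroup.subset_closure ⟨a, ha, b, hb, rfl⟩)

theorem UB_le_WB : UB C ≤ WB B C := le_sup_right

theorem UB_le {V : AddSubgroup (FA (Cj G))} (h : ∀ b ∈ B, fo b ∈ V) : UB B ≤ V :=
  (AddSubgroup.closure_le _).2 fun _ ⟨b, hb, e⟩ => e ▸ h b hb

theorem WB_le {V : AddSubgroup (FA (Cj G))} (h : ∀ a ∈ B, ∀ b ∈ B, fo (a * b) - fo a - fo b ∈ V)
    (h' : ∀ c ∈ C, fo c ∈ V) : WB B C ≤ V :=
  sup_le ((AddSubgroup.closure_le _).2 fun _ ⟨a, ha, b, hb, e⟩ => e ▸ h a ha b hb) (UB_le h')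

theorem UB_mono (h : B ≤ B') : UB B ≤ UB B' := UB_le fun _ hb => fo_mem (h hb)

theorem WB_mono (h : B ≤ B') (h' : C ≤ C') : WB B C ≤ WB B' C' :=
  WB_le (fun _ ha _ hb => rel_mem (h ha) (h hb)) fun _ hc => UB_le_WB (fo_mem (h' hc))

theorem WB_le_UB (h : C ≤ B) : WB B C ≤ UB B :=
  WB_le (fun _ ha _ hb => sub_mem (sub_mem (fo_mem (B.mul_mem ha hb)) (fo_mem ha)) (fo_mem hb))
    fun _ hc => fo_mem (h hc)

theorem smul_UB (g : G) {m : FA (Cj G)} (h : m ∈ UB B) : g • m ∈ UB (cj g B) :=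
  UB_le (V := (UB (cj g B)).comap (DistribSMul.toAddMonoidHom _ g)) (fun b hb => by
    simpa [smul_fo] using fo_mem (conj_mem_cj.2 hb)) h

theorem smul_WB (g : G) {m : FA (Cj G)} (h : m ∈ WB B C) : g • m ∈ WB (cj g B) (cj g C) :=
  WB_le (V := (WB (cj g B) (cj g C)).comap (DistribSMul.toAddMonoidHom _ g)) (fun a ha b hb => by
    simpa [smul_fo, smul_sub] using rel_mem (C := cj g C) (conj_mem_cj.2 ha) (conj_mem_cj.2 hb))
    (fun c hc => UB_le_WB (smul_UB g (fo_mem hc))) h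

theorem exists_fo {m : FA (Cj G)} (h : m ∈ UB B) : ∃ b ∈ B, m - fo b ∈ WB B C := by
  have h1 : fo (1 : G) ∈ WB B C := UB_le_WB (fo_mem C.one_mem)
  induction h using AddSubgroup.closure_induction with
  | mem _ h => obtain ⟨b, hb, rfl⟩ := h; exact ⟨b, hb, by simp⟩
  | zero => exact ⟨1, B.one_mem, by simpa using h1⟩
  | add x y _ _ hx hy =>
    obtain ⟨a, ha, e⟩ := hx
    obtain ⟨b, hb, f⟩ := hy
    refine ⟨a * b, B.mul_mem ha hb, ?_⟩
    have := sub_mem (add_mem e f) (rel_mem ha hb)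
    convert this using 1; abel
  | neg x _ hx =>
    obtain ⟨a, ha, e⟩ := hx
    refine ⟨a⁻¹, B.inv_mem ha, ?_⟩
    have := sub_mem (sub_mem (rel_mem ha (B.inv_mem ha)) e) h1
    rw [mul_inv_cancel] at this
    convert this using 1; abel

theorem AS.mem_of_fo (h : AS B C) {b : G} (hb : b ∈ B) (e : fo b ∈ WB B C) : b ∈ C := by
  obtain ⟨M, _, χ, h1, h2⟩ := h.exists_hom
  have := WB_le (V := (fl₀ χ).ker) (fun a ha b hb => by
    simp [AddMonoidHom.mem_ker, fl₀_fo, h1 a ha b hb]) (fun c hc => by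
    rw [AddMonoidHom.mem_ker, fl₀_fo, (h2 c (h.le hc)).2 hc]) e
  rwa [AddMonoidHom.mem_ker, fl₀_fo, h2 b hb] at this

/-- A system of sections `B P / C P` on the subgroups of `H`. -/
structure SecS (H : Subgroup G) (B C : Subgroup G → Subgroup G) : Prop where
  le : ∀ P ≤ H, C P ≤ B P
  antiB : ∀ P Q, P ≤ Q → B Q ≤ B P
  antiC : ∀ P Q, P ≤ Q → C Q ≤ C P
  cjB : ∀ g ∈ H, ∀ P, B (cj g P) = cj g (B P)
  cjC : ∀ g ∈ H, ∀ P, C (cj g P) = cj g (C P)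
  triv : ∀ P ≤ H, ∀ g ∈ P, ∀ b ∈ B P, b⁻¹ * (g * b * g⁻¹) ∈ C P

theorem SecS.mono {B C : Subgroup G → Subgroup G} (h : SecS H B C) {K : Subgroup G} (hK : K ≤ H) :
    SecS K B C :=
  ⟨fun P a => h.le P (a.trans hK), h.antiB, h.antiC, fun g hg => h.cjB g (hK hg),
    fun g hg => h.cjC g (hK hg), fun P a => h.triv P (a.trans hK)⟩

theorem SecS.cs {B C : Subgroup G → Subgroup G} (h : SecS H B C) :
    Cs H (fun P => UB (B P)) fun P => WB (B P) (C P) :=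
  ⟨fun P a => WB_le_UB (h.le P a), fun P Q a _ => UB_mono (h.antiB P Q a),
    fun P Q a _ => WB_mono (h.antiB P Q a) (h.antiC P Q a),
    fun g hg P _ m hm => by rw [h.cjB g hg]; exact smul_UB g hm,
    fun g hg P _ m hm => by rw [h.cjB g hg, h.cjC g hg]; exact smul_WB g hm,
    fun P a g hg _ hm => UB_le (V := (WB (B P) (C P)).comap
      (DistribSMul.toAddMonoidHom (FA (Cj G)) g - AddMonoidHom.id (FA (Cj G)))) (fun b hb => by
        have c := h.triv P a g hg b hb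
        have := add_mem (rel_mem (C := C P) hb (h.le P a c)) (UB_le_WB (fo_mem c))
        rw [mul_inv_cancel_left] at this
        simpa [smul_fo] using this) hm⟩

section Iso

variable {M : Type*} [AddCommGroup M] {V Z : AddSubgroup M} {ψ : G → M}

theorem iso_fl₀ (hC : C ≤ B) (h1 : ∀ b ∈ B, ψ b ∈ V)
    (h2 : ∀ a ∈ B, ∀ b ∈ B, ψ (a * b) - ψ a - ψ b ∈ Z) (h3 : ∀ b ∈ B, ψ b ∈ Z ↔ b ∈ C)
    (h4 : ∀ v ∈ V, ∃ b ∈ B, ψ b - v ∈ Z) :
    (∀ m ∈ UB B, fl₀ ψ m ∈ V) ∧ (∀ m' ∈ V, ∃ m ∈ UB B, fl₀ ψ m - m' ∈ Z) ∧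
      ∀ m ∈ UB B, fl₀ ψ m ∈ Z ↔ m ∈ WB B C := by
  have hW : WB B C ≤ Z.comap (fl₀ ψ) := WB_le (fun a ha b hb => by
    simpa [fl₀_fo] using h2 a ha b hb) fun c hc => by simpa [fl₀_fo] using (h3 c (hC hc)).2 hc
  refine ⟨fun _ hm => UB_le (V := V.comap (fl₀ ψ)) (fun b hb => by simpa [fl₀_fo] using h1 b hb) hm,
    fun v hv => ?_, fun m hm => ⟨fun e => ?_, fun e => hW e⟩⟩
  · obtain ⟨b, hb, e⟩ := h4 v hv
    exact ⟨_, fo_mem hb, by rwa [fl₀_fo]⟩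
  · obtain ⟨b, hb, f⟩ := exists_fo (C := C) hm
    have := sub_mem e (hW f)
    rw [map_sub, sub_sub_cancel, fl₀_fo, h3 b hb] at this
    simpa using add_mem f (UB_le_WB (fo_mem this))

end Iso

variable {Ω : Type*} [MulAction G Ω] {p k : ℕ} {𝒜 : Subgroup G → Prop}

theorem vs_iso {M M' : Type*} [AddCommGroup M] [DistribMulAction G M] [AddCommGroup M']
    [DistribMulAction G M'] {U W : Subgroup G → AddSubgroup M} {V Z : Subgroup G → AddSubgroup M'}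
    (hΩ : Om p G Ω) (hk : 2 ≤ k) (hF : Fam H 𝒜) (hC : Cs H U W) (hC' : Cs H V Z) (φ : M →+ M')
    (hφ : ∀ g ∈ H, ∀ m, φ (g • m) = g • φ m)
    (h : ∀ P ≤ H, IsPGroup p P → 𝒜 P → (∀ m ∈ U P, φ m ∈ V P) ∧
      (∀ m' ∈ V P, ∃ m ∈ U P, φ m - m' ∈ Z P) ∧ ∀ m ∈ U P, φ m ∈ Z P ↔ m ∈ W P) :
    VS Ω H k 𝒜 U W ↔ VS Ω H k 𝒜 V Z :=
  Iso.van_iff (φ := φ) ⟨fun g hg => ⟨g, hg, fun _ => rfl, hφ g hg⟩,
    fun g hg => ⟨g, hg, fun _ => rfl, hφ g hg⟩,
    fun l a b => (h _ (st_le l) (hΩ.st (by omega)) b).1,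
    fun l a b => (h _ (st_le l) (hΩ.st (by omega)) b).2.1,
    fun l a b => (h _ (st_le l) (hΩ.st (by omega)) b).2.2⟩ (sys_of hF hC) (sys_of hF hC')

/-- The image of `B` under a map that is additive on `B`. -/
def imD {M : Type*} [AddCommGroup M] (B : Subgroup G) (ι : G → M)
    (h : ∀ a ∈ B, ∀ b ∈ B, ι (a * b) = ι a + ι b) : AddSubgroup M where
  carrier := {m | ∃ b ∈ B, ι b = m}
  zero_mem' := ⟨1, B.one_mem, by simpa using h 1 B.one_mem 1 B.one_mem⟩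
  add_mem' := by
    rintro _ _ ⟨a, ha, rfl⟩ ⟨b, hb, rfl⟩
    exact ⟨_, B.mul_mem ha hb, h a ha b hb⟩
  neg_mem' := by
    rintro _ ⟨a, ha, rfl⟩
    refine ⟨_, B.inv_mem ha, eq_neg_of_add_eq_zero_left ?_⟩
    rw [← h _ (B.inv_mem ha) a ha, inv_mul_cancel]
    simpa using h 1 B.one_mem 1 B.one_mem

/-- A realization of the section `B / C` inside a `G`-module. -/
structure Emb {M : Type*} [AddCommGroup M] [DistribMulAction G M] (H B C : Subgroup G) (ι : G → M)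
    (D : AddSubgroup M) : Prop where
  eqv : ∀ n ∈ H, ∀ x, ι (n * x * n⁻¹) = n • ι x
  add : ∀ a ∈ B, ∀ b ∈ B, ι (a * b) = ι a + ι b
  ker : ∀ a ∈ B, ι a = 0 ↔ a ∈ C
  mem : ∀ m, m ∈ D ↔ ∃ b ∈ B, ι b = m
  nrm : H ≤ normalizer (B : Set G)

theorem AS.emb (h : AS B C) (h1 : H ≤ normalizer (B : Set G)) (h2 : H ≤ normalizer (C : Set G)) :
    ∃ (M : Type u) (_ : AddCommGroup M) (_ : DistribMulAction G M) (ι : G → M) (D : AddSubgroup M),
      Emb H B C ι D := by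
  obtain ⟨M, _, _, ι, a, b, c⟩ := h.exists_emb
  exact ⟨M, _, _, ι, imD B ι b, fun n hn => a n (h1 hn) (h2 hn), b, c, fun _ => Iff.rfl, h1⟩

section Emb

variable {M : Type*} [AddCommGroup M] [DistribMulAction G M] {ι : G → M} {D : AddSubgroup M}

theorem Emb.inv (h : Emb H B C ι D) : Inv H D := fun g hg m hm => by
  obtain ⟨b, hb, rfl⟩ := (h.mem m).1 hm
  exact (h.mem _).2 ⟨_, conj_mem_of_mem_normalizer (h.nrm hg) hb, h.eqv g hg b⟩

theorem Emb.pow (h : Emb H B C ι D) {b : G} (hb : b ∈ B) (n : ℕ) : ι (b ^ n) = n • ι b := by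
  induction n with
  | zero => simpa using (h.ker 1 B.one_mem).2 C.one_mem
  | succ n ih => rw [pow_succ, h.add _ (B.pow_mem hb n) _ hb, ih, succ_nsmul]

theorem Emb.eq_iff (h : Emb H B C ι D) {a b : G} (ha : a ∈ B) (hb : b ∈ B) :
    ι a = ι b ↔ b⁻¹ * a ∈ C := by
  have := h.add _ hb _ (B.mul_mem (B.inv_mem hb) ha)
  rw [mul_inv_cancel_left] at this
  rw [← h.ker _ (B.mul_mem (B.inv_mem hb) ha), this]
  simp

theorem Emb.smul_eq_iff (h : Emb H B C ι D) {g b : G} (hg : g ∈ H) (hb : b ∈ B) :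
    g • ι b = ι b ↔ b⁻¹ * (g * b * g⁻¹) ∈ C := by
  rw [← h.eqv g hg, h.eq_iff (conj_mem_of_mem_normalizer (h.nrm hg) hb) hb]

theorem Emb.finite [Finite G] (h : Emb H B C ι D) : Finite D :=
  Finite.of_surjective (fun b : B => (⟨ι b, (h.mem _).2 ⟨b, b.2, rfl⟩⟩ : D)) fun ⟨m, hm⟩ => by
    obtain ⟨b, hb, rfl⟩ := (h.mem m).1 hm
    exact ⟨⟨b, hb⟩, rfl⟩

theorem Emb.tor [Finite G] [hp : Fact p.Prime] (h : Emb H B C ι D)
    (hB : ∀ b ∈ B, ∃ n, b ^ p ^ n ∈ C) : Tor p D := by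
  have : ∀ b : B, ∃ n, (b : G) ^ p ^ n ∈ C := fun b => hB b b.2
  choose n hn using this
  obtain ⟨N, hN⟩ := (Set.finite_range n).bddAbove
  refine ⟨N, fun m hm => ?_⟩
  obtain ⟨b, hb, rfl⟩ := (h.mem m).1 hm
  obtain ⟨j, e⟩ := Nat.exists_eq_add_of_le (hN ⟨⟨b, hb⟩, rfl⟩)
  rw [← h.pow hb, h.ker _ (B.pow_mem hb _), e, pow_add, pow_mul]
  exact C.pow_mem (hn ⟨b, hb⟩) _

theorem Emb.vs (h : Emb H B C ι D) (hΩ : Om p G Ω) (hk : 2 ≤ k) (hF : Fam H 𝒜)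
    {Bf Cf : Subgroup G → Subgroup G} (hS : SecS H Bf Cf)
    (hB : ∀ P ≤ H, IsPGroup p P → 𝒜 P → Bf P ≤ B ∧ (∀ b ∈ Bf P, b ∈ C ↔ b ∈ Cf P) ∧
      ∀ b ∈ B, (∀ g ∈ P, b⁻¹ * (g * b * g⁻¹) ∈ C) → b ∈ Bf P)
    (hv : VL Ω H k 𝒜 D) : VS Ω H k 𝒜 (fun P => UB (Bf P)) fun P => WB (Bf P) (Cf P) := by
  refine (vs_iso hΩ hk hF hS.cs (cs_fix h.inv) (fl₀ ι) (fun g hg => fl₀_smul (h.eqv g hg))
    fun P a b c => ?_).2 hv
  obtain ⟨h1, h2, h3⟩ := hB P a b c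
  refine iso_fl₀ (hS.le P a) (fun x hx => ⟨(h.mem _).2 ⟨x, h1 hx, rfl⟩, fun g hg => ?_⟩)
    (fun x hx y hy => by rw [h.add x (h1 hx) y (h1 hy)]; simp)
    (fun x hx => by rw [AddSubgroup.mem_bot, h.ker x (h1 hx), h2 x hx]) fun v hv => ?_
  · have e := hS.triv P a g hg x hx
    rw [h.smul_eq_iff (a hg) (h1 hx), h2 _ (hS.le P a e)]; exact e
  · obtain ⟨x, hx, rfl⟩ := (h.mem v).1 hv.1
    exact ⟨x, h3 x hx fun g hg => (h.smul_eq_iff (a hg) hx).1 (hv.2 g hg), by simp⟩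

end Emb

theorem sec_singles [Finite G] [Fact p.Prime] (hΩ : Om p G Ω) (hk : 2 ≤ k) (hF : Fam H 𝒜)
    {Bf Cf : Subgroup G → Subgroup G} (hS : SecS H Bf Cf)
    (h : ∀ P ≤ H, IsPGroup p P → 𝒜 P → AS (Bf P) (Cf P) ∧ (∀ b ∈ Bf P, ∃ n, b ^ p ^ n ∈ Cf P) ∧
      ∃ K ≤ H ⊓ normalizer (P : Set G), H ⊓ normalizer (P : Set G) ≤ normalizer (K : Set G) ∧
        P ≤ K ∧ ¬ SylowIn p P K ∧ ∀ c ∈ K, ∃ n, ∀ b ∈ Bf P,
          b⁻¹ * (c ^ p ^ n * b * (c ^ p ^ n)⁻¹) ∈ Cf P) :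
    VS Ω H k 𝒜 (fun P => UB (Bf P)) fun P => WB (Bf P) (Cf P) := by
  refine fl_mono hΩ hk hF hS.cs (fun Q => Q) (fun _ _ _ _ _ _ => rfl) (fun _ _ a _ _ _ _ => a)
    fun P a b c => ⟨(· = P), _, _,
      fun R _ _ => ⟨⟨fun e => ⟨e ▸ c, e⟩, fun e => e.2⟩, fun _ => ⟨rfl, rfl⟩⟩, ?_⟩
  obtain ⟨h1, h2, K, h3, h4, h5, h6, h7⟩ := h P a b c
  obtain ⟨M, _, _, ι, D, hE⟩ := h1.emb (H := H ⊓ normalizer (P : Set G))
    (le_normalizer_of_cj fun g hg => by rw [← hS.cjB g hg.1, cj_eq_iff.2 hg.2])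
    (le_normalizer_of_cj fun g hg => by rw [← hS.cjC g hg.1, cj_eq_iff.2 hg.2])
  refine hE.vs hΩ hk (fam_eq inf_le_right) (hS.mono inf_le_left)
    (fun R _ _ e => by subst e; exact ⟨le_rfl, fun _ _ => Iff.rfl, fun _ hb _ => hb⟩)
    (lam' hΩ hk ⟨hE.inv, hE.tor h2, le_inf a le_normalizer, inf_le_right, b⟩ h3 h4 h5 h6
      fun x hx => ?_)
  obtain ⟨n, e⟩ := h7 x hx
  refine ⟨n, fun m hm => ?_⟩
  obtain ⟨y, hy, rfl⟩ := (hE.mem m).1 hm
  exact (hE.smul_eq_iff (Subgroup.pow_mem _ (h3 hx) _) hy).2 (e y hy)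

/-- The extension `1 → C' / C → B / C → B / C' → 1`. -/
theorem sec_les (hΩ : Om p G Ω) (hk : 1 ≤ k) (hF : Fam H 𝒜) {Bf Cf Cf' : Subgroup G → Subgroup G}
    (h1 : SecS H Bf Cf) (h2 : SecS H Bf Cf') (h3 : SecS H Cf' Cf)
    (hA : ∀ P ≤ H, IsPGroup p P → 𝒜 P → AS (Bf P) (Cf P))
    (v1 : VS Ω H k 𝒜 (fun P => UB (Bf P)) fun P => WB (Bf P) (Cf P))
    (v2 : VS Ω H (k + 1) 𝒜 (fun P => UB (Cf' P)) fun P => WB (Cf' P) (Cf P)) :
    VS Ω H k 𝒜 (fun P => UB (Bf P)) fun P => WB (Bf P) (Cf' P) := by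
  have c1 := h1.cs
  have c2 := h2.cs
  have c3 : Cs H (fun P => WB (Bf P) (Cf' P)) fun P => WB (Bf P) (Cf P) :=
    ⟨fun P a => WB_mono le_rfl (h3.le P a), c2.antiW, c1.antiW, c2.smulW, c1.smulW,
      fun P a g hg m hm => c1.triv P a g hg m (c2.le P a hm)⟩
  refine les2 (sys_of hF c1) (fun l _ => c3.le _ (st_le l)) (fun l _ => c2.le _ (st_le l))
    (sys_of hF c2).monoW v1 ((vs_iso hΩ (by omega) hF h3.cs c3 (AddMonoidHom.id _)
      (fun _ _ _ => rfl) fun P a b c => ⟨fun m hm => UB_le_WB hm, fun m hm => ?_,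
        fun m hm => ⟨fun e => ?_, fun e => WB_mono (h2.le P a) le_rfl e⟩⟩).1 v2)
  · obtain ⟨x, hx, y, hy, rfl⟩ := AddSubgroup.mem_sup.1 hm
    have : x ∈ WB (Bf P) (Cf P) := AddSubgroup.mem_sup_left hx
    exact ⟨y, hy, by simpa using this⟩
  · obtain ⟨x, hx, f⟩ := exists_fo (C := Cf P) hm
    have g := sub_mem e (WB_mono (h2.le P a) le_rfl f)
    rw [AddMonoidHom.id_apply, sub_sub_cancel] at g
    simpa using add_mem f (UB_le_WB (fo_mem ((hA P a b c).mem_of_fo (h2.le P a hx) g)))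

end Cfsg.Agent.LK
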