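import Cfsg.Agent.Lib.LK.Cochain

/-!
# Changing supports, splitting, filtrations, labels and transport
-/

set_option autoImplicit false

namespace Cfsg.Agent.LK

open List Cfsg.Agent.Tr Subgroup

variable {G Ω M : Type*} [Group G] [MulAction G Ω] [AddCommGroup M] [DistribMulAction G M]
variable {H : Subgroup G} {Sg Sg' S₁ S₂ : List Ω → Prop} {U X W U' W' : List Ω → AddSubgroup M}
  {k : ℕ}

theorem van_iff (hU : Mono Sg U) (hW : Mono Sg W) (hi : InvS H Sg) (hi' : InvS H Sg')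
    (hs : ∀ l, k ≤ l.length + 1 → Sg' l → Sg l ∧ U' l = U l ∧ W' l = W l)
    (ht : ∀ l, k ≤ l.length + 1 → Sg l → ¬ Sg' l → U l ≤ W l) :
    Van H k Sg U W ↔ Van H k Sg' U' W' := by
  have co1 : ∀ n f, k ≤ n + 1 → Co H n Sg U W f → Co H n Sg' U' W' f := fun n f hn hf =>
    ⟨fun l a b => by rw [(hs l (by omega) b).2.1]; exact hf.mem l a (hs l (by omega) b).1,
      fun g hg l a b => by
        rw [(hs _ (by rw [sl_length]; omega) (hi' g hg l b)).2.2]
        exact hf.eqv g hg l a (hs l (by omega) b).1⟩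
  have co2 : ∀ n f, k ≤ n + 1 → Co H n Sg' U' W' f → Co H n Sg U W (ind Sg' f) := fun n f hn hf =>
    ⟨fun l a _ => by
      by_cases c : Sg' l
      · rw [ind_pos f c, ← (hs l (by omega) c).2.1]; exact hf.mem l a c
      · rw [ind_neg f c]; exact (U l).zero_mem, fun g hg l a _ => by
      by_cases c : Sg' l
      · rw [ind_pos f c, ind_pos f (hi' g hg l c),
          ← (hs _ (by rw [sl_length]; omega) (hi' g hg l c)).2.2]
        exact hf.eqv g hg l a c
      · rw [ind_neg f c, ind_neg f (by rwa [hi'.iff hg]), smul_zero, sub_zero]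
        exact (W _).zero_mem⟩
  have d1 : ∀ n f l, k ≤ n + 1 → Co H n Sg U W f → l.length = n + 1 → Sg l →
      dS Sg f l - dS Sg' f l ∈ W l := fun n f l hn hf a b => dS_congr₂ _ fun l' h1 h2 => by
    by_cases c : Sg' l'
    · rw [ind_pos f c, ind_pos f (hs l' (by omega) c).1, sub_self]; exact (W l).zero_mem
    · rw [ind_neg f c, sub_zero]
      by_cases c' : Sg l'
      · rw [ind_pos f c']
        exact hW l' l h1 c' b (ht l' (by omega) c' c (hf.mem l' (by omega) c'))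
      · rw [ind_neg f c']; exact (W l).zero_mem
  have d2 : ∀ (f : List Ω → M) (l : List Ω), k ≤ l.length → dS Sg (ind Sg' f) l = dS Sg' f l :=
    fun f l a => cb_congr fun l' _ h2 => by
      by_cases c : Sg' l'
      · rw [ind_pos _ (hs l' (by omega) c).1]
      · by_cases c' : Sg l'
        · rw [ind_pos _ c']
        · rw [ind_neg _ c', ind_neg _ c]
  constructor
  · intro h f hf hc
    have hf' := co2 k f (by omega) hf
    obtain ⟨s, h1, h2⟩ := h _ hf' fun l a b => by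
      by_cases c : Sg' l
      · rw [d2 f l (by omega), ← (hs l (by omega) c).2.2]; exact hc l a c
      · exact ht l (by omega) b c (Co.dS_mem (k := k + 1) hf' hU a b)
    refine ⟨s, co1 _ s (by omega) h1, fun l a b => ?_⟩
    obtain ⟨b1, -, b3⟩ := hs l (by omega) b
    have e := h2 l a b1
    rw [ind_pos f b] at e
    rw [b3]
    rcases k with _ | k
    · obtain rfl := length_eq_zero_iff.1 a
      exact e
    · have := (W l).add_mem e (d1 k s l le_rfl h1 a b1)
      simpa using this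
  · intro h f hf hc
    obtain ⟨s, h1, h2⟩ := h f (co1 k f (by omega) hf) fun l a b => by
      obtain ⟨b1, -, b3⟩ := hs l (by omega) b
      have := (W l).sub_mem (hc l a b1) (d1 k f l (by omega) hf a b1)
      rw [b3]; simpa using this
    have hs' := co2 _ s (by omega) h1
    refine ⟨_, hs', fun l a b => ?_⟩
    by_cases c : Sg' l
    · rw [d2 s l (by omega), ← (hs l (by omega) c).2.2]; exact h2 l a c
    · exact ht l (by omega) b c ((U l).sub_mem (hf.mem l a b) (hs'.dS_mem hU a b))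

theorem van_of_empty (h : ∀ l, l.length = k → ¬ Sg l) : Van H k Sg U W := fun _ _ _ =>
  ⟨0, ⟨fun l _ _ => (U l).zero_mem, fun _ _ _ _ _ => by simp⟩, fun l a b => absurd b (h l a)⟩

/-- `Sg` is the disjoint union of `S₁` and `S₂`, and `S₂` is closed under sublists in `Sg`. -/
structure Spl (H : Subgroup G) (Sg S₁ S₂ : List Ω → Prop) : Prop where
  iff : ∀ l, Sg l ↔ S₁ l ∨ S₂ l
  dis : ∀ l, S₁ l → ¬ S₂ l
  up : ∀ l' l, l' <+ l → Sg l' → S₂ l → S₂ l'
  inv : InvS H S₂

theorem Spl.aux (h : Sys H Sg U W) (hs : Spl H Sg S₁ S₂) : ∃ X : List Ω → AddSubgroup M,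
    (∀ l, Sg l → W l ≤ X l) ∧ (∀ l, Sg l → X l ≤ U l) ∧ Mono Sg X ∧
    (∀ k, Van H k Sg X W ↔ Van H k S₁ U W) ∧ ∀ k, Van H k Sg U X ↔ Van H k S₂ U W := by
  classical
  have hX : Mono Sg fun l => if S₂ l then W l else U l := fun l' l a b c => by
    by_cases d : S₂ l
    · simp only [d, hs.up l' l a b d, if_true]; exact h.monoW l' l a b c
    · simp only [d, if_false]
      split_ifs
      · exact (h.monoW l' l a b c).trans (h.le l c)
      · exact h.monoU l' l a b c
  have i1 : InvS H S₁ := fun g hg l a =>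
    ((hs.iff _).1 (h.inv g hg l ((hs.iff l).2 (Or.inl a)))).resolve_right
      (by rw [hs.inv.iff hg]; exact hs.dis l a)
  refine ⟨fun l => if S₂ l then W l else U l, fun l a => ?_, fun l a => ?_, hX, fun k => ?_,
    fun k => ?_⟩
  · dsimp only
    split_ifs
    exacts [le_rfl, h.le l a]
  · dsimp only
    split_ifs
    exacts [h.le l a, le_rfl]
  · exact van_iff hX h.monoW h.inv i1
      (fun l _ a => ⟨(hs.iff l).2 (Or.inl a), (if_neg (hs.dis l a)).symm, rfl⟩)
      fun l _ a b => (if_pos (((hs.iff l).1 a).resolve_left b)).le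
  · exact van_iff h.monoU hX h.inv hs.inv
      (fun l _ a => ⟨(hs.iff l).2 (Or.inr a), rfl, (if_pos a).symm⟩) fun l _ _ b => (if_neg b).ge

theorem split1 (h : Sys H Sg U W) (hs : Spl H Sg S₁ S₂) (h1 : Van H k S₁ U W)
    (h2 : Van H k S₂ U W) : Van H k Sg U W := by
  obtain ⟨X, a, b, c, d, e⟩ := hs.aux h
  exact les1 h a b c ((d k).2 h1) ((e k).2 h2)

theorem split2 (h : Sys H Sg U W) (hs : Spl H Sg S₁ S₂) (h1 : Van H k Sg U W)
    (h2 : Van H (k + 1) S₁ U W) : Van H k S₂ U W := by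
  obtain ⟨X, a, b, c, d, e⟩ := hs.aux h
  exact (e k).1 (les2 h a b c h1 ((d _).2 h2))

theorem split3 (h : Sys H Sg U W) (hs : Spl H Sg S₁ S₂) (h1 : Van H (k + 1) Sg U W)
    (h2 : Van H k S₂ U W) : Van H (k + 1) S₁ U W := by
  obtain ⟨X, a, b, c, d, e⟩ := hs.aux h
  exact (d _).1 (les3 h a b c h1 ((e k).2 h2))

theorem van_of_key (h : Sys H Sg U W) (κ : List Ω → ℕ) (N : ℕ) (hN : ∀ l, Sg l → κ l < N)
    (hi : ∀ g ∈ H, ∀ l, Sg l → κ (sl g l) = κ l) (hm : ∀ l' l, l' <+ l → Sg l' → Sg l → κ l ≤ κ l')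
    (hv : ∀ j, Van H k (fun l => Sg l ∧ κ l = j) U W) : Van H k Sg U W := by
  have : ∀ j, Van H k (fun l => Sg l ∧ κ l < j) U W := by
    intro j
    induction j with
    | zero => exact van_of_empty fun l _ a => absurd a.2 (by omega)
    | succ j ih =>
      refine split1 (h.restrict (fun l a => a.1)
        (fun g hg l a => ⟨h.inv g hg l a.1, by rw [hi g hg l a.1]; exact a.2⟩)
        fun l'' l' l a b c d => ?_) ⟨fun l => ?_, fun l a b => ?_, fun l' l a b c => ?_,
          fun g hg l a => ⟨h.inv g hg l a.1, by rw [hi g hg l a.1]; exact a.2⟩⟩ ih (hv j)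
      · have e := h.cvx _ _ _ a b c.1 d.1
        exact ⟨e, (hm _ _ a c.1 e).trans_lt c.2⟩
      · by_cases a : Sg l <;> simp [a]; omega
      · have := a.2; have := b.2; omega
      · have := hm _ _ a b.1 c.1
        have := b.2; have := c.2
        exact ⟨b.1, by omega⟩
  exact (van_iff h.monoU h.monoW h.inv
    (fun g hg l a => ⟨h.inv g hg l a.1, by rw [hi g hg l a.1]; exact a.2⟩)
    (fun l _ a => ⟨a.1, rfl, rfl⟩) fun l _ a b => absurd ⟨a, hN l a⟩ b).2 (this N)

theorem van_of_lab (h : Sys H Sg U W) (lab : List Ω → Subgroup G)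
    (hi : ∀ g ∈ H, ∀ l, Sg l → lab (sl g l) = cj g (lab l))
    (hm : ∀ l' l, l' <+ l → Sg l' → Sg l → lab l' = lab l)
    (hv : ∀ y : Subgroup G,
      Van (H ⊓ normalizer (y : Set G)) k (fun l => Sg l ∧ lab l = y) U W) : Van H k Sg U W := by
  intro f hf hc
  have dy : ∀ (t : List Ω → M) l, Sg l → dS (fun l' => Sg l' ∧ lab l' = lab l) t l = dS Sg t l :=
    fun t l a => cb_congr fun l' b _ => by
      by_cases c : Sg l'
      · rw [ind_pos t c, ind_pos t (Sg := fun l' => Sg l' ∧ lab l' = lab l) ⟨c, hm _ _ b c a⟩]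
      · rw [ind_neg t c, ind_neg t (Sg := fun l' => Sg l' ∧ lab l' = lab l) fun d => c d.1]
  choose t ht e using fun y => hv y f
    ⟨fun l a b => hf.mem l a b.1, fun g hg l a b => hf.eqv g hg.1 l a b.1⟩
    fun l a b => by obtain ⟨b, rfl⟩ := b; rw [dy f l b]; exact hc l a b
  obtain ⟨r, a, ha, ea, hr⟩ := exists_reps H (cj (G := G)) cj_one cj_mul
  have h0 : ∀ l, Sg l → Sg (sl (a (lab l))⁻¹ l) ∧ lab (sl (a (lab l))⁻¹ l) = r (lab l) :=
    fun l b => ⟨h.inv _ (H.inv_mem (ha _)) l b, by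
      rw [hi _ (H.inv_mem (ha _)) l b, cj_eq_iff_eq_cj_inv, inv_inv, ea]⟩
  refine ⟨fun l => a (lab l) • t (r (lab l)) (sl (a (lab l))⁻¹ l), ⟨fun l b c => ?_,
    fun g hg l b c => ?_⟩, fun l b c => ?_⟩
  · have := h.smulU _ (ha (lab l)) _ (h0 l c).1 _ ((ht _).mem _ (by rw [sl_length, b]) (h0 l c))
    rwa [sl_sl_inv] at this
  · rw [hi g hg l c, hr g hg]
    set y := lab l
    have hk : (a (cj g y))⁻¹ * g * a y ∈ H ⊓ normalizer (r y : Set G) :=
      ⟨H.mul_mem (H.mul_mem (H.inv_mem (ha _)) hg) (ha _), cj_eq_iff.1 (by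
        rw [cj_mul, cj_mul, ea, cj_eq_iff_eq_cj_inv, inv_inv, ← hr g hg y, ea])⟩
    have e1 := (ht (r y)).eqv _ hk _ (by rw [sl_length, b]) (h0 l c)
    rw [← sl_mul, mul_inv_cancel_right, sl_mul] at e1
    have := h.smulW _ (ha (cj g y)) _ (h.inv _ (H.inv_mem (ha _)) _ (h.inv g hg l c)) _ e1
    rwa [sl_sl_inv, smul_sub, ← mul_smul, ← mul_assoc, mul_inv_cancel_left, mul_smul] at this
  · set y := lab l with hy
    set l₀ := sl (a y)⁻¹ l with hl₀
    have el : sl (a y) l₀ = l := sl_sl_inv _ _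
    obtain ⟨c0, c1⟩ : Sg l₀ ∧ lab l₀ = r y := h0 l c
    have b0 : l₀.length = k := by rw [hl₀, sl_length, b]
    have e1 := hf.eqv _ (ha y) l₀ b0 c0
    have e2 := h.smulW _ (ha y) _ c0 _ (e (r y) l₀ b0 ⟨c0, c1⟩)
    have e3 := dS_sl h.inv (W l) (ha y) (l := l₀) (t := t (r y))
      (f := fun l => a (lab l) • t (r (lab l)) (sl (a (lab l))⁻¹ l)) fun l' d1 _ d3 => by
        have : lab (sl (a y) l') = y := by rw [hi _ (ha y) l' d3, hm _ _ d1 d3 c0, c1, ea]
        simp only [this, sl_inv_sl, sub_self]; exact (W l).zero_mem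
    rw [← c1, dy _ l₀ c0, c1, el, smul_sub] at e2
    rw [el] at e1 e3
    have := (W l).sub_mem ((W l).add_mem e1 e2) e3
    convert this using 1; abel

section TR

variable {G' M' : Type*} [Group G'] [MulAction G' Ω] [AddCommGroup M'] [DistribMulAction G' M']
  {H' : Subgroup G'} {V Z : List Ω → AddSubgroup M'}

/-- `φ` induces an isomorphism of the systems `U / W` and `V / Z` on `Sg`. -/
structure Iso (H : Subgroup G) (H' : Subgroup G') (k : ℕ) (Sg : List Ω → Prop)
    (U W : List Ω → AddSubgroup M) (V Z : List Ω → AddSubgroup M') (φ : M →+ M') : Prop where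
  left : ∀ g ∈ H, ∃ g' ∈ H', (∀ x : Ω, g • x = g' • x) ∧ ∀ m, φ (g • m) = g' • φ m
  right : ∀ g' ∈ H', ∃ g ∈ H, (∀ x : Ω, g • x = g' • x) ∧ ∀ m, φ (g • m) = g' • φ m
  map : ∀ l, k ≤ l.length + 1 → Sg l → ∀ m ∈ U l, φ m ∈ V l
  surj : ∀ l, k ≤ l.length + 1 → Sg l → ∀ m' ∈ V l, ∃ m ∈ U l, φ m - m' ∈ Z l
  ker : ∀ l, k ≤ l.length + 1 → Sg l → ∀ m ∈ U l, φ m ∈ Z l ↔ m ∈ W l

theorem Iso.van_iff {φ : M →+ M'} (hφ : Iso H H' k Sg U W V Z φ) (h : Sys H Sg U W)
    (h' : Sys H' Sg V Z) : Van H k Sg U W ↔ Van H' k Sg V Z := by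
  have hsl : ∀ (g : G) (g' : G'), (∀ x : Ω, g • x = g' • x) → ∀ l : List Ω, sl g l = sl g' l :=
    fun g g' e l => by simp [sl, e]
  have co1 : ∀ n f, k ≤ n + 1 → Co H n Sg U W f → Co H' n Sg V Z fun l => φ (f l) :=
    fun n f hn hf => ⟨fun l a b => hφ.map l (by omega) b _ (hf.mem l a b), fun g' hg' l a b => by
      obtain ⟨g, hg, e1, e2⟩ := hφ.right g' hg'
      rw [← hsl g g' e1, ← e2, ← map_sub]
      have c := h.inv g hg l b
      exact (hφ.ker _ (by rw [sl_length]; omega) c _ (h.le _ c (hf.eqv g hg l a b))).2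
        (hf.eqv g hg l a b)⟩
  have co2 : ∀ n f', k ≤ n + 1 → Co H' n Sg V Z f' → ∃ f, Co H n Sg U W f ∧
      ∀ l, l.length = n → Sg l → φ (f l) - f' l ∈ Z l := fun n f' hn hf => by
    have : ∀ l, ∃ m, l.length = n → Sg l → m ∈ U l ∧ φ m - f' l ∈ Z l := fun l => by
      by_cases a : l.length = n ∧ Sg l
      · obtain ⟨m, b, c⟩ := hφ.surj l (by omega) a.2 _ (hf.mem l a.1 a.2)
        exact ⟨m, fun _ _ => ⟨b, c⟩⟩
      · exact ⟨0, fun b c => absurd ⟨b, c⟩ a⟩
    choose f e using this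
    refine ⟨f, ⟨fun l a b => (e l a b).1, fun g hg l a b => ?_⟩, fun l a b => (e l a b).2⟩
    obtain ⟨g', hg', e1, e2⟩ := hφ.left g hg
    have c := h.inv g hg l b
    have a' : (sl g l).length = n := by rw [sl_length, a]
    rw [← hφ.ker _ (by omega) c _ ((U _).sub_mem (e _ a' c).1 (h.smulU g hg l b _ (e l a b).1)),
      map_sub, e2]
    have e3 := hf.eqv g' hg' l a b
    have e4 := h'.smulW g' hg' l b _ (e l a b).2
    rw [← hsl g g' e1] at e3 e4
    have := (Z _).sub_mem ((Z _).add_mem (e _ a' c).2 e3) e4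
    rw [smul_sub] at this
    convert this using 1; abel
  constructor
  · intro hv f' hf' hc
    obtain ⟨f, hf, e⟩ := co2 k f' (by omega) hf'
    obtain ⟨s, hs, es⟩ := hv f hf fun l a b => by
      rw [← hφ.ker l (by omega) b _ (Co.dS_mem (k := k + 1) hf h.monoU a b), dS_map]
      have := (Z l).add_mem (dS_congr (Sg := Sg) (f := fun l => φ (f l)) (g := f') (l := l) (Z l)
        fun l' h1 h2 h3 => h'.monoW l' l h1 h3 b (e l' (by omega) h3)) (hc l a b)
      simpa using this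
    refine ⟨_, co1 _ s (by omega) hs, fun l a b => ?_⟩
    have e1 := (hφ.ker l (by omega) b _ (h.le l b (es l a b))).2 (es l a b)
    rw [map_sub, dS_map] at e1
    have := (Z l).sub_mem e1 (e l a b)
    convert this using 1; abel
  · intro hv f hf hc
    obtain ⟨s', hs', es⟩ := hv _ (co1 k f (by omega) hf) fun l a b => by
      rw [← dS_map]; exact (hφ.ker l (by omega) b _ (h.le l b (hc l a b))).2 (hc l a b)
    obtain ⟨s, hs, e⟩ := co2 _ s' (by omega) hs'
    refine ⟨s, hs, fun l a b => ?_⟩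
    rw [← hφ.ker l (by omega) b _ ((U l).sub_mem (hf.mem l a b) (hs.dS_mem h.monoU a b)), map_sub,
      dS_map]
    have := (Z l).sub_mem (es l a b)
      (dS_congr (Sg := Sg) (f := fun l => φ (s l)) (g := s') (l := l) (Z l)
        fun l' h1 h2 h3 => h'.monoW l' l h1 h3 b (e l' (by omega) h3))
    convert this using 1; abel

end TR

end Cfsg.Agent.LK
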