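import Cfsg.Agent.Lib.LK.NL

/-!
Row TV of docs/LK_PLAN.md, part 1: the calculus of transvections.
-/

set_option autoImplicit false
set_option linter.style.haveILetI false

namespace Cfsg.Agent.LK.TV

open Cfsg Subgroup Cfsg.Agent.Tr MulAction NL

variable {G M X : Type*} [Group G] [AddCommGroup M] [DistribMulAction G M] [MulAction G X]

/-- `t` is a transvection with centre `c`. -/
structure TC (t : G) (c : M) : Prop where
  ne : c ≠ 0
  ex : ∃ d : M, t • d ≠ d
  all : ∀ d : M, t • d = d ∨ t • d = d + c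

variable (G M) in
/-- Faithfulness. -/
def Ff : Prop := ∀ g : G, (∀ d : M, g • d = d) → g = 1

variable {s t t' r u a b g : G} {c c' e f d d' : M} {P : Subgroup G}

theorem Ff.ext (hf : Ff G M) (h : ∀ d : M, a • d = b • d) : a = b :=
  (inv_mul_eq_one.1 (hf (b⁻¹ * a) fun d => by rw [mul_smul, h, inv_smul_smul])).symm

theorem exists_tc (h : Tv (⊤ : AddSubgroup M) t) : ∃ c : M, TC t c := by
  obtain ⟨⟨d, -, hd⟩, c, hc⟩ := h
  refine ⟨c, ?_, ⟨d, hd⟩, fun d => hc d trivial⟩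
  rintro rfl
  exact hd (by simpa using hc d trivial)

namespace TC

theorem tv (h : TC t c) : Tv (⊤ : AddSubgroup M) t :=
  ⟨h.ex.imp fun _ hd => ⟨trivial, hd⟩, c, fun d _ => h.all d⟩

theorem mv (h : TC t c) (hd : t • d ≠ d) : t • d = d + c := (h.all d).resolve_left hd

theorem two (h : TC t c) : c + c = 0 := by
  obtain ⟨d, hd⟩ := h.ex
  have := h.mv (d := -d) (by rwa [smul_neg, ne_eq, neg_inj])
  rw [smul_neg, h.mv hd] at this
  linear_combination (norm := abel) -this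

theorem fix (h : TC t c) : t • c = c := by
  by_contra hc
  have := h.mv hc
  rw [h.two, smul_eq_zero_iff_eq] at this
  exact h.ne this

theorem smul_smul (h : TC t c) (d : M) : t • t • d = d := by
  rcases h.all d with e | e
  · rw [e, e]
  · rw [e, smul_add, e, h.fix, add_assoc, h.two, add_zero]

theorem sq (h : TC t c) (hf : Ff G M) : t * t = 1 := hf _ fun d => by rw [mul_smul, h.smul_smul]

theorem inv (h : TC t c) (hf : Ff G M) : t⁻¹ = t := inv_eq_of_mul_eq_one_right (h.sq hf)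

theorem inv_smul (h : TC t c) (d : M) : t⁻¹ • d = t • d := by rw [inv_smul_eq_iff, h.smul_smul]

theorem uniq (h : TC t c) (h' : TC t c') : c = c' := by
  obtain ⟨d, hd⟩ := h.ex
  exact add_left_cancel ((h.mv hd).symm.trans (h'.mv hd))

theorem conj (h : TC t c) (g : G) : TC (g * t * g⁻¹) (g • c) where
  ne := fun e => h.ne ((smul_eq_zero_iff_eq g).1 e)
  ex := by
    obtain ⟨d, hd⟩ := h.ex
    exact ⟨g • d, by simpa [mul_smul] using hd⟩
  all d := by
    rcases h.all (g⁻¹ • d) with e | e <;> simp [mul_smul, e]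

theorem add (h : TC t c) (hd : t • d ≠ d) (hd' : t • d' ≠ d') : t • (d + d') = d + d' := by
  rw [smul_add, h.mv hd, h.mv hd']
  linear_combination (norm := abel) h.two

theorem ext (h : TC t c) (h' : TC t' c) (hf : Ff G M) (ha : ∀ d : M, t • d = d ↔ t' • d = d) :
    t = t' := hf.ext fun d => by
  by_cases hd : t • d = d
  · rw [hd, (ha d).1 hd]
  · rw [h.mv hd, h'.mv fun e => hd ((ha d).2 e)]

theorem comm (hs : TC s e) (ht : TC t c) (hf : Ff G M) (h₁ : t • e = e) (h₂ : s • c = c) :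
    s * t = t * s := hf.ext fun d => by
  rcases hs.all d with e₁ | e₁ <;> rcases ht.all d with e₂ | e₂ <;>
    simp only [mul_smul, smul_add, e₁, e₂, h₁, h₂]
  abel

theorem fix_of_comm (ht : TC t c) (h : s * t = t * s) : s • c = c := by
  have := ht.conj s
  rw [h, mul_inv_cancel_right] at this
  exact this.uniq ht

theorem ax (hs : TC s e) (h : t • e = e) (d : M) : (s * t * s⁻¹) • d = d ↔ t • d = d := by
  rw [mul_smul, mul_smul, smul_eq_iff_eq_inv_smul, hs.inv_smul]
  rcases hs.all d with e | e <;> simp [e, h]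

theorem partner (hs : TC s e) (ht : TC t c) (h₁ : t • e = e) (h₂ : s • c ≠ c) :
    SameAx M t (s * t * s⁻¹) :=
  ⟨ht.tv, (ht.conj s).tv, fun h => h₂ ((ht.conj s).uniq (h ▸ ht)), fun d => (hs.ax h₁ d).symm⟩

theorem braid (hs : TC s e) (ht : TC t c) (hf : Ff G M) (h₁ : t • e ≠ e) (h₂ : s • c ≠ c) :
    s * t * s = t * s * t := hf.ext fun d => by
  rcases hs.all d with e₁ | e₁ <;> rcases ht.all d with e₂ | e₂ <;>
    simp only [mul_smul, smul_add, e₁, e₂, ht.mv h₁, hs.mv h₂, hs.fix, ht.fix]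
  · linear_combination (norm := abel) -ht.two
  · linear_combination (norm := abel) hs.two
  · linear_combination (norm := abel) hs.two - ht.two

theorem swap (hs : TC s e) (ht : TC t c) (hf : Ff G M) (h₁ : t • e ≠ e) (h₂ : s • c ≠ c) :
    s * t * s⁻¹ * s * (s * t * s⁻¹)⁻¹ = t := by
  calc _ = s * t * s * t⁻¹ * s⁻¹ := by group
    _ = t := by rw [hs.braid ht hf h₁ h₂]; group

theorem not_two (hs : TC s e) (ht : TC t c) (hf : Ff G M) (hP : IsPGroup 2 P) (h₁ : s ∈ P)
    (h₂ : t ∈ P) : t • e = e ∨ s • c = c := by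
  by_contra h
  push Not at h
  have h3 : (s * t) ^ 3 = 1 := by
    calc _ = s * t * s * (t * s * t) := by simp only [pow_succ, pow_zero, one_mul, mul_assoc]
      _ = s * (t * (s * s) * t) * s := by rw [← hs.braid ht hf h.1 h.2]; group
      _ = 1 := by rw [hs.sq hf, mul_one, ht.sq hf, mul_one, hs.sq hf]
  obtain ⟨k, hk⟩ := isPGroup_iff_forall_mem.1 hP _ (mul_mem h₁ h₂)
  have := Nat.dvd_gcd (orderOf_dvd_of_pow_eq_one h3) (orderOf_dvd_of_pow_eq_one hk)
  rw [(Nat.Coprime.pow_right k (by norm_num) : Nat.Coprime 3 (2 ^ k)), Nat.dvd_one,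
    orderOf_eq_one_iff, mul_eq_one_iff_eq_inv, ht.inv hf] at this
  exact h.2 (this ▸ ht.fix)

theorem mul_ax (h : TC t c) (h' : TC t' c') (hc : c ≠ c') (ha : ∀ d : M, t • d = d ↔ t' • d = d) :
    TC (t * t') (c + c') ∧ ∀ d : M, (t * t') • d = d ↔ t • d = d := by
  have hn : c + c' ≠ 0 := fun e => hc (add_left_cancel (h.two.trans e.symm))
  have k : ∀ d : M, t • d ≠ d → (t * t') • d = d + (c + c') := fun d hd => by
    rw [mul_smul, h'.mv fun e => hd ((ha d).2 e), smul_add, h.mv hd, (ha c').2 h'.fix, add_assoc]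
  have k' : ∀ d : M, (t * t') • d = d ↔ t • d = d := fun d =>
    ⟨fun e => by_contra fun hd => hn (by simpa [k d hd] using e),
      fun e => by rw [mul_smul, (ha d).1 e, e]⟩
  refine ⟨⟨hn, h.ex.imp fun d hd e => hd ((k' d).1 e), fun d => ?_⟩, k'⟩
  by_cases hd : t • d = d
  · exact Or.inl ((k' d).2 hd)
  · exact Or.inr (k d hd)

theorem mul_cen (h : TC t c) (h' : TC t' c) (hf : Ff G M) (hn : t ≠ t') :
    TC (t * t') c ∧ ∀ d : M, (t * t') • d = d ↔ (t • d = d ↔ t' • d = d) := by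
  have k : ∀ d : M, (t * t') • d = d ↔ (t • d = d ↔ t' • d = d) := fun d => by
    rcases h.all d with e₁ | e₁ <;> rcases h'.all d with e₂ | e₂ <;>
      simp [mul_smul, e₁, e₂, h.fix, h.ne, add_assoc, h.two]
  refine ⟨⟨h.ne, ?_, fun d => ?_⟩, k⟩
  · by_contra hx
    push Not at hx
    exact hn (h.ext h' hf fun d => (k d).1 (hx d))
  · rcases h.all d with e₁ | e₁ <;> rcases h'.all d with e₂ | e₂ <;>
      simp [mul_smul, e₁, e₂, h.fix, add_assoc, h.two]

/-- Sums over sets paired by a transvection. -/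
theorem pair_sum (h : TC a c) (hf : Ff G M) {U : Finset X} (hU : ∀ x ∈ U, a • x ∈ U)
    (hm : ∀ x ∈ U, a • x ≠ x) {F : X → M} (hF : ∀ x ∈ U, F (a • x) = a • F x)
    (h2 : ∀ x ∈ U, 2 • F x = 0) : ∑ x ∈ U, F x = 0 ∨ ∑ x ∈ U, F x = c := by
  let V : AddSubgroup M :=
    { carrier := {x | x = 0 ∨ x = c}
      zero_mem' := Or.inl rfl
      add_mem' := by rintro _ _ (rfl | rfl) (rfl | rfl) <;> simp [h.two]
      neg_mem' := by rintro _ (rfl | rfl) <;> simp [neg_eq_of_add_eq_zero_left h.two] }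
  have : QuotientAddGroup.mk' V (∑ x ∈ U, F x) = 0 := by
    rw [map_sum]
    refine Finset.sum_involution (fun x _ => a • x) (fun x hx => ?_) (fun x hx _ => hm x hx) hU
      fun x _ => by rw [← mul_smul, h.sq hf, one_smul]
    rw [← map_add, QuotientAddGroup.mk'_apply, QuotientAddGroup.eq_zero_iff, hF x hx]
    have := h2 x hx
    rcases h.all (F x) with e | e <;> rw [e]
    · exact Or.inl (by rw [← two_smul ℕ, this])
    · exact Or.inr (by rw [← add_assoc, ← two_smul ℕ, this, zero_add])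
  exact (QuotientAddGroup.eq_zero_iff (N := V) _).1 this

end TC

theorem sameAx_conj (h : SameAx M t t') (g : G) : SameAx M (g * t * g⁻¹) (g * t' * g⁻¹) := by
  obtain ⟨c, hc⟩ := exists_tc h.1
  obtain ⟨c', hc'⟩ := exists_tc h.2.1
  refine ⟨(hc.conj g).tv, (hc'.conj g).tv, fun e => h.2.2.1 (by simpa using e), fun d => ?_⟩
  simp only [mul_smul, smul_eq_iff_eq_inv_smul g, h.2.2.2]

theorem T1_conj (h : T1 M t) (g : G) : T1 M (g * t * g⁻¹) := ⟨_, sameAx_conj h.choose_spec g⟩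

theorem T1_of_conj (h : T1 M (g * t * g⁻¹)) : T1 M t := by simpa [mul_assoc] using T1_conj h g⁻¹

theorem T0_conj (h : T0 M t) (g : G) : T0 M (g * t * g⁻¹) :=
  ⟨((exists_tc h.1).choose_spec.conj g).tv, fun h' => h.2 (T1_of_conj h')⟩

theorem T0_conj' (h : T0 M t) (g : G) : T0 M (g⁻¹ * t * g) := by simpa using T0_conj h g⁻¹

theorem comm_of_fix (hf : Ff G M) (h : T0 M t) (hs : TC s e) (h₁ : t • e = e) : s * t = t * s := by
  obtain ⟨c, ht⟩ := exists_tc h.1
  exact hs.comm ht hf h₁ (by_contra fun h₂ => h.2 ⟨_, hs.partner ht h₁ h₂⟩)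

theorem comm_of_mem (hf : Ff G M) (hP : IsPGroup 2 P) (hs : T0 M s) (ht : T0 M t) (h₁ : s ∈ P)
    (h₂ : t ∈ P) : s * t = t * s := by
  obtain ⟨e, he⟩ := exists_tc hs.1
  obtain ⟨c, hc⟩ := exists_tc ht.1
  rcases he.not_two hc hf hP h₁ h₂ with h | h
  · exact comm_of_fix hf ht he h
  · exact (comm_of_fix hf hs hc h).symm

theorem sameAx_comm (hf : Ff G M) (h : SameAx M t t') : t * t' = t' * t := by
  obtain ⟨c, hc⟩ := exists_tc h.1
  obtain ⟨c', hc'⟩ := exists_tc h.2.1
  exact hc.comm hc' hf ((h.2.2.2 c).1 hc.fix) ((h.2.2.2 c').2 hc'.fix)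

theorem dih (ha : a * a = 1) (hb : b * b = 1) (h : (a * b) ^ 4 = 1) :
    IsPGroup 2 (closure {a, b} : Subgroup G) := by
  have hi := inv_eq_of_mul_eq_one_right ha
  refine (isPGroup_sup_of_le_normalizer (isPGroup_zpowers (x := a) (k := 1) (by rw [pow_one, sq, ha]))
    (isPGroup_zpowers (x := a * b) (k := 2) h) (zpowers_le.2 (cj_eq_iff.1 ?_))).to_le ?_
  · rw [cj_zpowers, ← zpowers_inv (g := a * b), mul_inv_rev, ← mul_assoc, ha, one_mul,
      inv_eq_of_mul_eq_one_right hb]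
  · rw [closure_le]
    rintro x (rfl | rfl)
    · exact mem_sup_left (mem_zpowers _)
    · have := mul_mem (mem_sup_left (mem_zpowers a)) (mem_sup_right (mem_zpowers (a * x)) :
        _ ∈ zpowers a ⊔ zpowers (a * x))
      rwa [← mul_assoc, ha, one_mul] at this

theorem pow_four (hf : Ff G M) (hu : TC u c) (hr : TC r f) (h : u • f = f) : (u * r) ^ 4 = 1 := by
  have hc := hu.comm (hu.conj r) hf ((hr.ax h c).2 hu.fix)
    (by rcases hr.all c with e | e <;> simp [e, hu.fix, h])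
  have h2 := (hu.conj r).sq hf
  rw [hr.inv hf] at hc h2
  calc _ = u * ((r * u * r) * u) * (r * u * r) := by
        simp only [pow_succ, pow_zero, one_mul, mul_assoc]
    _ = 1 := by rw [← hc, ← mul_assoc u u, hu.sq hf, one_mul, h2]

variable [Finite G]

theorem pair_Jn (hf : Ff G M) (h : Pair M P) : Pair M (Jn 2 (⊤ : AddSubgroup M) P) := by
  obtain ⟨t, ht, t', ht', h⟩ := h
  obtain ⟨c, hc⟩ := exists_tc h.1
  obtain ⟨c', hc'⟩ := exists_tc h.2.1
  have m₁ : t ∈ closure {t, t'} := subset_closure (by simp)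
  have m₂ : t' ∈ closure {t, t'} := subset_closure (by simp)
  have : closure {t, t'} ≤ Jn 2 (⊤ : AddSubgroup M) P := le_Jn (by
      rw [closure_le]; rintro _ (rfl | rfl) <;> assumption) (nt_iff.2 fun w _ h2 hw => by
    have hm : ∀ x ∈ orb (closure {t, t'}) w, t • x ≠ x := fun x hx e => by
      obtain ⟨b, hb, rfl⟩ := mem_orb.1 hx
      have : closure {t, t'} ≤ stabilizer G (b • w) := by
        rw [closure_le]
        rintro _ (rfl | rfl)
        exacts [e, (h.2.2.2 _).1 e]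
      refine hw fun g hg => ?_
      have := this (mul_mem (mul_mem hb hg) (inv_mem hb))
      simpa [mul_smul] using this
    have h2' : ∀ x ∈ orb (closure {t, t'}) w, 2 • x = 0 := fun x hx => by
      obtain ⟨b, -, rfl⟩ := mem_orb.1 hx
      rw [smul_comm, h2, smul_zero]
    rcases hc.pair_sum hf (fun x hx => smul_mem_orb m₁ hx) hm (F := id) (fun _ _ => rfl) h2'
      with e | e
    · exact e
    rcases hc'.pair_sum hf (fun x hx => smul_mem_orb m₂ hx)
      (fun x hx e => hm x hx ((h.2.2.2 x).2 e)) (F := id) (fun _ _ => rfl) h2' with e' | e'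
    · exact e'
    · exact absurd (hc.ext (e.symm.trans e' ▸ hc') hf h.2.2.2) h.2.2.1)
  exact ⟨t, this m₁, t', this m₂, h⟩

theorem pair_of_normalizer (hf : Ff G M) {Y T : Subgroup G} (hY : IsPGroup 2 Y)
    (hc : Y = closure {t | t ∈ Y ∧ T1 M t}) (h0 : Y ≠ ⊥) (hp : ¬ Pair M Y)
    (hT : SylowIn 2 T (normalizer (Y : Set G))) : Pair M T := by
  have fx : ∀ {s t : G} {e c : M}, s ∈ Y → t ∈ Y → TC s e → TC t c → s • c = c := by
    intro s t e c hs ht he hc
    by_contra h
    exact hp ⟨t, ht, _, mul_mem (mul_mem hs ht) (inv_mem hs),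
      he.partner hc ((he.not_two hc hf hY hs ht).resolve_right h) h⟩
  have nz : ∀ g : G, (∀ s ∈ Y, T1 M s → g * s * g⁻¹ ∈ Y) → g ∈ normalizer (Y : Set G) :=
    fun g h => mem_normalizer_of_cj_le (by
      conv_lhs => rw [hc, cj_closure]
      rw [closure_le]
      rintro _ ⟨s, hs, rfl⟩
      exact h s hs.1 hs.2)
  obtain ⟨t, ht, t', h⟩ : ∃ t, t ∈ Y ∧ T1 M t := by
    by_contra h
    rw [show {t | t ∈ Y ∧ T1 M t} = ∅ from Set.eq_empty_of_forall_notMem fun t ht => h ⟨t, ht⟩,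
      Subgroup.closure_empty] at hc
    exact h0 hc
  obtain ⟨c, hc⟩ := exists_tc h.1
  obtain ⟨c', hc'⟩ := exists_tc h.2.1
  obtain ⟨u, hu, h'⟩ : ∃ u ∈ normalizer (Y : Set G), SameAx M t u := by
    by_cases hx : ∃ s ∈ Y, ∃ e, TC s e ∧ s • c' ≠ c' ∧ e ≠ c
    · obtain ⟨s, hs, e, he, h₁, h₂⟩ := hx
      have k := (h.2.2.2 e).1 (fx ht hs hc he)
      obtain ⟨k₁, k₂⟩ := hc'.mul_ax (hc'.conj s) (Ne.symm h₁) fun d => (he.ax k d).symm
      rw [he.mv h₁, ← add_assoc, hc'.two, zero_add] at k₁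
      refine ⟨_, nz _ fun y hy hy' => ?_, hc.tv, k₁.tv, fun e => h₂ (k₁.uniq (e ▸ hc)),
        fun d => (h.2.2.2 d).trans (k₂ d).symm⟩
      obtain ⟨f, hf'⟩ := exists_tc hy'.choose_spec.1
      rw [k₁.comm hf' hf (fx hy hs hf' he) ((k₂ f).2 ((h.2.2.2 f).1 (fx ht hy hc hf'))),
        mul_inv_cancel_right]
      exact hy
    · push Not at hx
      refine ⟨t', nz _ fun s hs hs' => ?_, h⟩
      obtain ⟨e, he⟩ := exists_tc hs'.choose_spec.1
      have k := (h.2.2.2 e).1 (fx ht hs hc he)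
      by_cases h₁ : s • c' = c'
      · rw [hc'.comm he hf h₁ k, mul_inv_cancel_right]
        exact hs
      obtain rfl := hx s hs e he h₁
      suffices t' * s * t'⁻¹ = s * t from this ▸ mul_mem hs ht
      refine hf.ext fun d => ?_
      rw [mul_smul, mul_smul, mul_smul, hc'.inv_smul]
      by_cases hd : t • d = d
      · have hd' := (h.2.2.2 d).1 hd
        rcases he.all d with e | e <;> simp [e, hd, hd', k]
      · have hd' := hc'.mv fun e => hd ((h.2.2.2 d).2 e)
        rcases he.all d with e | e <;>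
          simp only [e, hc.mv hd, hd', k, smul_add, he.mv h₁, hc'.fix, he.fix] <;>
          linear_combination (norm := abel) hc'.two
  obtain ⟨c'', hc''⟩ := exists_tc h'.2.1
  obtain ⟨x, -, hx⟩ := hT.exists_cj_le (dih (hc.sq hf) (hc''.sq hf)
    (pow_four hf hc hc'' ((h'.2.2.2 _).2 hc''.fix))) (by
      rw [closure_le]
      rintro _ (rfl | rfl)
      exacts [le_normalizer ht, hu])
  exact ⟨_, cj_le_iff.1 hx t (subset_closure (by simp)), _,
    cj_le_iff.1 hx u (subset_closure (by simp)), sameAx_conj h' x⟩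

theorem exists_opp (hf : Ff G M) (hO : pCore 2 G = ⊥) (hu : TC u c) :
    ∃ g : G, u • g • c ≠ g • c ∧ (g * u * g⁻¹) • c ≠ c := by
  by_contra h
  push Not at h
  have : u ∈ pCore 2 G := Fit.mem_pCore_of_forall_conj u fun g => by
    by_cases e : u • g • c = g • c
    · exact dih (hu.sq hf) ((hu.conj g).sq hf) (pow_four hf hu (hu.conj g) e)
    · rw [Set.pair_comm]
      exact dih ((hu.conj g).sq hf) (hu.sq hf) (pow_four hf (hu.conj g) hu (h g e))
  rw [hO, mem_bot] at this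
  obtain ⟨d, hd⟩ := hu.ex
  exact hd (by rw [this, one_smul])

/-- Transvections without a same-axis partner have no same-centre partner. -/
theorem eq_of_cen (hf : Ff G M) (hO : pCore 2 G = ⊥) (h : T0 M t) (hc : TC t c) (hc' : TC t' c) :
    t = t' := by
  by_contra hn
  obtain ⟨g, h₁, h₂⟩ := exists_opp hf hO hc'
  have h₃ : t • g • c ≠ g • c := fun e => h.2 ⟨_, (hc'.conj g).partner hc e h₂⟩
  obtain ⟨k₁, k₂⟩ := hc.mul_cen hc' hf hn
  have k₃ : T1 M (t * t') := ⟨_, (hc'.conj g).partner k₁ ((k₂ _).2 (iff_of_false h₃ h₁)) h₂⟩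
  obtain ⟨g', -, h₂'⟩ := exists_opp hf hO k₁
  have h₃' : t • g' • c ≠ g' • c := fun e => h.2 ⟨_, (k₁.conj g').partner hc e h₂'⟩
  exact h.2 ((k₁.conj g').swap hc hf h₃' h₂' ▸ T1_conj (T1_conj k₃ g') _)

end Cfsg.Agent.LK.TV
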